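import Mathlib

/-!
Permutations of nine points as base-16 numerals.
-/

set_option autoImplicit false

namespace CfsgLib.NineNormalizer

/-- The `i`-th base-16 digit. -/
def dig (a i : ℕ) : ℕ := (a >>> (4 * i)) % 16

/-- The numeral with nine prescribed digits. -/
def pack (f : ℕ → ℕ) : ℕ :=
  f 0 + 16 * (f 1 + 16 * (f 2 + 16 * (f 3 + 16 * (f 4 + 16 * (f 5 + 16 * (f 6 + 16 * (f 7 + 16 * f 8)))))))

/-- Composition of coded permutations. -/
def comp (a b : ℕ) : ℕ := pack fun i => dig a (dig b i)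

/-- Inverse of a coded permutation. -/
def cinv (a : ℕ) : ℕ :=
  1 * 16 ^ dig a 1 + 2 * 16 ^ dig a 2 + 3 * 16 ^ dig a 3 + 4 * 16 ^ dig a 4 + 5 * 16 ^ dig a 5 +
    6 * 16 ^ dig a 6 + 7 * 16 ^ dig a 7 + 8 * 16 ^ dig a 8

/-- The code of a permutation of nine points. -/
def code (σ : Equiv.Perm (Fin 9)) : ℕ :=
  pack fun i => if h : i < 9 then ((σ ⟨i, h⟩ : Fin 9) : ℕ) else 0

theorem dig_pack (f : ℕ → ℕ) (hf : ∀ i, i < 9 → f i < 16) {i : ℕ} (hi : i < 9) :
    dig (pack f) i = f i := by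
  have := hf 0 (by norm_num); have := hf 1 (by norm_num); have := hf 2 (by norm_num)
  have := hf 3 (by norm_num); have := hf 4 (by norm_num); have := hf 5 (by norm_num)
  have := hf 6 (by norm_num); have := hf 7 (by norm_num); have := hf 8 (by norm_num)
  rw [dig, Nat.shiftRight_eq_div_pow]
  interval_cases i <;> simp only [pack, Nat.reduceMul, Nat.reducePow] <;> omega

theorem dig_code (σ : Equiv.Perm (Fin 9)) (i : Fin 9) : dig (code σ) i = (σ i : ℕ) := by
  rw [code, dig_pack _ (fun j hj => by rw [dif_pos hj]; omega) i.2, dif_pos i.2]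

theorem code_inj : Function.Injective code := fun σ τ h => Equiv.ext fun i =>
  Fin.ext (by rw [← dig_code σ i, h, dig_code])

theorem code_mul (σ τ : Equiv.Perm (Fin 9)) : code (σ * τ) = comp (code σ) (code τ) := by
  have h : ∀ i : Fin 9, dig (code σ) (dig (code τ) i) = ((σ * τ) i : ℕ) := fun i => by
    rw [dig_code, dig_code, Equiv.Perm.mul_apply]
  have h0 := h 0; have h1 := h 1; have h2 := h 2; have h3 := h 3; have h4 := h 4
  have h5 := h 5; have h6 := h 6; have h7 := h 7; have h8 := h 8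
  simp only [comp, code, pack] at *
  simp only [show ((0 : Fin 9) : ℕ) = 0 from rfl, show ((1 : Fin 9) : ℕ) = 1 from rfl,
    show ((2 : Fin 9) : ℕ) = 2 from rfl, show ((3 : Fin 9) : ℕ) = 3 from rfl,
    show ((4 : Fin 9) : ℕ) = 4 from rfl, show ((5 : Fin 9) : ℕ) = 5 from rfl,
    show ((6 : Fin 9) : ℕ) = 6 from rfl, show ((7 : Fin 9) : ℕ) = 7 from rfl,
    show ((8 : Fin 9) : ℕ) = 8 from rfl] at h0 h1 h2 h3 h4 h5 h6 h7 h8
  rw [h0, h1, h2, h3, h4, h5, h6, h7, h8]
  rfl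

theorem code_inv (σ : Equiv.Perm (Fin 9)) : code σ⁻¹ = cinv (code σ) := by
  have e : ∀ τ : Equiv.Perm (Fin 9), code τ = ∑ i : Fin 9, (τ i : ℕ) * 16 ^ (i : ℕ) := by
    intro τ
    simp only [code, pack, Fin.sum_univ_succ, Fin.sum_univ_zero]
    simp
    ring
  rw [e σ⁻¹, ← Equiv.sum_comp σ (fun i : Fin 9 => (σ⁻¹ i : ℕ) * 16 ^ (i : ℕ))]
  simp only [Equiv.Perm.inv_def, Equiv.symm_apply_apply]
  have hd : ∀ i : Fin 9, (σ i : ℕ) = dig (code σ) i := fun i => (dig_code σ i).symm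
  simp only [hd, cinv, Fin.sum_univ_succ, Fin.sum_univ_zero]
  simp
  ring

end CfsgLib.NineNormalizer
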