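import Mathlib
import Cfsg.Agent.Lib.NineNormalizer.Code
import Cfsg.Agent.Lib.NineNormalizer.Table

/-!
Finite checks on the tables.
-/

set_option autoImplicit false

namespace CfsgLib.NineNormalizer

/-- The code of element `n`. -/
def elt (n : ℕ) : ℕ := (eltTab >>> (36 * n)) % 68719476736

/-- The class number of element `n`. -/
def cls (n : ℕ) : ℕ := (clsTab >>> (4 * n)) % 16

/-- A conjugating element from the class representative. -/
def wit (n : ℕ) : ℕ := (witTab >>> (10 * n)) % 1024

/-- Recover the index from a code. -/
def idx (c : ℕ) : ℕ :=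
  let p0 := dig c 0 / 3
  let p3 := dig c 3 / 3
  let q := 2 * p0 + if p0 < p3 then p3 - 1 else p3
  let s : ℕ → ℕ := fun i => if (dig c (3 * i + 1) + 9 - dig c (3 * i)) % 3 = 1 then 0 else 1
  ((((dig c 0 % 3) * 3 + dig c 3 % 3) * 3 + dig c 6 % 3) * 6 + q) * 4 + s 0 * 2 + s 1

/-- The code is that of an element of the group. -/
def inW (c : ℕ) : Bool := decide (idx c < 648) && (elt (idx c) == c)

/-- All numbers below 648. -/
abbrev all648 (p : ℕ → Bool) : Bool := (List.range 648).all p

theorem all648_spec {p : ℕ → Bool} (h : all648 p = true) {n : ℕ} (hn : n < 648) : p n = true :=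
  List.all_eq_true.mp h n (List.mem_range.mpr hn)

theorem idx_elt : all648 (fun n => idx (elt n) == n) = true := by decide +kernel

theorem id_code : elt idIdx = 36344967696 := by decide +kernel

theorem gen_closed : all648 (fun n =>
    (genCodes ++ genInvCodes).all fun g => inW (comp g (elt n))) = true := by decide +kernel

theorem word_step : all648 (fun n => (n == idIdx) ||
    (decide ((parTab >>> (10 * n)) % 1024 < 648) &&
      decide ((rankTab >>> (10 * ((parTab >>> (10 * n)) % 1024))) % 1024 < (rankTab >>> (10 * n)) % 1024) &&
      (elt n == comp (genCodes.getD ((genTab >>> (2 * n)) % 4) 0)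
        (elt ((parTab >>> (10 * n)) % 1024))))) = true := by decide +kernel

theorem conj_wit : all648 (fun n => decide (cls n < 14) && decide (wit n < 648) &&
    (comp (comp (cinv (elt (wit n))) (elt (repIdx.getD (cls n) 0))) (elt (wit n)) == elt n)) = true := by
  decide +kernel

theorem rep_lt : repIdx.all (fun n => decide (n < 648)) = true := by decide +kernel

theorem conj_closed : all648 (fun n => genCodes.all fun g =>
    cls (idx (comp (comp g (elt n)) (cinv g))) == cls n) = true := by decide +kernel

end CfsgLib.NineNormalizer
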