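import Mathlib
import Cfsg.Agent.Lib.NineNormalizer.Checks

/-!
Finite checks on the nine monomial characters and the six virtual characters.
-/

set_option autoImplicit false

namespace CfsgLib.NineNormalizer

/-- Exponent of the `k`-th linear character at element `n`; `15` off its subgroup. -/
def expo (k n : ℕ) : ℕ := (expTab.getD k 0 >>> (4 * n)) % 16

/-- `ℤ[ζ₁₂]` in the basis `1, ζ, ζ², ζ³`. -/
abbrev Cyc := ℤ × ℤ × ℤ × ℤ

/-- Multiplication by `ζ`. -/
def shift : Cyc → Cyc := fun (a, b, c, d) => (-d, a, b + d, c)

/-- The powers of `ζ`. -/
def zpw (e : ℕ) : Cyc := shift^[e] (1, 0, 0, 0)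

/-- The value of a linear character extended by zero. -/
def zval (e : ℕ) : Cyc := if e < 12 then zpw e else 0

/-- Componentwise sum. -/
def zsum : List Cyc → Cyc := fun l => l.foldr (fun x y => x + y) 0

theorem mem_idx : (List.range 9).all (fun k => decide (expo k idIdx = 0)) = true := by decide +kernel

theorem hom_check : (List.range 9).all (fun k =>
    let L := (List.range 648).filter fun n => decide (expo k n < 12)
    (L.length == indSize.getD k 0) && L.all fun m =>
      let cm := elt m
      L.all fun n => expo k (idx (comp cm (elt n))) == (expo k m + expo k n) % 12) = true := by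
  decide +kernel

theorem val_check : (List.range 9).all (fun k => (List.range 14).all fun c =>
    let r := elt (repIdx.getD c 0)
    let v := (indVal.getD k []).getD c (0, 0)
    let s : ℤ := (indSize.getD k 0 : ℕ)
    zsum ((List.range 648).map fun n =>
      let x := elt n
      zval (expo k (idx (comp (comp (cinv x) r) x)))) ==
      (s * v.1, s * (2 * v.2), 0, -(s * v.2))) = true := by
  decide +kernel

end CfsgLib.NineNormalizer
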