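import Mathlib
import Cfsg.Agent.Lib.NineNormalizer.Checks

/-!
The group of order 648 on nine points, its indexing and its conjugacy classes.
-/

set_option autoImplicit false

namespace CfsgLib.NineNormalizer

open Equiv

/-- The group generated by the four permutations. -/
def W : Subgroup (Equiv.Perm (Fin 9)) := Subgroup.closure {Equiv.swap (0 : Fin 9) 1 * Equiv.swap 1 2,
  Equiv.swap (0 : Fin 9) 3 * Equiv.swap 3 6 * (Equiv.swap (1 : Fin 9) 4 * Equiv.swap 4 7) *
    (Equiv.swap (2 : Fin 9) 5 * Equiv.swap 5 8),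
  Equiv.swap (0 : Fin 9) 1 * Equiv.swap 3 4,
  Equiv.swap (0 : Fin 9) 3 * Equiv.swap 1 4 * Equiv.swap 2 5 * Equiv.swap 6 7}

/-- The four generators. -/
def gens : List (Equiv.Perm (Fin 9)) := [Equiv.swap (0 : Fin 9) 1 * Equiv.swap 1 2,
  Equiv.swap (0 : Fin 9) 3 * Equiv.swap 3 6 * (Equiv.swap (1 : Fin 9) 4 * Equiv.swap 4 7) *
    (Equiv.swap (2 : Fin 9) 5 * Equiv.swap 5 8),
  Equiv.swap (0 : Fin 9) 1 * Equiv.swap 3 4,
  Equiv.swap (0 : Fin 9) 3 * Equiv.swap 1 4 * Equiv.swap 2 5 * Equiv.swap 6 7]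

theorem gens_code : gens.map code = genCodes := by decide +kernel

theorem gens_inv_code : gens.map (fun g => code g⁻¹) = genInvCodes := by decide +kernel

theorem code_one : code 1 = 36344967696 := by decide +kernel

theorem mem_gens {g : Equiv.Perm (Fin 9)} (hg : g ∈ gens) : g ∈ W :=
  Subgroup.subset_closure (by simpa [gens] using hg)

theorem W_eq_closure : W = Subgroup.closure {g | g ∈ gens} := by
  rw [W]; congr 1; ext g; simp [gens]

theorem inW_iff {c : ℕ} : inW c = true ↔ idx c < 648 ∧ elt (idx c) = c := by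
  simp [inW]

theorem inW_of_lt {n : ℕ} (hn : n < 648) : inW (elt n) = true := by
  have h : idx (elt n) = n := beq_iff_eq.mp (all648_spec idx_elt hn)
  rw [inW_iff, h]
  exact ⟨hn, rfl⟩

theorem inW_step {g : Equiv.Perm (Fin 9)} (hg : g ∈ gens) {σ : Equiv.Perm (Fin 9)}
    (hσ : inW (code σ) = true) : inW (code (g * σ)) = true ∧ inW (code (g⁻¹ * σ)) = true := by
  obtain ⟨h1, h2⟩ := inW_iff.mp hσ
  have h := List.all_eq_true.mp (all648_spec gen_closed h1)
  rw [code_mul, code_mul, ← h2]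
  refine ⟨h _ (List.mem_append_left _ ?_), h _ (List.mem_append_right _ ?_)⟩
  · rw [← gens_code]; exact List.mem_map.mpr ⟨g, hg, rfl⟩
  · rw [← gens_inv_code]; exact List.mem_map.mpr ⟨g, hg, rfl⟩

theorem inW_of_mem {σ : Equiv.Perm (Fin 9)} (hσ : σ ∈ W) : inW (code σ) = true := by
  rw [W_eq_closure] at hσ
  induction hσ using Subgroup.closure_induction_left with
  | one => rw [code_one, ← id_code]; exact inW_of_lt (by decide)
  | mul_left g hg y _ ih => exact (inW_step hg ih).1
  | inv_mul_cancel g hg y _ ih => exact (inW_step hg ih).2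

theorem exists_mem : ∀ n, n < 648 → ∃ σ ∈ W, code σ = elt n := by
  suffices ∀ r n, n < 648 → (rankTab >>> (10 * n)) % 1024 < r → ∃ σ ∈ W, code σ = elt n from
    fun n hn => this 1024 n hn (Nat.mod_lt _ (by norm_num))
  intro r
  induction r with
  | zero => intro n _ h; omega
  | succ r ih =>
    intro n hn hr
    have h := all648_spec word_step hn
    simp only [Bool.or_eq_true, beq_iff_eq, Bool.and_eq_true, decide_eq_true_eq] at h
    rcases h with rfl | ⟨⟨hp, hrk⟩, he⟩
    · exact ⟨1, one_mem W, code_one.trans id_code.symm⟩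
    obtain ⟨σ, hσ, hc⟩ := ih _ hp (by omega)
    have hg : (genTab >>> (2 * n)) % 4 < gens.length := Nat.mod_lt _ (by norm_num)
    refine ⟨gens[(genTab >>> (2 * n)) % 4] * σ, mul_mem (mem_gens (List.getElem_mem hg)) hσ, ?_⟩
    rw [code_mul, hc, he, ← gens_code]
    rw [List.getD_eq_getElem _ _ (by rwa [List.length_map]), List.getElem_map]

/-- The index of an element. -/
def num (w : W) : Fin 648 := ⟨idx (code w.1), (inW_iff.mp (inW_of_mem w.2)).1⟩

theorem elt_num (w : W) : elt (num w) = code w.1 := (inW_iff.mp (inW_of_mem w.2)).2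

theorem num_bijective : Function.Bijective num := by
  constructor
  · intro x y h
    exact Subtype.ext (code_inj (by rw [← elt_num, ← elt_num, h]))
  · intro n
    obtain ⟨σ, hσ, hc⟩ := exists_mem n n.2
    refine ⟨⟨σ, hσ⟩, Fin.ext ?_⟩
    show idx (code σ) = n
    rw [hc]
    exact beq_iff_eq.mp (all648_spec idx_elt n.2)

/-- `W` indexed by `Fin 648`. -/
noncomputable def numEquiv : W ≃ Fin 648 := Equiv.ofBijective num num_bijective

noncomputable instance : Fintype W := Fintype.ofEquiv _ numEquiv.symm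

theorem card_W : Nat.card W = 648 := by
  rw [Nat.card_congr numEquiv, Nat.card_fin]

theorem sum_eq {A : Type*} [AddCommMonoid A] (F : ℕ → A) :
    ∑ w : W, F (num w) = ((List.range 648).map F).sum :=
  (numEquiv.sum_comp fun n => F n.1).trans ((Fin.sum_univ_eq_sum_range F 648).trans rfl)

theorem num_mul (x y : W) : (num (x * y) : ℕ) = idx (comp (elt (num x)) (elt (num y))) := by
  show idx (code (x.1 * y.1)) = _
  rw [code_mul, elt_num, elt_num]

theorem code_inv_W (x : W) : code (x⁻¹ : W).1 = cinv (code x.1) := code_inv x.1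

theorem num_inv (x : W) : (num x⁻¹ : ℕ) = idx (cinv (elt (num x))) := by
  show idx (code (x⁻¹ : W).1) = _
  rw [code_inv_W, elt_num]

theorem num_one : (num 1 : ℕ) = idIdx := by
  show idx (code 1) = _
  rw [code_one, ← id_code]
  exact beq_iff_eq.mp (all648_spec idx_elt (by decide))

/-- The element of given index. -/
noncomputable def ofNum (n : ℕ) : W := if h : n < 648 then numEquiv.symm ⟨n, h⟩ else 1

theorem num_ofNum {n : ℕ} (h : n < 648) : (num (ofNum n) : ℕ) = n := by
  rw [ofNum, dif_pos h]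
  exact congrArg Fin.val (numEquiv.apply_symm_apply ⟨n, h⟩)

theorem code_ofNum {n : ℕ} (h : n < 648) : code (ofNum n).1 = elt n := by
  rw [← elt_num, num_ofNum h]

theorem num_inj {x y : W} (h : (num x : ℕ) = num y) : x = y := num_bijective.1 (Fin.ext h)

theorem ofNum_num (w : W) : ofNum (num w) = w := num_inj (num_ofNum (num w).2)

/-- The class number. -/
@[irreducible]
def clsW (w : W) : ℕ := cls (num w)

/-- The class representatives. -/
noncomputable def repW (c : ℕ) : W := ofNum (repIdx.getD c 0)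

theorem rep_lt' {c : ℕ} (hc : c < 14) : repIdx.getD c 0 < 648 := by
  interval_cases c <;> decide

theorem clsW_lt (w : W) : clsW w < 14 := by
  have h := all648_spec conj_wit (num w).2
  simp only [Bool.and_eq_true, decide_eq_true_eq] at h
  unfold clsW
  exact h.1.1

/-- Every element is a conjugate of the representative of its class. -/
theorem exists_conj_rep (w : W) : ∃ x : W, x⁻¹ * repW (clsW w) * x = w := by
  have h := all648_spec conj_wit (num w).2
  simp only [Bool.and_eq_true, decide_eq_true_eq, beq_iff_eq] at h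
  obtain ⟨⟨h1, h2⟩, h3⟩ := h
  refine ⟨ofNum (wit (num w)), Subtype.ext (code_inj ?_)⟩
  unfold clsW
  rw [Subgroup.coe_mul, Subgroup.coe_mul, code_mul, code_mul, code_inv_W, repW,
    code_ofNum h2, code_ofNum (rep_lt' h1), ← elt_num]
  exact h3

theorem classFun_eq {α : Type*} {f : W → α} (hf : ∀ w x : W, f (x * w * x⁻¹) = f w) (w : W) :
    f w = f (repW (clsW w)) := by
  obtain ⟨x, hx⟩ := exists_conj_rep w
  have := hf (repW (clsW w)) x⁻¹
  rw [inv_inv, hx] at this
  exact this

theorem clsW_conj (x w : W) : clsW (x * w * x⁻¹) = clsW w := by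
  suffices ∀ σ ∈ Subgroup.closure {g | g ∈ gens}, ∀ (hσ : σ ∈ W) (w : W),
      clsW (⟨σ, hσ⟩ * w * (⟨σ, hσ⟩ : W)⁻¹) = clsW w from
    this x.1 (W_eq_closure ▸ x.2) x.2 w
  intro σ hW
  induction hW using Subgroup.closure_induction with
  | mem g hg =>
    intro _ w
    have h := List.all_eq_true.mp (all648_spec conj_closed (num w).2) (code g)
      (by rw [← gens_code]; exact List.mem_map.mpr ⟨g, hg, rfl⟩)
    rw [beq_iff_eq] at h
    unfold clsW
    show cls (idx (code (g * w.1 * g⁻¹))) = cls (num w)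
    rw [code_mul, code_mul, code_inv, ← elt_num]
    exact h
  | one =>
    intro _ w
    exact congrArg clsW (Subtype.ext (show (1 : Equiv.Perm (Fin 9)) * w.1 * 1⁻¹ = w.1 by simp))
  | mul a b ha hb iha ihb =>
    intro hσ w
    have ha' : a ∈ W := W_eq_closure.symm ▸ ha
    have hb' : b ∈ W := W_eq_closure.symm ▸ hb
    have e : (⟨a * b, hσ⟩ : W) * w * (⟨a * b, hσ⟩ : W)⁻¹ = (⟨a, ha'⟩ : W) *
        (⟨b, hb'⟩ * w * (⟨b, hb'⟩ : W)⁻¹) * (⟨a, ha'⟩ : W)⁻¹ :=
      Subtype.ext (show a * b * w.1 * (a * b)⁻¹ = a * (b * w.1 * b⁻¹) * a⁻¹ by group)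
    rw [e, iha ha' _, ihb hb' w]
  | inv a ha iha =>
    intro hσ w
    have ha' : a ∈ W := W_eq_closure.symm ▸ ha
    have h := iha ha' ((⟨a, ha'⟩ : W)⁻¹ * w * ⟨a, ha'⟩)
    rw [show (⟨a, ha'⟩ : W) * ((⟨a, ha'⟩ : W)⁻¹ * w * ⟨a, ha'⟩) * (⟨a, ha'⟩ : W)⁻¹ = w by group] at h
    have e : (⟨a⁻¹, hσ⟩ : W) * w * (⟨a⁻¹, hσ⟩ : W)⁻¹ = (⟨a, ha'⟩ : W)⁻¹ * w * ⟨a, ha'⟩ :=
      Subtype.ext (show a⁻¹ * w.1 * a⁻¹⁻¹ = a⁻¹ * w.1 * a by group)
    rw [e]; exact h.symm

end CfsgLib.NineNormalizer
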