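import Mathlib
import Cfsg.Agent.Lib.NineNormalizer.Group
import Cfsg.Agent.Lib.NineNormalizer.CharChecks
import Cfsg.Agent.Lib.Char.Virtual

/-!
Six virtual characters of the group of order 648, with their values.
-/

set_option autoImplicit false

namespace CfsgLib.NineNormalizer

open Cfsg CfsgLib.Char
open scoped ComplexConjugate

theorem expo_mul {k : ℕ} (hk : k < 9) {x y : W} (hx : expo k (num x) < 12) (hy : expo k (num y) < 12) :
    expo k (num (x * y)) = (expo k (num x) + expo k (num y)) % 12 := by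
  have h := List.all_eq_true.mp hom_check k (List.mem_range.mpr hk)
  simp only [Bool.and_eq_true, List.all_eq_true, beq_iff_eq] at h
  rw [num_mul]
  exact h.2 _ (List.mem_filter.mpr ⟨List.mem_range.mpr (num x).2, by simpa using hx⟩) _
    (List.mem_filter.mpr ⟨List.mem_range.mpr (num y).2, by simpa using hy⟩)

theorem expo_one {k : ℕ} (hk : k < 9) : expo k (num 1) = 0 := by
  rw [num_one]
  exact of_decide_eq_true (List.all_eq_true.mp mem_idx k (List.mem_range.mpr hk))

/-- The submonoid carrying the `k`-th linear character. -/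
def indMon (k : Fin 9) : Submonoid W where
  carrier := {w | expo k (num w) < 12}
  one_mem' := by simp [expo_one k.2]
  mul_mem' := by
    intro x y hx hy
    show expo k (num (x * y)) < 12
    rw [expo_mul k.2 hx hy]
    exact Nat.mod_lt _ (by norm_num)

/-- The subgroup carrying the `k`-th linear character. -/
def indSub (k : Fin 9) : Subgroup W where
  toSubmonoid := indMon k
  inv_mem' := by
    intro x hx
    rw [show x⁻¹ = x ^ (orderOf x - 1) from inv_eq_of_mul_eq_one_right (by
      rw [← pow_succ', Nat.sub_add_cancel (orderOf_pos x), pow_orderOf_eq_one])]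
    exact pow_mem (S := indMon k) hx _

/-- A primitive twelfth root of unity. -/
noncomputable def zeta : ℂ := ((Real.sqrt 3 : ℝ) + Complex.I) / 2

theorem sqrt3_sq : ((Real.sqrt 3 : ℝ) : ℂ) ^ 2 = 3 := by
  rw [← Complex.ofReal_pow, Real.sq_sqrt (by norm_num)]; norm_num

theorem zeta_four : zeta ^ 4 = zeta ^ 2 - 1 := by
  have h2 : zeta ^ 2 = (1 + ((Real.sqrt 3 : ℝ) : ℂ) * Complex.I) / 2 := by
    unfold zeta
    linear_combination (1 / 4 : ℂ) * sqrt3_sq + (1 / 4 : ℂ) * Complex.I_sq
  rw [show zeta ^ 4 = (zeta ^ 2) ^ 2 by ring, h2]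
  linear_combination (Complex.I ^ 2 / 4) * sqrt3_sq + (3 / 4 : ℂ) * Complex.I_sq

theorem zeta_twelve : zeta ^ 12 = 1 := by
  linear_combination (zeta ^ 8 + zeta ^ 6 - zeta ^ 2 - 1) * zeta_four

theorem sqrt3_eq : 2 * zeta - zeta ^ 3 = ((Real.sqrt 3 : ℝ) : ℂ) := by
  unfold zeta
  linear_combination (-(((Real.sqrt 3 : ℝ) : ℂ) / 8) - 3 * Complex.I / 8) * sqrt3_sq -
    (3 * (Real.sqrt 3 : ℝ) / 8 + Complex.I / 8) * Complex.I_sq

theorem zeta_ne_zero : zeta ≠ 0 := fun h => by
  have := zeta_twelve; rw [h] at this; norm_num at this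

/-- Evaluation of `ℤ[ζ₁₂]` in `ℂ`. -/
noncomputable def cast12 (x : Cyc) : ℂ :=
  x.1 + x.2.1 * zeta + x.2.2.1 * zeta ^ 2 + x.2.2.2 * zeta ^ 3

theorem cast12_shift (x : Cyc) : cast12 (shift x) = zeta * cast12 x := by
  obtain ⟨a, b, c, d⟩ := x
  simp only [cast12, shift]
  push_cast
  linear_combination -(d : ℂ) * zeta_four

theorem cast12_zpw (e : ℕ) : cast12 (zpw e) = zeta ^ e := by
  induction e with
  | zero => simp [cast12, zpw]
  | succ e ih =>
    rw [zpw, Function.iterate_succ_apply', cast12_shift, ← zpw, ih, pow_succ']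

theorem cast12_zsum (l : List Cyc) : cast12 (zsum l) = (l.map cast12).sum := by
  induction l with
  | nil => simp [cast12, zsum]
  | cons x l ih =>
    rw [List.map_cons, List.sum_cons, ← ih]
    simp only [zsum, List.foldr_cons, cast12, Prod.fst_add, Prod.snd_add, Int.cast_add]
    ring

/-- The linear character on `indSub k`. -/
noncomputable def linChar (k : Fin 9) : indSub k →* ℂˣ where
  toFun w := Units.mk0 (zeta ^ expo k (num (w : W))) (pow_ne_zero _ zeta_ne_zero)
  map_one' := Units.ext (by simp [expo_one k.2])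
  map_mul' x y := Units.ext (by
    show zeta ^ expo k (num ((x : W) * (y : W))) = zeta ^ _ * zeta ^ _
    rw [expo_mul k.2 x.2 y.2, ← pow_add]
    exact (pow_eq_pow_mod _ zeta_twelve).symm)

/-- The monomial characters. -/
noncomputable def psi (k : Fin 9) : W → ℂ := indFun (indSub k) fun w => (linChar k w : ℂ)

theorem isCharacter_psi (k : Fin 9) : IsCharacter W (psi k) :=
  isCharacter_indFun _ (isCharacter_monoidHom _)

theorem card_indSub (k : Fin 9) : Nat.card (indSub k) = indSize.getD k 0 := by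
  have h := List.all_eq_true.mp hom_check k (List.mem_range.mpr k.2)
  simp only [Bool.and_eq_true, beq_iff_eq] at h
  rw [← h.1, ← List.toFinset_card_of_nodup (List.nodup_range.filter _)]
  rw [← Fintype.card_coe, ← Nat.card_eq_fintype_card]
  refine Nat.card_congr ⟨fun w => ⟨num (w : W), List.mem_toFinset.mpr (List.mem_filter.mpr
      ⟨List.mem_range.mpr (num (w : W)).2, decide_eq_true w.2⟩)⟩,
    fun n => ⟨ofNum n.1, ?_⟩, fun w => Subtype.ext (ofNum_num _), fun n => Subtype.ext (num_ofNum ?_)⟩
  · have h2 := n.2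
    simp at h2
    show expo k (num (ofNum n.1)) < 12
    rw [num_ofNum h2.1]; exact h2.2
  · have h2 := n.2
    simp at h2
    exact h2.1

/-- `a + b√3`. -/
noncomputable def r2 (v : ℤ × ℤ) : ℂ := v.1 + v.2 * ((Real.sqrt 3 : ℝ) : ℂ)

/-- Tabulated value. -/
def indV (k c : ℕ) : ℤ × ℤ := (indVal.getD k []).getD c (0, 0)

theorem psi_rep (k : Fin 9) {c : ℕ} (hc : c < 14) : psi k (repW c) = r2 (indV k c) := by
  have hval := List.all_eq_true.mp (List.all_eq_true.mp val_check k (List.mem_range.mpr k.2)) c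
    (List.mem_range.mpr hc)
  rw [beq_iff_eq] at hval
  have h := congrArg cast12 hval
  rw [cast12_zsum, List.map_map] at h
  have hterm : ∀ x : W, extendByZero (indSub k) (fun w => (linChar k w : ℂ)) (x⁻¹ * repW c * x) =
      (cast12 ∘ fun n => zval (expo k (idx (comp (comp (cinv (elt n)) (elt (repIdx.getD c 0)))
        (elt n))))) (num x) := by
    intro x
    have e : (num (x⁻¹ * repW c * x) : ℕ) =
        idx (comp (comp (cinv (elt (num x))) (elt (repIdx.getD c 0))) (elt (num x))) := by
      show idx (code ((x⁻¹ * repW c * x : W) : W).1) = _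
      rw [Subgroup.coe_mul, Subgroup.coe_mul, code_mul, code_mul, code_inv_W, repW,
        code_ofNum (rep_lt' hc), ← elt_num]
    simp only [Function.comp_apply, zval, ← e]
    split_ifs with hm
    · rw [cast12_zpw, extendByZero_mem _ _ (show x⁻¹ * repW c * x ∈ indSub k from hm)]
      rfl
    · rw [extendByZero_notMem _ _ (show x⁻¹ * repW c * x ∉ indSub k from hm)]
      simp [cast12]
  simp only [psi, indFun, hterm]
  rw [sum_eq, h, card_indSub]
  have h0 : ((indSize.getD (k : ℕ) 0 : ℕ) : ℂ) ≠ 0 := by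
    rw [← card_indSub]; exact Nat.cast_ne_zero.mpr Nat.card_pos.ne'
  simp only [cast12, r2, indV]
  rw [inv_mul_eq_iff_eq_mul₀ h0, ← sqrt3_eq]
  push_cast
  ring

theorem psi_eq (k : Fin 9) (w : W) : psi k w = r2 (indV k (clsW w)) := by
  rw [classFun_eq (isClassFunction_of_isCharacter (isCharacter_psi k)) w, psi_rep k (clsW_lt w)]

/-- The six virtual characters. -/
noncomputable def theta : Fin 6 → W → ℂ :=
  ![psi 1 + psi 2 - psi 4, psi 1 + psi 2 - psi 5, psi 0 - (fun _ => 1) + psi 4 - psi 6,
    psi 0 - (fun _ => 1) + psi 4 - psi 7, psi 0 + psi 1 - psi 3,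
    (fun _ => 1) + psi 2 + psi 6 - psi 8]

theorem isGeneralized_theta (i : Fin 6) : IsGeneralizedCharacter W (theta i) := by
  have h : ∀ k, IsGeneralizedCharacter W (psi k) := fun k =>
    isGeneralized_of_isCharacter (isCharacter_psi k)
  have h1 : IsGeneralizedCharacter W (fun _ => (1 : ℂ)) := isGeneralized_one
  fin_cases i
  exacts [isGeneralized_sub (isGeneralized_add (h 1) (h 2)) (h 4),
    isGeneralized_sub (isGeneralized_add (h 1) (h 2)) (h 5),
    isGeneralized_sub (isGeneralized_add (isGeneralized_sub (h 0) h1) (h 4)) (h 6),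
    isGeneralized_sub (isGeneralized_add (isGeneralized_sub (h 0) h1) (h 4)) (h 7),
    isGeneralized_sub (isGeneralized_add (h 0) (h 1)) (h 3),
    isGeneralized_sub (isGeneralized_add (isGeneralized_add h1 (h 2)) (h 6)) (h 8)]

/-- Tabulated value. -/
def thV (i c : ℕ) : ℤ × ℤ := (thetaVal.getD i []).getD c (0, 0)

theorem theta_combo : ((List.range 14).all fun c =>
    (thV 0 c == indV 1 c + indV 2 c - indV 4 c) && (thV 1 c == indV 1 c + indV 2 c - indV 5 c) &&
    (thV 2 c == indV 0 c - (1, 0) + indV 4 c - indV 6 c) &&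
    (thV 3 c == indV 0 c - (1, 0) + indV 4 c - indV 7 c) &&
    (thV 4 c == indV 0 c + indV 1 c - indV 3 c) &&
    (thV 5 c == (1, 0) + indV 2 c + indV 6 c - indV 8 c)) = true := by decide +kernel

theorem r2_add (x y : ℤ × ℤ) : r2 (x + y) = r2 x + r2 y := by
  simp only [r2, Prod.fst_add, Prod.snd_add, Int.cast_add]; ring

theorem r2_sub (x y : ℤ × ℤ) : r2 (x - y) = r2 x - r2 y := by
  simp only [r2, Prod.fst_sub, Prod.snd_sub, Int.cast_sub]; ring

theorem r2_one : r2 (1, 0) = 1 := by simp [r2]

theorem theta_eq (i : Fin 6) (w : W) : theta i w = r2 (thV i (clsW w)) := by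
  have h := List.all_eq_true.mp theta_combo _ (List.mem_range.mpr (clsW_lt w))
  simp only [Bool.and_eq_true, beq_iff_eq] at h
  obtain ⟨⟨⟨⟨⟨h0, h1⟩, h2⟩, h3⟩, h4⟩, h5⟩ := h
  fin_cases i <;>
    simp [theta, psi_eq, h0, h1, h2, h3, h4, h5, r2_add, r2_sub, r2_one]

/-- Product in `ℤ[√3]`. -/
def mul3 (x y : ℤ × ℤ) : ℤ × ℤ := (x.1 * y.1 + 3 * (x.2 * y.2), x.1 * y.2 + x.2 * y.1)

theorem r2_mul (x y : ℤ × ℤ) : r2 (mul3 x y) = r2 x * r2 y := by
  simp only [r2, mul3, Int.cast_add, Int.cast_mul, Int.cast_ofNat]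
  linear_combination -((x.2 : ℂ) * y.2) * sqrt3_sq

theorem r2_sum (l : List (ℤ × ℤ)) : r2 (l.foldr (fun x y => x + y) 0) = (l.map r2).sum := by
  induction l with
  | nil => simp [r2]
  | cons x l ih => rw [List.foldr_cons, r2_add, ih, List.map_cons, List.sum_cons]

theorem r2_conj (x : ℤ × ℤ) : conj (r2 x) = r2 x := by
  simp [r2]

/-- The Gram matrix of the six virtual characters. -/
def gramT : List (List ℤ) := [[3, 2, -1, -1, 1, 1], [2, 3, 0, 0, 1, 1], [-1, 0, 3, 2, 1, -1],
  [-1, 0, 2, 3, 1, 0], [1, 1, 1, 1, 4, 1], [1, 1, -1, 0, 1, 4]]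

theorem gram_check : ((List.range 6).all fun i => (List.range 6).all fun j =>
    ((List.range 648).map fun n => mul3 (thV i (cls n)) (thV j (cls n))).foldr (fun x y => x + y) 0 ==
      (648 * (gramT.getD i []).getD j 0, 0)) = true := by decide +kernel

theorem one_check : ((List.range 6).all fun i =>
    ((List.range 648).map fun n => thV i (cls n)).foldr (fun x y => x + y) 0 ==
      (648 * [0, 0, 0, 0, 1, 1].getD i 0, 0)) = true := by decide +kernel

theorem theta_inner (i j : Fin 6) :
    classInner (theta i) (theta j) = (((gramT.getD i []).getD j 0 : ℤ) : ℂ) := by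
  have h := List.all_eq_true.mp (List.all_eq_true.mp gram_check i (List.mem_range.mpr i.2)) j
    (List.mem_range.mpr j.2)
  rw [beq_iff_eq] at h
  have h' := congrArg r2 h
  rw [r2_sum, List.map_map] at h'
  have hterm : ∀ w : W, theta i w * conj (theta j w) =
      (r2 ∘ fun n => mul3 (thV i (cls n)) (thV j (cls n))) (num w) := by
    intro w
    rw [theta_eq, theta_eq, r2_conj, ← r2_mul, Function.comp_apply]
    unfold clsW
    rfl
  simp only [classInner, hterm]
  rw [sum_eq (fun n => (r2 ∘ fun n => mul3 (thV i (cls n)) (thV j (cls n))) n), h', card_W]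
  simp only [r2, Int.cast_zero, zero_mul, add_zero, Int.cast_mul, Int.cast_ofNat]
  push_cast
  field_simp

theorem theta_inner_one (i : Fin 6) :
    classInner (theta i) (fun _ => (1 : ℂ)) = (([0, 0, 0, 0, 1, 1].getD i 0 : ℤ) : ℂ) := by
  have h := List.all_eq_true.mp one_check i (List.mem_range.mpr i.2)
  rw [beq_iff_eq] at h
  have h' := congrArg r2 h
  rw [r2_sum, List.map_map] at h'
  have hterm : ∀ w : W, theta i w * conj ((fun _ : W => (1 : ℂ)) w) =
      (r2 ∘ fun n => thV i (cls n)) (num w) := by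
    intro w
    rw [theta_eq, map_one, mul_one, Function.comp_apply]
    unfold clsW
    rfl
  simp only [classInner, hterm]
  rw [sum_eq (fun n => (r2 ∘ fun n => thV i (cls n)) n), h', card_W]
  simp only [r2, Int.cast_zero, zero_mul, add_zero, Int.cast_mul, Int.cast_ofNat]
  push_cast
  field_simp

theorem vanish_check : ((List.range 6).all fun i => (List.range 5).all fun c =>
    thV i c == (0, 0)) = true := by decide +kernel

theorem theta_vanish (i : Fin 6) {w : W} (hw : clsW w < 5) : theta i w = 0 := by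
  have h := List.all_eq_true.mp (List.all_eq_true.mp vanish_check i (List.mem_range.mpr i.2)) _
    (List.mem_range.mpr hw)
  rw [beq_iff_eq] at h
  rw [theta_eq, h]; simp [r2]

/-- The sums `∑ θ(u v)` over a fixed `u` of class `p` and all `v` of class `q`. -/
def pairT : List (List ℤ) := [[0, 0, 72, 72, 72, 36], [0, 0, 0, 0, 72, 36], [36, 36, 0, 0, 72, 54]]

theorem pair_check : (([(1, 1), (1, 2), (2, 2)] : List (ℕ × ℕ)).zipIdx.all fun pq =>
    (List.range 6).all fun i =>
    (((List.range 648).filter fun n => cls n == pq.1.2).map fun n =>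
      thV i (cls (idx (comp (elt (repIdx.getD pq.1.1 0)) (elt n))))).foldr (fun x y => x + y) 0 ==
      ((pairT.getD pq.2 []).getD i 0, 0)) = true := by decide +kernel

theorem sum_pair (i : Fin 6) (r : Fin 3) :
    ∑ v ∈ Finset.univ.filter (fun v : W => clsW v = [1, 2, 2].getD r 0),
      theta i (repW ([1, 1, 2].getD r 0) * v) = (((pairT.getD r []).getD i 0 : ℤ) : ℂ) := by
  classical
  have h0 := List.all_eq_true.mp pair_check (([(1, 1), (1, 2), (2, 2)] : List (ℕ × ℕ)).getD r (0, 0), r)
    (by fin_cases r <;> simp)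
  have h := List.all_eq_true.mp h0 i (List.mem_range.mpr i.2)
  rw [beq_iff_eq] at h
  have e1 : (([(1, 1), (1, 2), (2, 2)] : List (ℕ × ℕ)).getD r (0, 0)).1 = [1, 1, 2].getD r 0 := by
    fin_cases r <;> rfl
  have e2 : (([(1, 1), (1, 2), (2, 2)] : List (ℕ × ℕ)).getD r (0, 0)).2 = [1, 2, 2].getD r 0 := by
    fin_cases r <;> rfl
  simp only [e1, e2] at h
  have hp : [1, 1, 2].getD (r : ℕ) 0 < 14 := by fin_cases r <;> decide
  generalize [1, 1, 2].getD (r : ℕ) 0 = p at *
  generalize [1, 2, 2].getD (r : ℕ) 0 = q at *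
  have h' := congrArg r2 h
  rw [r2_sum, List.map_map] at h'
  rw [Finset.sum_filter]
  have hterm : ∀ v : W, (if clsW v = q then theta i (repW p * v) else 0) =
      (fun n => if cls n = q then
        (r2 ∘ fun n => thV i (cls (idx (comp (elt (repIdx.getD p 0)) (elt n))))) n else 0) (num v) := by
    intro v
    rw [theta_eq]
    simp only [Function.comp_apply]
    unfold clsW
    rw [show ((num (repW p * v) : Fin 648) : ℕ) =
      idx (comp (elt (repIdx.getD p 0)) (elt (num v))) from by
        rw [num_mul, repW, num_ofNum (rep_lt' hp)]]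
  simp only [hterm]
  rw [sum_eq (fun n => if cls n = q then
        (r2 ∘ fun n => thV i (cls (idx (comp (elt (repIdx.getD p 0)) (elt n))))) n else 0)]
  have e3 : ∀ (l : List ℕ) (F : ℕ → ℂ), (l.map fun n => if cls n = q then F n else 0).sum =
      ((l.filter fun n => cls n == q).map F).sum := by
    intro l F
    induction l with
    | nil => rfl
    | cons x l ih => by_cases hx : cls x = q <;> simp [hx, ih]
  rw [e3, h']
  simp [r2]

end CfsgLib.NineNormalizer
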