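import Mathlib
import Cfsg.Agent.Lib.NineNormalizer.Checks
import Cfsg.Agent.Lib.NineNormalizer.Group
import Cfsg.Agent.Lib.ThreeCubedTI.Model

/-!
Finite facts on classes, centralizers and normal subgroups of the group of order 648.
-/

set_option autoImplicit false

namespace CfsgLib.NineNormalizer

/-- Classes of the elements of the normal `3³`. -/
def isJ (c : ℕ) : Bool := [0, 5, 6, 7].contains c

/-- Classes of the elements of `3³:2²`. -/
def isKer (c : ℕ) : Bool := [0, 1, 5, 6, 7, 8].contains c

/-- Classes of the elements of `3³:A₄`. -/
def isEven (c : ℕ) : Bool := [0, 1, 4, 5, 6, 7, 8, 12, 13].contains c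

/-- The fixed Sylow 3-subgroup, by index. -/
def inP (n : ℕ) : Bool := (n % 4 == 0) && [0, 3, 4].contains ((n / 4) % 6)

/-- Product of indices. -/
def nmul (m n : ℕ) : ℕ := idx (comp (elt m) (elt n))

/-- Inverse of an index. -/
def ninv (n : ℕ) : ℕ := idx (cinv (elt n))

/-- The representative index of a class. -/
def rp (c : ℕ) : ℕ := repIdx.getD c 0

/-- The commutator of two indices. -/
def ncomm (m n : ℕ) : ℕ := nmul (nmul (nmul m n) (ninv m)) (ninv n)

theorem one_class : all648 (fun n => (cls n == 0) == (n == idIdx)) = true := by decide +kernel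

theorem rep_cls : ((List.range 14).all fun c => cls (rp c) == c) = true := by decide +kernel

theorem cent_count : (([(5, 108), (6, 54), (7, 81)] : List (ℕ × ℕ)).all fun p =>
    ((List.range 648).filter fun n => decide (nmul n (rp p.1) = nmul (rp p.1) n)).length == p.2) = true := by
  decide +kernel

theorem pow_check : ((List.range 14).all fun c => decide (c < 5) ||
    (let r := rp c
     let r2 := nmul r r
     [r, nmul r r2, nmul r2 r2].any fun m => [5, 6, 7].contains (cls m))) = true := by
  decide +kernel

theorem invol_check : all648 (fun n => decide (cls n < 3) || !(nmul n n == idIdx)) = true := by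
  decide +kernel

theorem rep_invol : (nmul (rp 1) (rp 1) == idIdx && nmul (rp 2) (rp 2) == idIdx) = true := by
  decide +kernel

theorem pow36_check : all648 (fun n =>
    let n2 := nmul n n
    let n4 := nmul n2 n2
    let n8 := nmul n4 n4
    let n9 := nmul n8 n
    let n18 := nmul n9 n9
    (nmul n18 n18 == idIdx) && ([0, 4, 5, 6, 7, 12, 13].contains (cls n) == (n9 == idIdx))) = true := by
  decide +kernel

/-- A generator of the 3-part of the centralizer of the representative of class `p`. -/
def sylGen (p : ℕ) : ℕ :=
  ((List.range 648).find? fun n => (cls n == p + 4) && decide (nmul n (rp p) = nmul (rp p) n)).getD 648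

theorem syl_check : (([1, 2] : List ℕ).all fun p =>
    let g := sylGen p
    decide (g < 648) && (cls g == p + 4) && (cls (nmul g g) == p + 4) && decide (nmul g (rp p) = nmul (rp p) g) &&
    all648 fun n => !([0, 4, 5, 6, 7, 12, 13].contains (cls n)) ||
      !(decide (nmul n (rp p) = nmul (rp p) n)) ||
      (n == idIdx || n == g || n == nmul g g)) = true := by
  decide +kernel

theorem cent_three : (([4, 12, 13] : List ℕ).all fun c =>
    (all648 fun n => !(decide (nmul n (rp c) = nmul (rp c) n)) ||
      [0, 4, 5, 6, 7, 12, 13].contains (cls n)) &&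
    (List.range 648).any fun n => decide (nmul n (rp c) = nmul (rp c) n) &&
      [5, 6, 7].contains (cls n)) = true := by
  decide +kernel

theorem gen_ker : (([(1, 1, 5), (5, 5, 6), (5, 6, 7), (5, 1, 8)] : List (ℕ × ℕ × ℕ)).all fun t =>
    (List.range 648).any fun n => (cls n == t.2.1) && (cls (nmul (rp t.1) n) == t.2.2)) = true := by
  decide +kernel

theorem odd_square : (([2, 3, 9, 10, 11] : List ℕ).all fun c =>
    (List.range 648).any fun x => [4, 12, 13].contains
      (cls (nmul (rp c) (nmul (nmul x (rp c)) (ninv x))))) = true := by
  decide +kernel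

theorem three_shift : (([4, 12, 13] : List ℕ).all fun c => ([4, 12, 13] : List ℕ).all fun c' =>
    (List.range 648).any fun n => isKer (cls n) && (cls (nmul (rp c) n) == c')) = true := by
  decide +kernel

theorem odd_shift : (([2, 3, 9, 10, 11] : List ℕ).all fun c =>
    all648 fun n => isEven (cls n) || isEven (cls (nmul n (rp c)))) = true := by
  decide +kernel

theorem comm_wit : ((List.range 648).any (fun n => (cls n == 1) && (cls (ncomm (rp 4) n) == 1)) &&
    (List.range 648).any fun n => (cls n == 5) && (cls (ncomm (rp 1) n) == 5)) = true := by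
  decide +kernel

theorem core_wit : ((List.range 14).all fun c => isJ c ||
    (List.range 648).any fun x => cls (ncomm (rp c) x) == 1 || cls (ncomm (rp c) x) == 4 &&
      (List.range 648).any fun y => cls (ncomm (rp 4) y) == 1) = true := by
  decide +kernel

theorem J_closed : all648 (fun m => !(isJ (cls m)) ||
    all648 fun n => !(isJ (cls n)) || isJ (cls (nmul m n))) = true := by decide +kernel

theorem P_closed : all648 (fun m => !(inP m) || all648 fun n => !(inP n) || inP (nmul m n)) = true := by
  decide +kernel

theorem P_facts : all648 (fun n =>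
    (!(isJ (cls n)) || inP n) && (!(inP n) || [0, 4, 5, 6, 7, 12, 13].contains (cls n)) &&
    (!(inP n && isKer (cls n)) || isJ (cls n)) &&
    (inP n || !([0, 4, 5, 6, 7, 12, 13].contains (cls n)) ||
      (List.range 648).any fun p => inP p && !(inP (nmul (nmul n p) (ninv n))))) = true := by
  decide +kernel

theorem P_nontriv : (inP (rp 4) || (List.range 648).any (fun n => inP n && (cls n == 4))) = true := by
  decide +kernel

/-- The action of element `n` on the three blocks. -/
def blk (n : ℕ) (i : Fin 3) : Fin 3 := ⟨dig (elt n) (3 * i) / 3 % 3, Nat.mod_lt _ (by norm_num)⟩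

theorem blk_check : all648 (fun n =>
    ((List.range 9).all fun j => decide (dig (elt n) j / 3 % 3 = dig (elt n) (3 * (j / 3)) / 3 % 3) &&
      decide (dig (elt n) j < 9)) &&
    (isKer (cls n) == decide (∀ i, blk n i = i)) &&
    (!(isEven (cls n)) || decide (∃ k : Fin 3, ∀ i, blk n i = i + k))) = true := by
  decide +kernel

theorem ker_count : ((List.range 648).filter fun n => isKer (cls n)).length = 108 := by decide +kernel

theorem nine_check : ∀ f : ThreeCubedTI.P3, ThreeCubedTI.Ev f →
    inW (code (ThreeCubedTI.nine f)) = true ∧ isKer (cls (idx (code (ThreeCubedTI.nine f)))) = true ∧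
      (isJ (cls (idx (code (ThreeCubedTI.nine f)))) = true ↔ ThreeCubedTI.Rot f) := by
  decide +kernel

theorem J_count : ((List.range 648).filter fun n => isJ (cls n)).length = 27 := by decide +kernel

theorem pair_sizes : ((List.range 648).filter fun n => cls n == 1).length = 27 ∧
    ((List.range 648).filter fun n => cls n == 2).length = 54 := by decide +kernel

end CfsgLib.NineNormalizer
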