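import Mathlib
import Cfsg.Agent.Lib.NineNormalizer.LocalChecks
import Cfsg.Prelude
import Cfsg.Agent.Lib.NineNormalizer.Chars

/-!
The finite facts, stated for elements of the group of order 648.
-/

set_option autoImplicit false

namespace CfsgLib.NineNormalizer

open scoped commutatorElement

theorem clsW_def (w : W) : clsW w = cls (num w) := by unfold clsW; rfl

theorem num_mul' (x y : W) : (num (x * y) : ℕ) = nmul (num x) (num y) := num_mul x y

theorem num_inv' (x : W) : (num x⁻¹ : ℕ) = ninv (num x) := num_inv x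

theorem num_comm (x y : W) : (num ⁅x, y⁆ : ℕ) = ncomm (num x) (num y) := by
  rw [commutatorElement_def, num_mul', num_mul', num_mul', num_inv', num_inv']
  rfl

theorem num_repW {c : ℕ} (hc : c < 14) : (num (repW c) : ℕ) = rp c := num_ofNum (rep_lt' hc)

theorem comm_iff (x y : W) :
    x * y = y * x ↔ nmul (num x) (num y) = nmul (num y) (num x) := by
  rw [← num_mul', ← num_mul']
  exact ⟨fun h => by rw [h], fun h => num_inj h⟩

theorem clsW_repW {c : ℕ} (hc : c < 14) : clsW (repW c) = c := by
  rw [clsW_def, num_repW hc]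
  exact beq_iff_eq.mp (List.all_eq_true.mp rep_cls c (List.mem_range.mpr hc))

theorem clsW_eq_zero {w : W} : clsW w = 0 ↔ w = 1 := by
  have h := all648_spec one_class (num w).2
  rw [beq_iff_eq] at h
  rw [clsW_def]
  constructor
  · intro e
    refine num_inj ?_
    rw [num_one]
    rw [e] at h
    simpa using h.symm
  · rintro rfl
    rw [num_one] at h ⊢
    simpa using h

theorem clsW_one : clsW (1 : W) = 0 := clsW_eq_zero.mpr rfl

theorem isJ_one : isJ (clsW (1 : W)) = true := by rw [clsW_one]; rfl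

/-- A conjugate of the representative. -/
theorem exists_conj_of_cls {w : W} {c : ℕ} (h : clsW w = c) : ∃ x : W, x * repW c * x⁻¹ = w := by
  obtain ⟨x, hx⟩ := exists_conj_rep w
  exact ⟨x⁻¹, by rw [inv_inv, ← h, hx]⟩

theorem card_filter (p : ℕ → Bool) :
    Nat.card {w : W // p (num w) = true} = ((List.range 648).filter p).length := by
  rw [← List.toFinset_card_of_nodup (List.nodup_range.filter _), ← Fintype.card_coe,
    ← Nat.card_eq_fintype_card]
  refine Nat.card_congr ⟨fun w => ⟨num w.1, List.mem_toFinset.mpr (List.mem_filter.mpr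
      ⟨List.mem_range.mpr (num w.1).2, w.2⟩)⟩,
    fun n => ⟨ofNum n.1, ?_⟩, fun w => Subtype.ext (ofNum_num _), fun n => Subtype.ext (num_ofNum ?_)⟩
  · have h2 := List.mem_filter.mp (List.mem_toFinset.mp n.2)
    rw [num_ofNum (List.mem_range.mp h2.1)]
    exact h2.2
  · exact List.mem_range.mp (List.mem_filter.mp (List.mem_toFinset.mp n.2)).1

theorem card_class {q : ℕ} (hq : q = 1 ∨ q = 2) :
    (Finset.univ.filter fun w : W => clsW w = q).card = if q = 1 then 27 else 54 := by
  classical
  have h := card_filter (fun n => cls n == q)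
  rw [Nat.card_eq_fintype_card, Fintype.card_subtype] at h
  have e : (Finset.univ.filter fun w : W => clsW w = q) =
      Finset.univ.filter fun w : W => (cls (num w) == q) = true :=
    Finset.filter_congr fun w _ => by rw [clsW_def, beq_iff_eq]
  rw [e, h]
  rcases hq with rfl | rfl
  · exact pair_sizes.1
  · exact pair_sizes.2

theorem card_cent {w : W} (hw : clsW w = 5 ∨ clsW w = 6 ∨ clsW w = 7) :
    Nat.card {x : W // x * w = w * x} =
      if clsW w = 5 then 108 else if clsW w = 6 then 54 else 81 := by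
  obtain ⟨y, hy⟩ := exists_conj_of_cls (rfl : clsW w = clsW w)
  have e : Nat.card {x : W // x * w = w * x} =
      Nat.card {x : W // x * repW (clsW w) = repW (clsW w) * x} := by
    refine (Nat.card_congr (Equiv.subtypeEquiv (MulAut.conj y).toEquiv fun x => ?_)).symm
    show x * repW (clsW w) = repW (clsW w) * x ↔ y * x * y⁻¹ * w = w * (y * x * y⁻¹)
    rw [← (MulAut.conj y).injective.eq_iff, map_mul, map_mul, MulAut.conj_apply,
      MulAut.conj_apply, hy]
  rw [e]
  have hc : clsW w < 14 := by omega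
  have h1 : Nat.card {x : W // x * repW (clsW w) = repW (clsW w) * x} =
      Nat.card {x : W // decide (nmul (num x) (rp (clsW w)) = nmul (rp (clsW w)) (num x)) = true} :=
    Nat.card_congr (Equiv.subtypeEquivRight fun x => by rw [comm_iff, num_repW hc, decide_eq_true_iff])
  rw [h1, card_filter (fun n => decide (nmul n (rp (clsW w)) = nmul (rp (clsW w)) n))]
  have h := List.all_eq_true.mp cent_count
  rcases hw with hw | hw | hw <;> rw [hw]
  · exact beq_iff_eq.mp (h (5, 108) (by simp))
  · exact beq_iff_eq.mp (h (6, 54) (by simp))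
  · exact beq_iff_eq.mp (h (7, 81) (by simp))

theorem isJ_cases {c : ℕ} (h : isJ c = true) : c = 0 ∨ c = 5 ∨ c = 6 ∨ c = 7 := by
  simpa [isJ] using h

theorem exists_pow {w : W} (hw : 5 ≤ clsW w) :
    ∃ k : ℕ, isJ (clsW (w ^ k)) = true ∧ w ^ k ≠ 1 := by
  obtain ⟨y, hy⟩ := exists_conj_of_cls (rfl : clsW w = clsW w)
  have hc := clsW_lt w
  have h := List.all_eq_true.mp pow_check _ (List.mem_range.mpr hc)
  rw [Bool.or_eq_true, decide_eq_true_eq] at h
  have h' := h.resolve_left (by omega)
  obtain ⟨m, hm, hm'⟩ := List.any_eq_true.mp h'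
  have key : ∃ k : ℕ, [5, 6, 7].contains (clsW (w ^ k)) = true := by
    have tr : ∀ k : ℕ, clsW (w ^ k) = cls (num (repW (clsW w) ^ k)) := by
      intro k
      conv_lhs => rw [← hy, conj_pow, clsW_conj]
      rw [clsW_def]
    have e2 : (num (repW (clsW w) ^ 2) : ℕ) = nmul (rp (clsW w)) (rp (clsW w)) := by
      rw [pow_two, num_mul', num_repW hc]
    simp only [List.mem_cons, List.not_mem_nil, or_false] at hm
    rcases hm with rfl | rfl | rfl
    · exact ⟨1, by rw [tr, pow_one, num_repW hc]; exact hm'⟩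
    · exact ⟨3, by rw [tr, pow_succ', num_mul', e2, num_repW hc]; exact hm'⟩
    · exact ⟨4, by rw [tr, show (4 : ℕ) = 2 + 2 from rfl, pow_add, num_mul', e2]; exact hm'⟩
  obtain ⟨k, hk⟩ := key
  refine ⟨k, ?_, fun e => ?_⟩
  · simp only [List.contains_iff_mem, List.mem_cons, List.not_mem_nil, or_false] at hk
    rcases hk with h | h | h <;> rw [h] <;> rfl
  · rw [e, clsW_one] at hk; simp at hk

theorem invol {w : W} (h : w * w = 1) : clsW w = 0 ∨ clsW w = 1 ∨ clsW w = 2 := by
  have h1 := all648_spec invol_check (num w).2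
  have e : nmul (num w) (num w) = idIdx := by rw [← num_mul', h, num_one]
  simp [e] at h1
  rw [clsW_def]; omega

theorem repW_sq {p : ℕ} (hp : p = 1 ∨ p = 2) : repW p * repW p = 1 := by
  refine num_inj ?_
  have h := rep_invol
  simp only [Bool.and_eq_true, beq_iff_eq] at h
  rw [num_mul', num_one]
  rcases hp with rfl | rfl <;> rw [num_repW (by norm_num)]
  exacts [h.1, h.2]

theorem num_pow_nine (w : W) :
    (num (w ^ 9) : ℕ) = nmul (nmul (nmul (nmul (num w) (num w)) (nmul (num w) (num w)))
      (nmul (nmul (num w) (num w)) (nmul (num w) (num w)))) (num w) := by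
  rw [← num_mul', ← num_mul', ← num_mul', ← num_mul']
  congr 2

theorem pow36 (w : W) : w ^ 36 = 1 := by
  have h := all648_spec pow36_check (num w).2
  simp only [Bool.and_eq_true, beq_iff_eq] at h
  refine num_inj ?_
  rw [num_one, show (36 : ℕ) = 9 * 2 * 2 from rfl, pow_mul, pow_mul, pow_two, pow_two, num_mul',
    num_mul', num_pow_nine]
  exact h.1

theorem nine_iff (w : W) : w ^ 9 = 1 ↔ [0, 4, 5, 6, 7, 12, 13].contains (clsW w) = true := by
  have h := all648_spec pow36_check (num w).2
  simp only [Bool.and_eq_true, beq_iff_eq] at h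
  rw [clsW_def, h.2, beq_iff_eq, ← num_pow_nine, ← num_one]
  exact ⟨fun e => by rw [e], fun e => num_inj e⟩

theorem nine_of_three_pow {w : W} {r : ℕ} (h : w ^ 3 ^ r = 1) : w ^ 9 = 1 := by
  refine orderOf_dvd_iff_pow_eq_one.mp ?_
  have h1 : orderOf w ∣ 36 := orderOf_dvd_of_pow_eq_one (pow36 w)
  obtain ⟨i, -, hi⟩ := (Nat.dvd_prime_pow Nat.prime_three).mp (orderOf_dvd_of_pow_eq_one h)
  rw [hi] at h1 ⊢
  rcases i with _ | _ | _ | i
  · norm_num
  · norm_num
  · norm_num
  · exfalso
    have h27 : 3 ^ 3 ∣ 36 := (pow_dvd_pow 3 (by omega)).trans h1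
    norm_num at h27

/-- The 3-part of the centralizer of an involution is cyclic of order three. -/
theorem exists_sylGen {p : ℕ} (hp : p = 1 ∨ p = 2) : ∃ g : W, clsW g = p + 4 ∧
    clsW (g * g) = p + 4 ∧
    g * repW p = repW p * g ∧
    ∀ w : W, w ^ 9 = 1 → w * repW p = repW p * w → w = 1 ∨ w = g ∨ w = g * g := by
  have h := List.all_eq_true.mp syl_check p (by rcases hp with rfl | rfl <;> simp)
  simp only [Bool.and_eq_true, decide_eq_true_eq, beq_iff_eq] at h
  obtain ⟨⟨⟨⟨hg, hcls⟩, hcls2⟩, hcomm⟩, hall⟩ := h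
  have hp14 : p < 14 := by omega
  refine ⟨ofNum (sylGen p), by rw [clsW_def, num_ofNum hg]; exact hcls,
    by rw [clsW_def, num_mul', num_ofNum hg]; exact hcls2, ?_, fun w hw hc => ?_⟩
  · rw [comm_iff, num_ofNum hg, num_repW hp14]; exact hcomm
  have h' := all648_spec hall (num w).2
  rw [comm_iff, num_repW hp14] at hc
  rw [nine_iff, clsW_def] at hw
  rw [hw] at h'
  simp [hc] at h'
  rcases h' with (e | e) | e
  · exact Or.inl (num_inj (by rw [num_one]; exact e))
  · exact Or.inr (Or.inl (num_inj (by rw [num_ofNum hg]; exact e)))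
  · exact Or.inr (Or.inr (num_inj (by rw [num_mul', num_ofNum hg]; exact e)))

theorem cent_of_three {y : W} (hy : clsW y = 4 ∨ clsW y = 12 ∨ clsW y = 13) :
    (∀ w : W, w * y = y * w → w ^ 9 = 1) ∧
      ∃ z : W, z * y = y * z ∧ isJ (clsW z) = true ∧ z ≠ 1 := by
  obtain ⟨x, hx⟩ := exists_conj_of_cls (rfl : clsW y = clsW y)
  have hc : clsW y < 14 := clsW_lt y
  have h := List.all_eq_true.mp cent_three (clsW y) (by rcases hy with e | e | e <;> simp [e])
  simp only [Bool.and_eq_true] at h
  constructor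
  · intro w hw
    have hw' : (x⁻¹ * w * x) * repW (clsW y) = repW (clsW y) * (x⁻¹ * w * x) := by
      rw [show repW (clsW y) = x⁻¹ * (x * repW (clsW y) * x⁻¹) * x by group, hx,
        show x⁻¹ * w * x * (x⁻¹ * y * x) = x⁻¹ * (w * y) * x by group,
        show x⁻¹ * y * x * (x⁻¹ * w * x) = x⁻¹ * (y * w) * x by group, hw]
    have h' := all648_spec h.1 (num (x⁻¹ * w * x)).2
    rw [comm_iff, num_repW hc] at hw'
    simp only [hw', decide_true, Bool.not_true, Bool.false_or] at h'
    have h9 : (x⁻¹ * w * x) ^ 9 = 1 := (nine_iff _).mpr (by rw [clsW_def]; exact h')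
    rwa [show x⁻¹ * w * x = x⁻¹ * w * x⁻¹⁻¹ by rw [inv_inv], conj_pow, conj_eq_one_iff] at h9
  · obtain ⟨n, hn, hn'⟩ := List.any_eq_true.mp h.2
    rw [List.mem_range] at hn
    rw [Bool.and_eq_true, decide_eq_true_eq] at hn'
    have hnc : ofNum n * repW (clsW y) = repW (clsW y) * ofNum n := by
      rw [comm_iff, num_ofNum hn, num_repW hc]; exact hn'.1
    have hcl : clsW (ofNum n) = cls n := by rw [clsW_def, num_ofNum hn]
    have hmem : cls n = 5 ∨ cls n = 6 ∨ cls n = 7 := by simpa using hn'.2
    refine ⟨x * ofNum n * x⁻¹, ?_, ?_, fun e => ?_⟩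
    · conv_lhs => rw [← hx]
      conv_rhs => rw [← hx]
      calc x * ofNum n * x⁻¹ * (x * repW (clsW y) * x⁻¹) = x * (ofNum n * repW (clsW y)) * x⁻¹ := by
            group
        _ = x * (repW (clsW y) * ofNum n) * x⁻¹ := by rw [hnc]
        _ = _ := by group
    · rw [clsW_conj, hcl]
      rcases hmem with e | e | e <;> rw [e] <;> rfl
    · have := congrArg clsW e
      rw [clsW_conj, hcl, clsW_one] at this
      omega

section Normal

variable (N : Subgroup W) [N.Normal]

theorem mem_of_cls {w : W} {c : ℕ} (hw : w ∈ N) (hc : clsW w = c) {v : W} (hv : clsW v = c) :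
    v ∈ N := by
  obtain ⟨x, hx⟩ := exists_conj_of_cls hc
  obtain ⟨y, hy⟩ := exists_conj_of_cls hv
  rw [← hy, show y * repW c * y⁻¹ = (y * x⁻¹) * (x * repW c * x⁻¹) * (y * x⁻¹)⁻¹ by group, hx]
  exact Subgroup.Normal.conj_mem inferInstance _ hw _

theorem ker_of_one {w : W} (hw : w ∈ N) (hc : clsW w = 1) {v : W} (hv : isKer (clsW v) = true) :
    v ∈ N := by
  have step : ∀ a b c : ℕ, a < 14 → (∀ u : W, clsW u = a → u ∈ N) → (∀ u : W, clsW u = b → u ∈ N) →
      ((List.range 648).any fun n => (cls n == b) && (cls (nmul (rp a) n) == c)) = true →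
      ∀ u : W, clsW u = c → u ∈ N := by
    intro a b c ha hA hB h u hu
    obtain ⟨n, hn, hn'⟩ := List.any_eq_true.mp h
    rw [List.mem_range] at hn
    rw [Bool.and_eq_true, beq_iff_eq, beq_iff_eq] at hn'
    refine mem_of_cls N (mul_mem (hA _ (clsW_repW ha))
      (hB (ofNum n) (by rw [clsW_def, num_ofNum hn]; exact hn'.1))) ?_ hu
    rw [clsW_def, num_mul', num_repW ha, num_ofNum hn]
    exact hn'.2
  have h := List.all_eq_true.mp gen_ker
  have h1 : ∀ u : W, clsW u = 1 → u ∈ N := fun u hu => mem_of_cls N hw hc hu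
  have h5 := step 1 1 5 (by norm_num) h1 h1 (h (1, 1, 5) (by simp))
  have h6 := step 5 5 6 (by norm_num) h5 h5 (h (5, 5, 6) (by simp))
  have h7 := step 5 6 7 (by norm_num) h5 h6 (h (5, 6, 7) (by simp))
  have h8 := step 5 1 8 (by norm_num) h5 h1 (h (5, 1, 8) (by simp))
  simp [isKer] at hv
  rcases hv with e | e | e | e | e | e
  · rw [clsW_eq_zero.mp e]; exact one_mem N
  exacts [h1 v e, h5 v e, h6 v e, h7 v e, h8 v e]

theorem even_of_three {w u : W} (hw : w ∈ N) (hc : clsW w = 1) (hu : u ∈ N)
    (hu3 : clsW u = 4 ∨ clsW u = 12 ∨ clsW u = 13) {v : W} (hv : isEven (clsW v) = true) : v ∈ N := by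
  have hk : ∀ x : W, isKer (clsW x) = true → x ∈ N := fun x hx => ker_of_one N hw hc hx
  have key : ∀ c', (c' = 4 ∨ c' = 12 ∨ c' = 13) → clsW v = c' → v ∈ N := by
    intro c' hc' e
    have h := List.all_eq_true.mp (List.all_eq_true.mp three_shift (clsW u)
      (by rcases hu3 with e | e | e <;> simp [e])) c' (by rcases hc' with e | e | e <;> simp [e])
    obtain ⟨n, hn, hn'⟩ := List.any_eq_true.mp h
    rw [List.mem_range] at hn
    rw [Bool.and_eq_true, beq_iff_eq] at hn'
    have hu14 : clsW u < 14 := clsW_lt u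
    refine mem_of_cls N (mul_mem (mem_of_cls N hu rfl (clsW_repW hu14))
      (hk (ofNum n) (by rw [clsW_def, num_ofNum hn]; exact hn'.1))) ?_ e
    rw [clsW_def, num_mul', num_repW hu14, num_ofNum hn]
    exact hn'.2
  by_cases hkv : isKer (clsW v) = true
  · exact hk v hkv
  refine key (clsW v) ?_ rfl
  simp [isEven] at hv
  simp [isKer] at hkv
  omega

theorem eq_top_of_odd {w u : W} (hw : w ∈ N) (hc : clsW w = 1) (hu : u ∈ N)
    (ho : isEven (clsW u) = false) : N = ⊤ := by
  have hu14 : clsW u < 14 := clsW_lt u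
  have hmem : clsW u ∈ ([2, 3, 9, 10, 11] : List ℕ) := by
    have hne : isEven (clsW u) ≠ true := by rw [ho]; simp
    simp [isEven] at hne
    simp only [List.mem_cons, List.not_mem_nil, or_false]
    omega
  have hr : repW (clsW u) ∈ N := mem_of_cls N hu rfl (clsW_repW hu14)
  obtain ⟨n, hn, hn'⟩ := List.any_eq_true.mp (List.all_eq_true.mp odd_square _ hmem)
  rw [List.mem_range] at hn
  let d : W := repW (clsW u) * (ofNum n * repW (clsW u) * (ofNum n)⁻¹)
  have hd : d ∈ N := mul_mem hr (Subgroup.Normal.conj_mem inferInstance _ hr _)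
  have hd3 : clsW d = 4 ∨ clsW d = 12 ∨ clsW d = 13 := by
    rw [clsW_def, num_mul', num_mul', num_mul', num_inv', num_repW hu14, num_ofNum hn]
    simpa using hn'
  have hev : ∀ x : W, isEven (clsW x) = true → x ∈ N := fun x hx => even_of_three N hw hc hd hd3 hx
  rw [eq_top_iff]
  intro x _
  have h := all648_spec (List.all_eq_true.mp odd_shift _ hmem) (num x).2
  rw [Bool.or_eq_true] at h
  rcases h with h | h
  · exact hev x (by rw [clsW_def]; exact h)
  · have := hev (x * repW (clsW u)) (by rw [clsW_def, num_mul', num_repW hu14]; exact h)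
    exact (N.mul_mem_cancel_right hr).mp this

end Normal

theorem comm_four : ∃ y : W, clsW y = 1 ∧ clsW ⁅repW 4, y⁆ = 1 := by
  obtain ⟨n, hn, hn'⟩ := List.any_eq_true.mp (Bool.and_eq_true_iff.mp comm_wit).1
  rw [List.mem_range] at hn
  rw [Bool.and_eq_true, beq_iff_eq, beq_iff_eq] at hn'
  refine ⟨ofNum n, by rw [clsW_def, num_ofNum hn]; exact hn'.1, ?_⟩
  rw [clsW_def, num_comm, num_repW (by norm_num), num_ofNum hn]
  exact hn'.2

/-- The normal `3³`. -/
def Jsub : Subgroup W where
  carrier := {w | isJ (clsW w) = true}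
  one_mem' := isJ_one
  mul_mem' := by
    intro x y hx hy
    have h := all648_spec J_closed (num x).2
    simp only [Set.mem_setOf_eq, clsW_def] at hx hy ⊢
    simp only [hx, Bool.not_true, Bool.false_or] at h
    have h' := all648_spec h (num y).2
    simp only [hy, Bool.not_true, Bool.false_or] at h'
    rw [num_mul']
    exact h'
  inv_mem' := by
    intro x hx
    have key : ∀ k : ℕ, isJ (clsW (x ^ k)) = true := by
      intro k
      induction k with
      | zero => rw [pow_zero]; exact isJ_one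
      | succ k ih =>
        rw [pow_succ]
        have h := all648_spec J_closed (num (x ^ k)).2
        simp only [Set.mem_setOf_eq, clsW_def] at hx ih ⊢
        simp only [ih, Bool.not_true, Bool.false_or] at h
        have h' := all648_spec h (num x).2
        simp only [hx, Bool.not_true, Bool.false_or] at h'
        rw [num_mul']
        exact h'
    show isJ (clsW x⁻¹) = true
    rw [show x⁻¹ = x ^ 35 from inv_eq_of_mul_eq_one_right (by rw [← pow_succ', pow36])]
    exact key 35

theorem mem_Jsub {w : W} : w ∈ Jsub ↔ isJ (clsW w) = true := Iff.rfl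

instance : Jsub.Normal :=
  ⟨fun n hn g => by rw [mem_Jsub, clsW_conj]; exact hn⟩

theorem isPGroup_Jsub : IsPGroup 3 Jsub := fun w => ⟨2, Subtype.ext (by
  have : (w : W) ^ 9 = 1 := (nine_iff _).mpr (by
    rcases isJ_cases w.2 with e | e | e | e <;> rw [e] <;> rfl)
  simpa using this)⟩

theorem pCore_eq : Cfsg.pCore 3 W = Jsub := by
  refine le_antisymm (sSup_le ?_) (le_sSup ⟨inferInstance, isPGroup_Jsub⟩)
  rintro Q ⟨hQ, hQp⟩ w hw
  by_contra hJ
  haveI := hQ
  have hc := clsW_lt w
  have h := List.all_eq_true.mp core_wit _ (List.mem_range.mpr hc)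
  rw [Bool.or_eq_true] at h
  have h' := h.resolve_left (fun e => hJ e)
  obtain ⟨n, hn, hn'⟩ := List.any_eq_true.mp h'
  rw [List.mem_range] at hn
  have hr : repW (clsW w) ∈ Q := mem_of_cls Q hw rfl (clsW_repW hc)
  have hcomm : ∀ u v : W, u ∈ Q → ⁅u, v⁆ ∈ Q := by
    intro u v hu
    rw [commutatorElement_def, show u * v * u⁻¹ * v⁻¹ = u * (v * u⁻¹ * v⁻¹) by group]
    exact mul_mem hu (hQ.conj_mem _ (inv_mem hu) v)
  have hx := hcomm _ (ofNum n) hr
  have no_invol : ∀ u : W, u ∈ Q → clsW u = 1 → False := by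
    intro u hu hu1
    obtain ⟨x, hx⟩ := exists_conj_of_cls hu1
    have hu2 : u * u = 1 := by
      rw [← hx, show x * repW 1 * x⁻¹ * (x * repW 1 * x⁻¹) = x * (repW 1 * repW 1) * x⁻¹ by group,
        repW_sq (Or.inl rfl), mul_one, mul_inv_cancel]
    obtain ⟨r, hr⟩ := hQp ⟨u, hu⟩
    have hr' : u ^ 3 ^ r = 1 := by simpa using congrArg Subtype.val hr
    have ho : Odd (3 ^ r) := Odd.pow (by decide)
    obtain ⟨s, hs⟩ := ho
    rw [hs, pow_succ, pow_mul, pow_two, hu2, one_pow, one_mul] at hr'
    rw [hr', clsW_one] at hu1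
    omega
  simp only [Bool.or_eq_true, Bool.and_eq_true, beq_iff_eq] at hn'
  rcases hn' with e | ⟨e, e'⟩
  · exact no_invol _ hx (by rw [clsW_def, num_comm, num_repW hc, num_ofNum hn]; exact e)
  · obtain ⟨m, hm, hm'⟩ := List.any_eq_true.mp e'
    rw [List.mem_range] at hm
    have h4 : repW 4 ∈ Q := mem_of_cls Q hx
      (by rw [clsW_def, num_comm, num_repW hc, num_ofNum hn]; exact e) (clsW_repW (by norm_num))
    refine no_invol _ (hcomm _ (ofNum m) h4) ?_
    rw [clsW_def, num_comm, num_repW (by norm_num), num_ofNum hm]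
    exact beq_iff_eq.mp hm'

/-- The fixed Sylow 3-subgroup. -/
def Psub : Subgroup W where
  carrier := {w | inP (num w) = true}
  one_mem' := by show inP (num 1) = true; rw [num_one]; decide
  mul_mem' := by
    intro x y hx hy
    have hx' : inP (num x) = true := hx
    have hy' : inP (num y) = true := hy
    have h := all648_spec P_closed (num x).2
    simp only [hx', Bool.not_true, Bool.false_or] at h
    have h' := all648_spec h (num y).2
    simp only [hy', Bool.not_true, Bool.false_or] at h'
    show inP (num (x * y)) = true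
    rw [num_mul']
    exact h'
  inv_mem' := by
    intro x hx
    have hx' : inP (num x) = true := hx
    have key : ∀ k : ℕ, inP (num (x ^ k)) = true := by
      intro k
      induction k with
      | zero => rw [pow_zero, num_one]; decide
      | succ k ih =>
        have h := all648_spec P_closed (num (x ^ k)).2
        simp only [ih, Bool.not_true, Bool.false_or] at h
        have h' := all648_spec h (num x).2
        simp only [hx', Bool.not_true, Bool.false_or] at h'
        rw [pow_succ, num_mul']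
        exact h'
    show inP (num x⁻¹) = true
    rw [show x⁻¹ = x ^ 35 from inv_eq_of_mul_eq_one_right (by rw [← pow_succ', pow36])]
    exact key 35

theorem P_spec (w : W) :
    (isJ (clsW w) = true → w ∈ Psub) ∧ (w ∈ Psub → w ^ 9 = 1) ∧
    (w ∈ Psub → isKer (clsW w) = true → isJ (clsW w) = true) ∧
    (w ^ 9 = 1 → (∀ p ∈ Psub, w * p * w⁻¹ ∈ Psub) → w ∈ Psub) := by
  have h := all648_spec P_facts (num w).2
  rw [← clsW_def] at h
  simp only [Bool.and_eq_true, Bool.or_eq_true, Bool.not_eq_true'] at h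
  obtain ⟨⟨⟨h1, h2⟩, h3⟩, h4⟩ := h
  have hmem : w ∈ Psub ↔ inP (num w) = true := Iff.rfl
  refine ⟨fun e => hmem.mpr ?_, fun e => (nine_iff w).mpr ?_, fun e e' => ?_, fun e e' => hmem.mpr ?_⟩
  · simpa [e] using h1
  · rw [hmem] at e; simpa [e] using h2
  · rw [hmem] at e; simpa [e, e'] using h3
  · rw [nine_iff] at e
    by_contra hne
    rcases h4 with (h4 | h4) | h4
    · exact hne h4
    · rw [e] at h4; simp at h4
    · obtain ⟨p, hp, hp'⟩ := List.any_eq_true.mp h4
      rw [List.mem_range] at hp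
      rw [Bool.and_eq_true] at hp'
      have := e' (ofNum p) (show inP (num (ofNum p)) = true by rw [num_ofNum hp]; exact hp'.1)
      have this' : inP (num (w * ofNum p * w⁻¹)) = true := this
      rw [num_mul', num_mul', num_inv', num_ofNum hp] at this'
      simp [this'] at hp'

theorem exists_P_four : ∃ w ∈ Psub, clsW w = 4 := by
  rcases Bool.or_eq_true_iff.mp P_nontriv with h | h
  · exact ⟨repW 4, show inP (num (repW 4)) = true by rw [num_repW (by norm_num)]; exact h,
      clsW_repW (by norm_num)⟩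
  · obtain ⟨n, hn, hn'⟩ := List.any_eq_true.mp h
    rw [List.mem_range] at hn
    rw [Bool.and_eq_true, beq_iff_eq] at hn'
    exact ⟨ofNum n, show inP (num (ofNum n)) = true by rw [num_ofNum hn]; exact hn'.1,
      by rw [clsW_def, num_ofNum hn]; exact hn'.2⟩

/-- The action on the three blocks. -/
def blkW (w : W) (i : Fin 3) : Fin 3 := blk (num w) i

theorem blkW_mul (x y : W) (i : Fin 3) : blkW (x * y) i = blkW x (blkW y i) := by
  have hx := all648_spec blk_check (num x).2
  have hy := all648_spec blk_check (num y).2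
  simp only [Bool.and_eq_true, List.all_eq_true, decide_eq_true_eq] at hx hy
  apply Fin.ext
  show dig (elt (num (x * y))) (3 * i) / 3 % 3 =
    dig (elt (num x)) (3 * (dig (elt (num y)) (3 * i) / 3 % 3)) / 3 % 3
  have hi : 3 * (i : ℕ) < 9 := by omega
  have hd : dig (elt (num y)) (3 * i) < 9 := (hy.1.1 _ (List.mem_range.mpr hi)).2
  have e : elt (num (x * y)) = comp (elt (num x)) (elt (num y)) := by
    rw [elt_num, elt_num, elt_num, Subgroup.coe_mul, code_mul]
  rw [e, comp, dig_pack (fun j => dig (elt (num x)) (dig (elt (num y)) j))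
      (fun j _ => Nat.mod_lt _ (by norm_num)) hi,
    (hx.1.1 _ (List.mem_range.mpr hd)).1,
    Nat.mod_eq_of_lt (show dig (elt (num y)) (3 * i) / 3 < 3 by omega)]

theorem isKer_iff (w : W) : isKer (clsW w) = true ↔ ∀ i, blkW w i = i := by
  have h := all648_spec blk_check (num w).2
  simp only [Bool.and_eq_true, beq_iff_eq] at h
  rw [clsW_def, h.1.2, decide_eq_true_iff]
  rfl

theorem even_shift (w : W) (hw : isEven (clsW w) = true) : ∃ k : Fin 3, ∀ i, blkW w i = i + k := by
  have h := all648_spec blk_check (num w).2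
  simp only [Bool.and_eq_true, Bool.or_eq_true, Bool.not_eq_true'] at h
  rw [clsW_def] at hw
  rcases h.2 with h | h
  · rw [hw] at h; exact absurd h (by simp)
  · exact of_decide_eq_true h

theorem isKer_comm {x y : W} (hx : isEven (clsW x) = true) (hy : isEven (clsW y) = true) :
    isKer (clsW ⁅x, y⁆) = true := by
  obtain ⟨a, ha⟩ := even_shift x hx
  obtain ⟨b, hb⟩ := even_shift y hy
  have inv : ∀ (z : W) (c : Fin 3), (∀ i, blkW z i = i + c) → ∀ i, blkW z⁻¹ i = i - c := by
    intro z c hc i
    have h1 : blkW (z * z⁻¹) i = i := by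
      rw [mul_inv_cancel]
      exact (isKer_iff 1).mp (by rw [clsW_one]; rfl) i
    rw [blkW_mul, hc] at h1
    exact eq_sub_of_add_eq h1
  rw [isKer_iff]
  intro i
  rw [commutatorElement_def, blkW_mul, blkW_mul, blkW_mul, inv y b hb, inv x a ha, ha, hb]
  abel

end CfsgLib.NineNormalizer
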