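import Mathlib
import Cfsg.Agent.Lib.NineNormalizer.Local

/-!
Fusion in a group with a subgroup of type `3³:S₄` containing the centralizers of its strongly
closed `3³`.
-/

set_option autoImplicit false

namespace CfsgLib.NineNormalizer

universe u

variable {G : Type u} [Group G]

/-- The hypotheses, in coordinates. -/
structure Emb (H J : Subgroup G) (e : H ≃* W) : Prop where
  memJ : ∀ h : H, (h : G) ∈ J ↔ isJ (clsW (e h)) = true
  cent : ∀ j ∈ J, j ≠ 1 → Subgroup.centralizer ({j} : Set G) ≤ H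
  closed : Cfsg.IsStronglyClosed J H

namespace Emb

variable {H J : Subgroup G} {e : H ≃* W}

theorem J_le (E : Emb H J e) : J ≤ H := E.closed.1

theorem mem_J_W (E : Emb H J e) (w : W) : ((e.symm w : H) : G) ∈ J ↔ isJ (clsW w) = true := by
  rw [E.memJ, e.apply_symm_apply]

theorem ne_one {h : H} (hh : (h : G) ≠ 1) : e h ≠ 1 := fun e1 => hh (by
  rw [show h = 1 from e.injective (e1.trans (map_one e).symm)]; rfl)

/-- An element whose conjugate stays in `H` is moved by an element of `H`. -/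
theorem conj_eq (E : Emb H J e) [Finite G] {k g : G} (hk : k ∈ J) (hk1 : k ≠ 1)
    (hg : g * k * g⁻¹ ∈ H) : g ∈ H := by
  have hgJ : g * k * g⁻¹ ∈ J := E.closed.2 k hk g hg
  have hk' : g * k * g⁻¹ ≠ 1 := fun h => hk1 (conj_eq_one_iff.mp h)
  have count : ∀ (j : G) (hj : j ∈ J), j ≠ 1 →
      Nat.card {x : W // x * e ⟨j, E.J_le hj⟩ = e ⟨j, E.J_le hj⟩ * x} =
        Nat.card {x : G // x * j = j * x} := by
    intro j hj hj1
    refine Nat.card_congr ⟨fun x => ⟨(e.symm x.1 : H), ?_⟩, fun x => ⟨e ⟨x.1, ?_⟩, ?_⟩,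
      fun x => Subtype.ext ?_, fun x => Subtype.ext ?_⟩
    · have := congrArg (fun w => ((e.symm w : H) : G)) x.2
      simpa using this
    · exact E.cent j hj hj1 (Subgroup.mem_centralizer_singleton_iff.mpr x.2)
    · rw [← map_mul, ← map_mul]
      exact congrArg e (Subtype.ext x.2)
    · simp
    · simp
  have e5 : ∀ (j : G) (hj : j ∈ J), j ≠ 1 → clsW (e ⟨j, E.J_le hj⟩) = 5 ∨
      clsW (e ⟨j, E.J_le hj⟩) = 6 ∨ clsW (e ⟨j, E.J_le hj⟩) = 7 := by
    intro j hj hj1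
    rcases isJ_cases ((E.memJ ⟨j, E.J_le hj⟩).mp hj) with h | h
    · exact absurd (clsW_eq_zero.mp h) (ne_one hj1)
    · exact h
  have hsame : Nat.card {x : G // x * k = k * x} =
      Nat.card {x : G // x * (g * k * g⁻¹) = g * k * g⁻¹ * x} := by
    refine Nat.card_congr (Equiv.subtypeEquiv (MulAut.conj g).toEquiv fun x => ?_)
    show x * k = k * x ↔ g * x * g⁻¹ * (g * k * g⁻¹) = g * k * g⁻¹ * (g * x * g⁻¹)
    rw [← (MulAut.conj g).injective.eq_iff, map_mul, map_mul, MulAut.conj_apply, MulAut.conj_apply]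
  have hcls : clsW (e ⟨k, E.J_le hk⟩) = clsW (e ⟨g * k * g⁻¹, E.J_le hgJ⟩) := by
    have h := (count k hk hk1).trans (hsame.trans (count _ hgJ hk').symm)
    rw [card_cent (e5 k hk hk1), card_cent (e5 _ hgJ hk')] at h
    rcases e5 k hk hk1 with a | a | a <;> rcases e5 _ hgJ hk' with b | b | b <;>
      simp [a, b] at h ⊢
  obtain ⟨x, hx⟩ := exists_conj_of_cls (rfl : clsW (e ⟨k, E.J_le hk⟩) = _)
  obtain ⟨y, hy⟩ := exists_conj_of_cls hcls.symm
  have hyx : y * x⁻¹ * e ⟨k, E.J_le hk⟩ * (y * x⁻¹)⁻¹ = e ⟨g * k * g⁻¹, E.J_le hgJ⟩ := by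
    calc y * x⁻¹ * e ⟨k, E.J_le hk⟩ * (y * x⁻¹)⁻¹
        = y * x⁻¹ * (x * repW (clsW (e ⟨k, E.J_le hk⟩)) * x⁻¹) * (y * x⁻¹)⁻¹ := by rw [hx]
      _ = y * repW (clsW (e ⟨k, E.J_le hk⟩)) * y⁻¹ := by group
      _ = _ := hy
  set n : H := e.symm (y * x⁻¹)
  have hn : (n : G) * k * (n : G)⁻¹ = g * k * g⁻¹ := by
    have h : n * ⟨k, E.J_le hk⟩ * n⁻¹ = ⟨g * k * g⁻¹, E.J_le hgJ⟩ := e.injective (by
      rw [map_mul, map_mul, map_inv, e.apply_symm_apply]; exact hyx)
    exact congrArg Subtype.val h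
  have hc : (n : G)⁻¹ * g ∈ H := E.cent k hk hk1 (Subgroup.mem_centralizer_singleton_iff.mpr (by
    calc (n : G)⁻¹ * g * k = (n : G)⁻¹ * (g * k * g⁻¹) * g := by group
      _ = (n : G)⁻¹ * ((n : G) * k * (n : G)⁻¹) * g := by rw [hn]
      _ = _ := by group))
  simpa using mul_mem n.2 hc

theorem nine_of_pow (n : H) {r : ℕ} (h : (n : G) ^ 3 ^ r = 1) : e n ^ 9 = 1 := by
  have h' : n ^ 3 ^ r = 1 := Subtype.ext (by simpa using h)
  exact nine_of_three_pow (r := r) (by rw [← map_pow, h', map_one])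

theorem isConj_of_cls {h h' : H} (hc : clsW (e h) = clsW (e h')) : IsConj (h : G) (h' : G) := by
  obtain ⟨x, hx⟩ := exists_conj_of_cls (rfl : clsW (e h) = _)
  obtain ⟨y, hy⟩ := exists_conj_of_cls hc.symm
  refine isConj_iff.mpr ⟨(e.symm (y * x⁻¹) : H), ?_⟩
  have h2 : e.symm (y * x⁻¹) * h * (e.symm (y * x⁻¹))⁻¹ = h' := e.injective (by
    rw [map_mul, map_mul, map_inv, e.apply_symm_apply]
    calc y * x⁻¹ * e h * (y * x⁻¹)⁻¹
        = y * x⁻¹ * (x * repW (clsW (e h)) * x⁻¹) * (y * x⁻¹)⁻¹ := by rw [hx]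
      _ = y * repW (clsW (e h)) * y⁻¹ := by group
      _ = _ := hy)
  exact congrArg Subtype.val h2

/-- The two classes of involutions of `H` do not fuse in `G`. -/
theorem not_isConj (E : Emb H J e) [Finite G] :
    ¬ IsConj ((e.symm (repW 1) : H) : G) ((e.symm (repW 2) : H) : G) := by
  haveI : Fact (Nat.Prime 3) := ⟨Nat.prime_three⟩
  intro hc
  obtain ⟨g, hg⟩ := isConj_iff.mp hc
  obtain ⟨x, hx5, -, hxa, -⟩ := exists_sylGen (p := 1) (Or.inl rfl)
  obtain ⟨y, hy6, hy62, hyb, hyall⟩ := exists_sylGen (p := 2) (Or.inr rfl)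
  set a : H := e.symm (repW 1)
  set b : H := e.symm (repW 2)
  have hxJ : ((e.symm x : H) : G) ∈ J := (E.mem_J_W x).mpr (by rw [hx5]; rfl)
  have hyJ : ((e.symm y : H) : G) ∈ J := (E.mem_J_W y).mpr (by rw [hy6]; rfl)
  have ne1 : ∀ w : W, clsW w ≠ 0 → ((e.symm w : H) : G) ≠ 1 := fun w hw h => hw (by
    have : e.symm w = 1 := Subtype.ext h
    rw [show w = 1 by rw [← e.apply_symm_apply w, this, map_one], clsW_one])
  have hy1 := ne1 y (by omega)
  have hx1 := ne1 x (by omega)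
  let C := Subgroup.centralizer ({(b : G)} : Set G)
  have hyC : ((e.symm y : H) : G) ∈ C := Subgroup.mem_centralizer_singleton_iff.mpr (by
    have := congrArg (fun w => ((e.symm w : H) : G)) hyb
    simpa [b] using this)
  let yC : C := ⟨_, hyC⟩
  have hy9 : ((e.symm y : H) : G) ^ 3 ^ 2 = 1 := by
    have : y ^ 9 = 1 := (nine_iff y).mpr (by rw [hy6]; rfl)
    have h := congrArg (fun w => ((e.symm w : H) : G)) this
    simpa using h
  have hYp : IsPGroup 3 (Subgroup.zpowers yC) := by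
    rintro ⟨_, k, rfl⟩
    refine ⟨2, Subtype.ext ?_⟩
    show (yC ^ k) ^ (3 ^ 2 : ℕ) = 1
    rw [← zpow_natCast, ← zpow_mul, mul_comm, zpow_mul, zpow_natCast,
      show yC ^ (3 ^ 2 : ℕ) = 1 from Subtype.ext (by simpa [yC] using hy9), one_zpow]
  obtain ⟨S, hS⟩ := hYp.exists_le_sylow
  have hSeq : (S : Subgroup C) = Subgroup.zpowers yC := by
    refine le_antisymm (fun s hs => ?_) hS
    by_contra hns
    have hlt : Subgroup.zpowers yC < (S : Subgroup C) :=
      lt_of_le_of_ne hS fun h => hns (h ▸ hs)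
    haveI := S.2.isNilpotent
    obtain ⟨⟨r, hrS⟩, hr, hrn⟩ := SetLike.exists_of_lt (Group.normalizerCondition_of_isNilpotent
      ((Subgroup.zpowers yC).subgroupOf (S : Subgroup C))
      (lt_top_iff_ne_top.mpr fun h => hlt.not_ge (Subgroup.subgroupOf_eq_top.mp h)))
    rw [Subgroup.mem_subgroupOf] at hrn
    obtain ⟨k, hk⟩ := Subgroup.mem_subgroupOf.mp ((Subgroup.mem_normalizer_iff.mp hr
      ⟨yC, hS (Subgroup.mem_zpowers _)⟩).mp (Subgroup.mem_subgroupOf.mpr (Subgroup.mem_zpowers _)))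
    have hk' : ((e.symm y : H) : G) ^ k = (r : G) * (e.symm y : H) * (r : G)⁻¹ := by
      simpa [yC] using congrArg Subtype.val hk
    have hrH : (r : G) ∈ H :=
      E.conj_eq hyJ hy1 (hk' ▸ zpow_mem (e.symm y).2 k)
    obtain ⟨m, hm⟩ := S.2 ⟨r, hrS⟩
    have hr9 : e ⟨(r : G), hrH⟩ ^ 9 = 1 := nine_of_pow _ (r := m) (by
      simpa using congrArg (fun u : (S : Subgroup C) => ((u : C) : G)) hm)
    have hrc : e ⟨(r : G), hrH⟩ * repW 2 = repW 2 * e ⟨(r : G), hrH⟩ := by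
      have : (⟨(r : G), hrH⟩ : H) * b = b * ⟨(r : G), hrH⟩ :=
        Subtype.ext (Subgroup.mem_centralizer_singleton_iff.mp r.2)
      simpa [b] using congrArg e this
    refine hrn ?_
    show r ∈ Subgroup.zpowers yC
    rcases hyall _ hr9 hrc with h | h | h
    · have : r = 1 := Subtype.ext (by
        have := congrArg (fun w => ((e.symm w : H) : G)) h; simpa using this)
      rw [this]; exact one_mem _
    · have : r = yC := Subtype.ext (by
        have := congrArg (fun w => ((e.symm w : H) : G)) h; simpa [yC] using this)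
      rw [this]; exact Subgroup.mem_zpowers _
    · have : r = yC * yC := Subtype.ext (by
        have := congrArg (fun w => ((e.symm w : H) : G)) h; simpa [yC] using this)
      rw [this]; exact mul_mem (Subgroup.mem_zpowers _) (Subgroup.mem_zpowers _)
  set xG : G := ((e.symm x : H) : G)
  have hxa' : xG * (a : G) = a * xG := by
    simpa [a, xG] using congrArg (fun w => ((e.symm w : H) : G)) hxa
  have hgx : g * xG * g⁻¹ ∈ C := Subgroup.mem_centralizer_singleton_iff.mpr (by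
    rw [← hg]
    calc g * xG * g⁻¹ * (g * a * g⁻¹) = g * (xG * a) * g⁻¹ := by group
      _ = g * ((a : G) * xG) * g⁻¹ := by rw [hxa']
      _ = _ := by group)
  have hx9 : xG ^ 9 = 1 := by
    have : x ^ 9 = 1 := (nine_iff x).mpr (by rw [hx5]; rfl)
    simpa [xG] using congrArg (fun w => ((e.symm w : H) : G)) this
  have hXp : IsPGroup 3 (Subgroup.zpowers (⟨_, hgx⟩ : C)) := by
    rintro ⟨_, k, rfl⟩
    refine ⟨2, Subtype.ext ?_⟩
    show ((⟨_, hgx⟩ : C) ^ k) ^ (3 ^ 2 : ℕ) = 1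
    rw [← zpow_natCast, ← zpow_mul, mul_comm, zpow_mul, zpow_natCast,
      show (⟨_, hgx⟩ : C) ^ (3 ^ 2 : ℕ) = 1 from Subtype.ext (by
        show (g * xG * g⁻¹) ^ (3 ^ 2 : ℕ) = 1
        rw [conj_pow, show (3 : ℕ) ^ 2 = 9 from rfl, hx9, mul_one, mul_inv_cancel]), one_zpow]
  obtain ⟨S', hS'⟩ := hXp.exists_le_sylow
  obtain ⟨c, hc'⟩ := MulAction.exists_smul_eq C S' S
  have hmem : c * ⟨_, hgx⟩ * c⁻¹ ∈ (S : Subgroup C) := by
    rw [← hc']
    exact ⟨⟨_, hgx⟩, hS' (Subgroup.mem_zpowers _), rfl⟩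
  rw [hSeq] at hmem
  obtain ⟨k, hk⟩ := hmem
  have hk' : ((e.symm y : H) : G) ^ k = ((c : G) * g) * xG * ((c : G) * g)⁻¹ := by
    have := congrArg Subtype.val hk
    simp only [yC, SubgroupClass.coe_zpow, Subgroup.coe_mul, InvMemClass.coe_inv] at this
    rw [this]; group
  have hN := E.conj_eq hxJ hx1 (hk' ▸ zpow_mem (e.symm y).2 k)
  have hH : (e.symm y) ^ k = ⟨_, hN⟩ * e.symm x * (⟨_, hN⟩ : H)⁻¹ :=
    Subtype.ext (by simpa [xG] using hk')
  have hcls := congrArg clsW (congrArg e hH)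
  rw [map_zpow, map_mul, map_mul, map_inv, e.apply_symm_apply, e.apply_symm_apply, clsW_conj,
    hx5] at hcls
  have hy9W : y ^ 9 = 1 := (nine_iff y).mpr (by rw [hy6]; rfl)
  rcases hyall (y ^ k) (by rw [← zpow_natCast, ← zpow_mul, mul_comm, zpow_mul, zpow_natCast, hy9W,
      one_zpow]) ((Commute.zpow_left (hyb : Commute y (repW 2)) k).eq) with h | h | h <;>
    rw [h] at hcls
  · rw [clsW_one] at hcls; omega
  · rw [hy6] at hcls; omega
  · rw [hy62] at hcls; omega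

end Emb

end CfsgLib.NineNormalizer
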