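import Mathlib

/-!
The quadratic equations coming from class multiplication.

Signed degrees `a, b, c, f = a + b, x = c + f` and signed values `uA, …` at the first involution,
`vA, …` at the second.
-/

set_option autoImplicit false

namespace CfsgLib.NineNormalizer

/-- Three atoms with vanishing linear and quadratic sums have equal ratios. -/
theorem three_zero {d₁ d₂ d₃ U₁ U₂ U₃ : ℂ} (h1 : d₁ ≠ 0) (h2 : d₂ ≠ 0) (h3 : d₃ ≠ 0)
    (hd : d₁ + d₂ + d₃ = 0) (hU : U₁ + U₂ + U₃ = 0)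
    (hQ : U₁ ^ 2 / d₁ + U₂ ^ 2 / d₂ + U₃ ^ 2 / d₃ = 0) :
    U₁ * d₂ = U₂ * d₁ ∧ U₁ * d₃ = U₃ * d₁ ∧ U₂ * d₃ = U₃ * d₂ := by
  field_simp at hQ
  have e1 : U₁ = -(U₂ + U₃) := by linear_combination hU
  have e2 : d₁ = -(d₂ + d₃) := by linear_combination hd
  subst e1 e2
  have h : (U₂ * d₃ - U₃ * d₂) ^ 2 = 0 := by linear_combination -hQ
  have h' : U₂ * d₃ = U₃ * d₂ := sub_eq_zero.mp (pow_eq_zero_iff two_ne_zero |>.mp h)
  exact ⟨by linear_combination h', by linear_combination -h', h'⟩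

/-- Shifted coordinates: ratios relative to the atom `F`. -/
structure Shifted (a b c f x : ℂ) (μ m k P K M L : ℂ) : Prop where
  ha : a ≠ 0
  hb : b ≠ 0
  hc : c ≠ 0
  hf : f ≠ 0
  hx : x ≠ 0
  f_eq : f = a + b
  x_eq : x = c + f
  hK : K ≠ 0
  hL : L ≠ 0
  hM : M ^ 2 = K * L
  bb1 : a * P ^ 2 * f = 2 / 3 * L * b
  aa2 : c * k ^ 2 * f = 8 / 3 * K * x
  hh : 1 + c + a ≠ 0
  e1 : μ ^ 2 + c * k ^ 2 - (μ + c * k) ^ 2 / (1 + c + a) = 8 / 3 * K
  e2 : μ * m - (μ + c * k) * (m + a * P) / (1 + c + a) = 4 / 3 * M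
  e3 : m ^ 2 + a * P ^ 2 - (m + a * P) ^ 2 / (1 + c + a) = 4 / 3 * L
  hh' : 1 + x + b ≠ 0
  f1 : μ ^ 2 + (c * k) ^ 2 / x - (μ + c * k) ^ 2 / (1 + x + b) = 4 / 3 * K
  f2 : μ * m - (μ + c * k) * (m - a * P) / (1 + x + b) = 2 / 3 * M
  f3 : m ^ 2 + (a * P) ^ 2 / b - (m - a * P) ^ 2 / (1 + x + b) = L

theorem Shifted.solve {a b c f x μ m k P K M L : ℂ} (S : Shifted a b c f x μ m k P K M L)
    (hc2 : ∀ z : ℂ, 529 * z + 94 = 0 → c ≠ z) : μ = k := by
  obtain ⟨ha, hb, hc, hf, hx, f_eq, x_eq, hK, hL, hM, bb1, aa2, hh, e1, e2, e3, hh', f1, f2, f3⟩ := S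
  have hM0 : M ≠ 0 := fun h => mul_ne_zero hK hL (by rw [← hM, h]; ring)
  -- the triangle `1, A, C`
  have T1 : c * a * ((4 / 3 * L) * k ^ 2 + 2 * (4 / 3 * M) * (k * P) + (8 / 3 * K) * P ^ 2) =
      (c + a) * ((8 / 3 * K) * (4 / 3 * L) - (4 / 3 * M) ^ 2) := by
    rw [← e1, ← e2, ← e3]
    field_simp
    ring
  have T1' : K * L * x * 2 = -3 * f * (c * M * (k * P)) := by
    have : a * (K * L * x * 2) = a * (-3 * f * (c * M * (k * P))) := by
      linear_combination ((9 / 8 : ℂ) * f) * T1 + (-(3 / 2) * a * L) * aa2 + (-3 * c * K) * bb1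
        + (-2 * (a * f + c * f)) * hM + (-2 * K * L * a) * x_eq + (2 * K * L * c) * f_eq
    exact mul_left_cancel₀ ha this
  have hax : a * x = 4 * b * c := by
    have h : K ^ 2 * L ^ 2 * x * (a * x - 4 * b * c) = 0 := by
      linear_combination (a / 4 * (K * L * x * 2 - 3 * f * (c * M * (k * P)))) * T1' +
        (9 / 4 * c ^ 2 * a * f ^ 2 * k ^ 2 * P ^ 2) * hM +
        (9 / 4 * K * L * c * f * a * P ^ 2) * aa2 + (6 * K ^ 2 * L * c * x) * bb1
    have h0 : K ^ 2 * L ^ 2 * x ≠ 0 := by simp [hK, hL, hx]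
    exact sub_eq_zero.mp ((mul_eq_zero.mp h).resolve_left h0)
  have hk : L * k = -4 * M * P := by
    have h : K * x * (L * k + 4 * M * P) = 0 := by
      linear_combination (k / 2) * T1' + (-(3 / 2 : ℂ) * M * P) * aa2
    have h0 : K * x ≠ 0 := mul_ne_zero hK hx
    linear_combination (mul_eq_zero.mp h).resolve_left h0
  -- rescale the second coordinate
  obtain ⟨t, ht⟩ : ∃ t, M = t * L := ⟨M / L, by field_simp⟩
  have hK' : K = t ^ 2 * L := mul_right_cancel₀ hL (by rw [← hM, ht]; ring)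
  subst ht hK'
  obtain ⟨p, hp⟩ : ∃ p, p = t * P := ⟨_, rfl⟩
  obtain ⟨n, hn⟩ : ∃ n, n = t * m := ⟨_, rfl⟩
  obtain ⟨Q, hQ⟩ : ∃ Q, Q = t ^ 2 * L := ⟨_, rfl⟩
  have hk' : k = -4 * p := mul_left_cancel₀ hL (by rw [hp]; linear_combination hk)
  have g2 : μ * n - (μ + c * k) * (n - a * p) / (1 + x + b) = 2 / 3 * Q := by
    subst hn hp hQ; linear_combination t * f2
  have g3 : n ^ 2 + (a * p) ^ 2 / b - (n - a * p) ^ 2 / (1 + x + b) = Q := by
    subst hn hp hQ; linear_combination t ^ 2 * f3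
  have hp2 : a * p ^ 2 * f = 2 / 3 * Q * b := by
    subst hn hp hQ; linear_combination t ^ 2 * bb1
  rw [← hQ] at e1 f1 aa2 hK
  subst hk'
  -- the triangle `1, B, X`
  have T2 : x * b * (Q * (-4 * p * c / x) ^ 2 + -2 * (2 / 3 * Q) * ((-4 * p * c / x) * (a * p / b))
      + (4 / 3 * Q) * (a * p / b) ^ 2) = (x + b) * ((4 / 3 * Q) * Q - (2 / 3 * Q) ^ 2) := by
    rw [← f1, ← g2]
    conv_lhs => arg 2; arg 1; arg 1; arg 1; rw [← g3]
    conv_rhs => arg 2; arg 1; arg 2; rw [← g3]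
    field_simp
    ring
  have hp0 : p ≠ 0 := fun h0 => by
    rw [h0] at hp2
    exact mul_ne_zero (mul_ne_zero (by norm_num : (2 / 3 : ℂ) ≠ 0) hK) hb (by
      linear_combination -hp2)
  have hap : a * p / b = 4 * p * c / x := by
    rw [div_eq_div_iff hb hx]
    linear_combination p * hax
  have hp3 : Q * x = 6 * c * f * p ^ 2 := by
    refine mul_left_cancel₀ hb ?_
    linear_combination (3 / 2 * p ^ 2 * f) * hax - (3 / 2 * x) * hp2
  have h11 : 11 * b * c = (x + b) * f := by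
    rw [hap, show -4 * p * c / x = -(4 * p * c / x) by ring] at T2
    have hY : x * (4 * p * c / x) = 4 * p * c := by field_simp
    generalize 4 * p * c / x = Y at T2 hY
    have T3 : Q * (66 * b * p ^ 2 * c ^ 2 - (x + b) * (Q * x)) = 0 := by
      linear_combination (9 / 8 * x) * T2 - (33 / 8 * b * Q * (x * Y + 4 * p * c)) * hY
    rw [hp3] at T3
    have h : (Q * p ^ 2 * c) * (11 * b * c - (x + b) * f) = 0 := by
      linear_combination T3 / 6
    have h0 : Q * p ^ 2 * c ≠ 0 := mul_ne_zero (mul_ne_zero hK (pow_ne_zero _ hp0)) hc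
    exact sub_eq_zero.mp ((mul_eq_zero.mp h).resolve_left h0)
  have hb4 : b * (4 * c + x) = x * (x - c) := by
    subst f_eq; linear_combination -hax + (-x) * x_eq
  have hx4 : x = 4 * c := by
    have h : f * x * (x - 4 * c) = 0 := by
      subst x_eq
      linear_combination (-(4 * c + (c + f)) / 2) * h11 + ((11 * c - f) / 2) * hb4
    exact sub_eq_zero.mp ((mul_eq_zero.mp h).resolve_left (mul_ne_zero hf hx))
  subst hx4
  have hf3 : f = 3 * c := by linear_combination -x_eq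
  have hb3 : b = 3 / 2 * c := mul_left_cancel₀ hc (by linear_combination hb4 / 8)
  have ha3 : a = 3 / 2 * c := by linear_combination -f_eq + hf3 - hb3
  subst hf3 hb3 ha3
  have hQ' : Q = 9 / 2 * c * p ^ 2 := mul_left_cancel₀ hc (by linear_combination -hp2)
  subst hQ'
  obtain ⟨A, hA⟩ : ∃ A, A = μ + c * (-4 * p) := ⟨_, rfl⟩
  rw [← hA] at e1 f1
  have hu : A ^ 2 / (1 + c + 3 / 2 * c) = μ ^ 2 + 4 * c * p ^ 2 := by linear_combination -e1
  have hw : A ^ 2 / (1 + 4 * c + 3 / 2 * c) = μ ^ 2 - 2 * c * p ^ 2 := by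
    have e : (c * (-4 * p)) ^ 2 / (4 * c) = 4 * c * p ^ 2 := by field_simp
    rw [e] at f1
    linear_combination -f1
  rw [div_eq_iff hh] at hu
  rw [div_eq_iff hh'] at hw
  have hμ2 : μ ^ 2 = p ^ 2 * (2 + 7 * c) := mul_left_cancel₀ hc (by
    linear_combination (hu - hw) / 3)
  have hA2 : A ^ 2 = 2 * p ^ 2 * ((1 + c + 3 / 2 * c) * (1 + 4 * c + 3 / 2 * c)) := by
    linear_combination hu + (1 + c + 3 / 2 * c) * hμ2
  have hμ : 16 * μ = -p * (18 + 23 * c) := by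
    subst hA
    refine mul_left_cancel₀ (mul_ne_zero hc hp0) ?_
    linear_combination -2 * hA2 + 2 * hμ2
  have hroot : (c - 2) * (529 * c + 94) = 0 := by
    refine mul_left_cancel₀ (pow_ne_zero 2 hp0) ?_
    linear_combination (-(16 * μ - p * (18 + 23 * c))) * hμ + 256 * hμ2
  have hc2' : c = 2 := by
    rcases mul_eq_zero.mp hroot with h | h
    · exact sub_eq_zero.mp h
    · exact absurd rfl (hc2 c h)
  subst hc2'
  linear_combination hμ / 16

end CfsgLib.NineNormalizer
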