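import Mathlib
import Cfsg.Agent.Lib.NineNormalizer.Quadratic

/-!
The degenerate configurations, and the passage to shifted coordinates.
-/

set_option autoImplicit false

namespace CfsgLib.NineNormalizer

/-- If two of three atoms with vanishing linear sums have equal ratios, the quadratic sum
vanishes. -/
theorem two_equal {d₁ d₂ d₃ U₁ U₂ U₃ : ℂ} (h1 : d₁ ≠ 0) (h2 : d₂ ≠ 0) (h3 : d₃ ≠ 0)
    (hd : d₁ + d₂ + d₃ = 0) (hU : U₁ + U₂ + U₃ = 0) (h : U₁ * d₂ = U₂ * d₁) :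
    U₁ ^ 2 / d₁ + U₂ ^ 2 / d₂ + U₃ ^ 2 / d₃ = 0 := by
  obtain ⟨r, hr⟩ : ∃ r, U₁ = r * d₁ := ⟨U₁ / d₁, by field_simp⟩
  subst hr
  have e2 : U₂ = r * d₂ := mul_left_cancel₀ h1 (by linear_combination -h)
  subst e2
  have e3 : U₃ = r * d₃ := by linear_combination hU - r * hd
  subst e3
  field_simp
  linear_combination r ^ 2 * hd

/-- The configuration `1 + C + A + C'` with two atoms like `C`. -/
theorem kill_double {a b c f x : ℤ} {uA uC uF uX vA vB vC vF : ℂ} {K M L : ℂ}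
    (ha : a ≠ 0) (hb : b ≠ 0) (hc : c ≠ 0) (hf : f ≠ 0) (hx : x ≠ 0)
    (hfe : f = a + b) (hxe : x = c + f) (hsum : 1 + 2 * c + a = 0)
    (hu : 1 + 2 * uC + uA = 0) (hv : 1 + 2 * vC + vA = 0)
    (hlu : uA * f = uF * a) (hlv : vC * f = vF * c) (hvB : vA + vB = vF) (huX : uC + uF = uX)
    (hM : M ^ 2 = K * L) (hK : K ≠ 0) (hL : L ≠ 0)
    (hbb : vA ^ 2 / a + vB ^ 2 / b - vF ^ 2 / f = 2 / 3 * L)
    (haa : uC ^ 2 / c + uF ^ 2 / f - uX ^ 2 / x = 8 / 3 * K)
    (haa4 : 1 + 2 * (uC ^ 2 / c) + uA ^ 2 / a = 8 / 3 * K)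
    (hab4 : 1 + 2 * (uC * vC / c) + uA * vA / a = 4 / 3 * M)
    (hbb4 : 1 + 2 * (vC ^ 2 / c) + vA ^ 2 / a = 4 / 3 * L) : False := by
  have hca : (a : ℂ) ≠ 0 := Int.cast_ne_zero.mpr ha
  have hcb : (b : ℂ) ≠ 0 := Int.cast_ne_zero.mpr hb
  have hcc : (c : ℂ) ≠ 0 := Int.cast_ne_zero.mpr hc
  have hcf : (f : ℂ) ≠ 0 := Int.cast_ne_zero.mpr hf
  have hcx : (x : ℂ) ≠ 0 := Int.cast_ne_zero.mpr hx
  have hsum' : (1 : ℂ) + 2 * c + a = 0 := by exact_mod_cast hsum
  have hfe' : (f : ℂ) = a + b := by exact_mod_cast hfe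
  have hxe' : (x : ℂ) = c + f := by exact_mod_cast hxe
  obtain ⟨l, hl⟩ : ∃ l, uF = l * f := ⟨uF / f, by field_simp⟩
  obtain ⟨n, hn⟩ : ∃ n, vF = n * f := ⟨vF / f, by field_simp⟩
  obtain ⟨k, hk⟩ : ∃ k, uC = l * c + c * k := ⟨uC / c - l, by field_simp; ring⟩
  obtain ⟨P, hP⟩ : ∃ P, vA = n * a + a * P := ⟨vA / a - n, by field_simp; ring⟩
  subst hl hn hk hP
  have euA : uA = l * a := mul_right_cancel₀ hcf (by linear_combination hlu)
  have evC : vC = n * c := mul_right_cancel₀ hcf (by linear_combination hlv)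
  subst euA evC huX
  have evB : vB = n * b - a * P := by linear_combination hvB + n * hfe'
  subst evB
  have h1 : l = 1 + 2 * (c * k) := by linear_combination -hu + l * hsum'
  have h2 : n = 1 + a * P := by linear_combination -hv + n * hsum'
  subst h1 h2
  have B1 : (a : ℂ) * P ^ 2 * f = 2 / 3 * L * b := by
    rw [← hbb, hfe']; rw [hfe'] at hcf
    field_simp; ring
  have A1 : (c : ℂ) * k ^ 2 * f = 8 / 3 * K * x := by
    rw [← haa, hxe']; rw [hxe'] at hcx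
    field_simp; ring
  have A4 : (c : ℂ) * k ^ 2 * (4 * c + 2) = 8 / 3 * K := by
    rw [← haa4]; field_simp
    linear_combination ((2 * (c : ℂ) * k + 1) ^ 2 * (-1)) * hsum' * (c * a) ^ 0
  have AB4 : 2 * (c : ℂ) * k * (a * P) = 4 / 3 * M := by
    rw [← hab4]; field_simp
    linear_combination (-(1 + 2 * (c : ℂ) * k) * (1 + a * P)) * hsum' * (c * a) ^ 0
  have B4 : (a : ℂ) * P ^ 2 * (a + 1) = 4 / 3 * L := by
    rw [← hbb4]; field_simp
    linear_combination (-(1 + (a : ℂ) * P) ^ 2) * hsum' * (c * a) ^ 0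
  have hk0 : k ≠ 0 := fun h => mul_ne_zero (by norm_num : (8 / 3 : ℂ) ≠ 0) hK (by
    rw [← A4, h]; ring)
  have hP0 : P ≠ 0 := fun h => mul_ne_zero (by norm_num : (4 / 3 : ℂ) ≠ 0) hL (by
    rw [← B4, h]; ring)
  have E1 : (x : ℂ) * (4 * c + 2) = f := by
    refine mul_left_cancel₀ (mul_ne_zero hcc (pow_ne_zero 2 hk0)) ?_
    linear_combination -A1 + x * A4
  have E3 : (b : ℂ) * (a + 1) = 2 * f := by
    refine mul_left_cancel₀ (mul_ne_zero hca (pow_ne_zero 2 hP0)) ?_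
    linear_combination b * B4 - 2 * B1
  have i1 : x * (4 * c + 2) = f := by exact_mod_cast E1
  have i3 : b * (a + 1) = 2 * f := by exact_mod_cast E3
  subst hxe hfe
  have ea : a = -1 - 2 * c := by omega
  subst ea
  have j3 : b * (1 + c) = 1 + 2 * c := by linarith [i3]
  have : b * (2 * c - 1) = 0 := by
    have h4 : c * (4 * c + 2) + (-1 - 2 * c + b) * (4 * c + 1) = 0 := by linarith [i1]
    have h5 : -1 - 2 * c + b = -(c * b) := by linarith [i3]
    rw [h5] at h4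
    have h6 : c * (b * (4 * c + 1) - (4 * c + 2)) = 0 := by linear_combination -h4
    have h7 := (mul_eq_zero.mp h6).resolve_left hc
    linear_combination h7 - 2 * j3
  rcases mul_eq_zero.mp this with h | h
  · exact hb h
  · omega

/-- All atoms of the second coordinate but `1` and `A` have equal ratios. -/
theorem kill_two_sums {a c D g : ℂ} {vA vD L n : ℂ} (hc : c ≠ 0) (hD : D ≠ 0)
    (hd4 : 1 + a + c + D = 0) (hv4 : 1 + vA + n * c + vD = 0)
    (hd6 : 1 + a + g = 0) (hv6 : 1 + vA + n * g = 0) (hL : L ≠ 0)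
    (hbb4 : 1 + vA ^ 2 / a + (n * c) ^ 2 / c + vD ^ 2 / D = 4 / 3 * L)
    (hbb6 : 1 + vA ^ 2 / a + n ^ 2 * g = L) : False := by
  have e : vD = n * D := by linear_combination hv4 - hv6 - n * hd4 + n * hd6
  subst e
  have hcg : c + D = g := by linear_combination hd4 - hd6
  have : 1 + vA ^ 2 / a + n ^ 2 * g = 4 / 3 * L := by
    rw [← hbb4, ← hcg]; field_simp; ring
  exact hL (by linear_combination -3 * this + 3 * hbb6)

/-- The generic configuration. -/
theorem good_case {a b c f x D E : ℤ} {uA uB uC uF uX uD uE vA vB vC vF vX vD vE : ℂ} {K M L : ℂ}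
    (ha : a ≠ 0) (hb : b ≠ 0) (hc : c ≠ 0) (hf : f ≠ 0) (hx : x ≠ 0) (hD : D ≠ 0) (hE : E ≠ 0)
    (hfe : f = a + b) (hxe : x = c + f) (hDe : 1 + c + a + D = 0) (hEe : 1 + x + b + E = 0)
    (hM : M ^ 2 = K * L) (hK : K ≠ 0) (hL : L ≠ 0)
    (huF : uA + uB = uF) (hvF : vA + vB = vF) (huX : uC + uF = uX) (hvX : vC + vF = vX)
    (huD : 1 + uC + uA + uD = 0) (hvD : 1 + vC + vA + vD = 0)
    (huE : 1 + uX + uB + uE = 0) (hvE : 1 + vX + vB + vE = 0)
    (aa1 : uA ^ 2 / a + uB ^ 2 / b - uF ^ 2 / f = 0)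
    (bb1 : vA ^ 2 / a + vB ^ 2 / b - vF ^ 2 / f = 2 / 3 * L)
    (aa2 : uC ^ 2 / c + uF ^ 2 / f - uX ^ 2 / x = 8 / 3 * K)
    (bb2 : vC ^ 2 / c + vF ^ 2 / f - vX ^ 2 / x = 0)
    (aa4 : 1 + uC ^ 2 / c + uA ^ 2 / a + uD ^ 2 / D = 8 / 3 * K)
    (ab4 : 1 + uC * vC / c + uA * vA / a + uD * vD / D = 4 / 3 * M)
    (bb4 : 1 + vC ^ 2 / c + vA ^ 2 / a + vD ^ 2 / D = 4 / 3 * L)
    (aa6 : 1 + uX ^ 2 / x + uB ^ 2 / b + uE ^ 2 / E = 4 / 3 * K)
    (ab6 : 1 + uX * vX / x + uB * vB / b + uE * vE / E = 2 / 3 * M)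
    (bb6 : 1 + vX ^ 2 / x + vB ^ 2 / b + vE ^ 2 / E = L) : uC = c := by
  have hca : (a : ℂ) ≠ 0 := Int.cast_ne_zero.mpr ha
  have hcb : (b : ℂ) ≠ 0 := Int.cast_ne_zero.mpr hb
  have hcc : (c : ℂ) ≠ 0 := Int.cast_ne_zero.mpr hc
  have hcf : (f : ℂ) ≠ 0 := Int.cast_ne_zero.mpr hf
  have hcx : (x : ℂ) ≠ 0 := Int.cast_ne_zero.mpr hx
  have hcD : (D : ℂ) ≠ 0 := Int.cast_ne_zero.mpr hD
  have hcE : (E : ℂ) ≠ 0 := Int.cast_ne_zero.mpr hE
  have hfe' : (f : ℂ) = a + b := by exact_mod_cast hfe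
  have hxe' : (x : ℂ) = c + f := by exact_mod_cast hxe
  have eD : (D : ℂ) = -(1 + c + a) := by
    have : (1 : ℂ) + c + a + D = 0 := by exact_mod_cast hDe
    linear_combination this
  have eE : (E : ℂ) = -(1 + x + b) := by
    have : (1 : ℂ) + x + b + E = 0 := by exact_mod_cast hEe
    linear_combination this
  have t1 := three_zero hca hcb (neg_ne_zero.mpr hcf) (d₃ := -(f : ℂ)) (U₁ := uA) (U₂ := uB)
    (U₃ := -uF) (by linear_combination -hfe') (by linear_combination huF)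
    (by rw [← aa1, div_neg, neg_sq]; ring)
  have t2 := three_zero hcc hcf (neg_ne_zero.mpr hcx) (d₃ := -(x : ℂ)) (U₁ := vC) (U₂ := vF)
    (U₃ := -vX) (by linear_combination -hxe') (by linear_combination hvX)
    (by rw [← bb2, div_neg, neg_sq]; ring)
  obtain ⟨l, hl⟩ : ∃ l, uF = l * f := ⟨uF / f, by field_simp⟩
  obtain ⟨n, hn⟩ : ∃ n, vF = n * f := ⟨vF / f, by field_simp⟩
  obtain ⟨k, hk⟩ : ∃ k, uC = l * c + c * k := ⟨uC / c - l, by field_simp; ring⟩
  obtain ⟨P, hP⟩ : ∃ P, vA = n * a + a * P := ⟨vA / a - n, by field_simp; ring⟩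
  subst hl hn hk hP
  have euA : uA = l * a := mul_right_cancel₀ hcf (by linear_combination -t1.2.1)
  have evC : vC = n * c := mul_right_cancel₀ hcf (by linear_combination t2.1)
  subst euA evC
  have euB : uB = l * b := by linear_combination huF + l * hfe'
  have evB : vB = n * b - a * P := by linear_combination hvF + n * hfe'
  have euX : uX = l * x + c * k := by linear_combination -huX - l * hxe'
  have evX : vX = n * x := by linear_combination -hvX - n * hxe'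
  subst euB evB euX evX
  have euD : uD = l * D - ((1 - l) + c * k) := by rw [eD]; linear_combination huD
  have evD : vD = n * D - ((1 - n) + a * P) := by rw [eD]; linear_combination hvD
  have euE : uE = l * E - ((1 - l) + c * k) := by rw [eE]; linear_combination huE
  have evE : vE = n * E - ((1 - n) - a * P) := by rw [eE]; linear_combination hvE
  subst euD evD euE evE
  have hhD : (1 : ℂ) + c + a ≠ 0 := fun h => hcD (by rw [eD, h, neg_zero])
  have hhE : (1 : ℂ) + x + b ≠ 0 := fun h => hcE (by rw [eE, h, neg_zero])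
  rw [eD] at aa4 ab4 bb4
  rw [eE] at aa6 ab6 bb6
  have S : Shifted (a : ℂ) b c f x (1 - l) (1 - n) k P K M L := by
    refine ⟨hca, hcb, hcc, hcf, hcx, hfe', hxe', hK, hL, hM, ?_, ?_, hhD, ?_, ?_, ?_, hhE, ?_, ?_, ?_⟩
    · rw [← bb1, hfe']; rw [hfe'] at hcf; field_simp; ring
    · rw [← aa2, hxe']; rw [hxe'] at hcx; field_simp; ring
    · rw [← aa4]; field_simp; ring
    · rw [← ab4]; field_simp; ring
    · rw [← bb4]; field_simp; ring
    · rw [← aa6]; field_simp; ring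
    · rw [← ab6]; field_simp; ring
    · rw [← bb6]; field_simp; ring
  have hμ := S.solve fun z hz e => by
    subst e
    have : (529 : ℤ) * c + 94 = 0 := by exact_mod_cast hz
    omega
  linear_combination -(c : ℂ) * hμ

end CfsgLib.NineNormalizer
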