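import Mathlib
import Cfsg.Agent.Lib.NineNormalizer.Kills

/-!
Six integer vectors with the Gram matrix of the virtual characters: the only configuration
compatible with the class multiplication equations makes some constituent take its degree at the
first involution.
-/

set_option autoImplicit false

namespace CfsgLib.NineNormalizer

/-- The data on the constituents: `c j` are the coefficients of the six induced virtual
characters, `d` the degrees, `u, v` the values at the two involutions. -/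
structure Sys (ι : Type*) [Fintype ι] (c : Fin 6 → ι → ℤ) (d : ι → ℤ) (one : ι) (u v : ι → ℂ)
    (K M L : ℂ) : Prop where
  d0 : ∀ i, d i ≠ 0
  d1 : d one = 1
  u1 : u one = 1
  v1 : v one = 1
  gram : ∀ p q : Fin 6, ∑ i, c p i * c q i = (([[3, 2, -1, -1, 1, 1], [2, 3, 0, 0, 1, 1],
    [-1, 0, 3, 2, 1, -1], [-1, 0, 2, 3, 1, 0], [1, 1, 1, 1, 4, 1],
    [1, 1, -1, 0, 1, 4]] : List (List ℤ)).getD p []).getD q 0
  cone : ∀ p : Fin 6, c p one = ([0, 0, 0, 0, 1, 1] : List ℤ).getD p 0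
  deg : ∀ p : Fin 6, ∑ i, c p i * d i = 0
  lu : ∀ p : Fin 6, ∑ i, (c p i : ℂ) * u i = 0
  lv : ∀ p : Fin 6, ∑ i, (c p i : ℂ) * v i = 0
  qaa : ∀ p : Fin 6, ∑ i, (c p i : ℂ) * (u i * u i / d i) =
    ([0, 0, 8 / 3, 8 / 3, 8 / 3, 4 / 3] : List ℂ).getD p 0 * K
  qab : ∀ p : Fin 6, ∑ i, (c p i : ℂ) * (u i * v i / d i) =
    ([0, 0, 0, 0, 4 / 3, 2 / 3] : List ℂ).getD p 0 * M
  qbb : ∀ p : Fin 6, ∑ i, (c p i : ℂ) * (v i * v i / d i) =
    ([2 / 3, 2 / 3, 0, 0, 4 / 3, 1] : List ℂ).getD p 0 * L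
  hM : M ^ 2 = K * L
  hK : K ≠ 0
  hL : L ≠ 0

/-- The admissible range. -/
abbrev tri : Finset ℤ := {-1, 0, 1}

set_option synthInstance.maxSize 2000 in
set_option synthInstance.maxHeartbeats 200000 in
theorem pat_four : ∀ A ∈ tri, ∀ B ∈ tri, ∀ F ∈ tri, ∀ C ∈ tri, ∀ Y ∈ tri,
    A + B - F = 1 → C + F + Y = 1 → A ^ 2 + B ^ 2 + F ^ 2 + C ^ 2 + Y ^ 2 ≤ 3 →
    (F = 0 ∧ (A = 1 ∧ B = 0 ∨ A = 0 ∧ B = 1) ∧ (C = 1 ∧ Y = 0 ∨ C = 0 ∧ Y = 1)) ∨
      (A = 1 ∧ B = 1 ∧ F = 1 ∧ C = 0 ∧ Y = 0) ∨ (A = 0 ∧ B = 0 ∧ F = -1 ∧ C = 1 ∧ Y = 1) := by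
  decide +kernel

set_option synthInstance.maxSize 2000 in
set_option synthInstance.maxHeartbeats 200000 in
theorem pat_three : ∀ A ∈ tri, ∀ B ∈ tri, ∀ F ∈ tri, ∀ C ∈ tri, ∀ Y ∈ tri,
    A + B - F = -1 → C + F + Y = 2 → A ^ 2 + B ^ 2 + F ^ 2 + C ^ 2 + Y ^ 2 ≤ 3 →
    (C = 1 ∧ Y = 1 ∧ F = 0 ∧ (A = -1 ∧ B = 0 ∨ A = 0 ∧ B = -1)) ∨
      (C = 1 ∧ F = 1 ∧ Y = 0 ∧ A = 0 ∧ B = 0) ∨ (F = 1 ∧ Y = 1 ∧ C = 0 ∧ A = 0 ∧ B = 0) := by
  decide +kernel

set_option synthInstance.maxSize 2000 in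
set_option synthInstance.maxHeartbeats 200000 in
theorem pat_two : ∀ A ∈ tri, ∀ B ∈ tri, ∀ F ∈ tri, ∀ C ∈ tri, ∀ Y ∈ tri,
    A + B - F = 2 → C + F + Y = 0 → A ^ 2 + B ^ 2 + F ^ 2 + C ^ 2 + Y ^ 2 ≤ 3 →
    (A = 1 ∧ B = 1 ∧ F = 0 ∧ C = 0 ∧ Y = 0) ∨
      (A = 1 ∧ B = 0 ∧ F = -1 ∧ (C = 1 ∧ Y = 0 ∨ C = 0 ∧ Y = 1)) ∨
      (A = 0 ∧ B = 1 ∧ F = -1 ∧ (C = 1 ∧ Y = 0 ∨ C = 0 ∧ Y = 1)) := by
  decide +kernel

set_option synthInstance.maxSize 4000 in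
set_option synthInstance.maxHeartbeats 400000 in
theorem pat_six : ∀ A ∈ tri, ∀ B ∈ tri, ∀ F ∈ tri, ∀ W ∈ tri, ∀ C ∈ tri, ∀ Y ∈ tri, ∀ Z ∈ tri,
    ∀ D ∈ tri, A + B - F = 1 → A + B + W = 1 → C + F + Y = -1 → C + F + Z = 0 → A + C + D = 0 →
    A ^ 2 + B ^ 2 + F ^ 2 + W ^ 2 + C ^ 2 + Y ^ 2 + Z ^ 2 + D ^ 2 ≤ 3 →
    (A = 0 ∧ B = 1 ∧ F = 0 ∧ W = 0 ∧ C = 0 ∧ Y = -1 ∧ Z = 0 ∧ D = 0) ∨
      (A = 0 ∧ B = 0 ∧ F = -1 ∧ W = 1 ∧ C = 0 ∧ Y = 0 ∧ Z = 1 ∧ D = 0) ∨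
      (A = 1 ∧ B = 0 ∧ F = 0 ∧ W = 0 ∧ C = 0 ∧ Y = -1 ∧ Z = 0 ∧ D = -1) ∨
      (A = 1 ∧ B = 0 ∧ F = 0 ∧ W = 0 ∧ C = -1 ∧ Y = 0 ∧ Z = 1 ∧ D = 0) := by
  decide +kernel

theorem small {s N : ℤ} (hN : N ≤ 3) (hs : s ^ 2 ≤ N) : s ^ 2 ≤ 1 := by
  have : -1 ≤ s ∧ s ≤ 1 := ⟨by nlinarith, by nlinarith⟩
  nlinarith

theorem sgn_sq {e s : ℤ} (he : e ^ 2 = 1) : (e * s) ^ 2 = s ^ 2 := by rw [mul_pow, he, one_mul]

theorem inv_sgn {e s t : ℤ} (he : e ^ 2 = 1) (h : e * s = t) : s = t * e := by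
  rw [← h, mul_comm _ e, ← mul_assoc, ← sq, he, one_mul]

theorem nz {w : ℤ} (hw : w ^ 2 = 1) : w ≠ 0 := fun e => by rw [e] at hw; norm_num at hw

theorem mem_tri {s : ℤ} (h : s ^ 2 ≤ 1) : s ∈ tri := by
  have : -1 ≤ s ∧ s ≤ 1 := ⟨by nlinarith, by nlinarith⟩
  rcases (by omega : s = -1 ∨ s = 0 ∨ s = 1) with rfl | rfl | rfl <;> decide

section

variable {ι : Type*} [Fintype ι] [DecidableEq ι]

theorem csum_on (w : ι → ℤ) (S : Finset ι) (h : ∀ i ∉ S, w i = 0) (F : ι → ℂ) :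
    ∑ i, (w i : ℂ) * F i = ∑ i ∈ S, (w i : ℂ) * F i :=
  (Finset.sum_subset (Finset.subset_univ S) fun i _ hi => by rw [h i hi, Int.cast_zero, zero_mul]).symm

theorem isum_on (w : ι → ℤ) (S : Finset ι) (h : ∀ i ∉ S, w i = 0) (F : ι → ℤ) :
    ∑ i, w i * F i = ∑ i ∈ S, w i * F i :=
  (Finset.sum_subset (Finset.subset_univ S) fun i _ hi => by rw [h i hi, zero_mul]).symm

theorem sq_sub (w : ι → ℤ) (S : Finset ι) {N : ℤ} (h : ∑ i, w i * w i = N) :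
    ∑ i ∈ S, w i ^ 2 ≤ N := by
  rw [← h]
  refine (Finset.sum_le_sum_of_subset_of_nonneg (Finset.subset_univ S)
    fun i _ _ => sq_nonneg _).trans (le_of_eq ?_)
  exact Finset.sum_congr rfl fun i _ => by ring

theorem none_left (w : ι → ℤ) (S : Finset ι) {N : ℤ} (h : ∑ i, w i * w i = N)
    (hS : ∑ i ∈ S, w i ^ 2 = N) : ∀ i ∉ S, w i = 0 := by
  intro i hi
  have h1 := sq_sub w (insert i S) h
  rw [Finset.sum_insert hi, hS] at h1
  exact pow_eq_zero_iff two_ne_zero |>.mp (le_antisymm (by omega) (sq_nonneg _))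

theorem one_left (w : ι → ℤ) (S : Finset ι) {N : ℤ} (h : ∑ i, w i * w i = N)
    (hS : ∑ i ∈ S, w i ^ 2 + 1 = N) :
    ∃ D ∉ S, w D ^ 2 = 1 ∧ ∀ i ∉ insert D S, w i = 0 := by
  by_cases hne : ∀ i ∉ S, w i = 0
  · exfalso
    rw [isum_on w S hne w] at h
    have : ∑ i ∈ S, w i * w i = ∑ i ∈ S, w i ^ 2 := Finset.sum_congr rfl fun i _ => by ring
    omega
  push Not at hne
  obtain ⟨D, hD, hD0⟩ := hne
  have h1 := sq_sub w (insert D S) h
  rw [Finset.sum_insert hD] at h1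
  have hpos : 0 < w D ^ 2 := by positivity
  have h2 : w D ^ 2 = 1 := by omega
  exact ⟨D, hD, h2, none_left w _ h (by rw [Finset.sum_insert hD]; omega)⟩

theorem three_support (w : ι → ℤ) (h : ∑ i, w i * w i = 3) :
    ∃ A B C, A ≠ B ∧ A ≠ C ∧ B ≠ C ∧ w A ^ 2 = 1 ∧ w B ^ 2 = 1 ∧ w C ^ 2 = 1 ∧
      ∀ i, i ≠ A → i ≠ B → i ≠ C → w i = 0 := by
  let S := Finset.univ.filter fun i => w i ≠ 0
  have hle : ∀ i, w i ^ 2 ≤ 1 := by
    intro i
    have := sq_sub w {i} h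
    rw [Finset.sum_singleton] at this
    have : -1 ≤ w i ∧ w i ≤ 1 := ⟨by nlinarith, by nlinarith⟩
    nlinarith
  have hsq : ∀ i ∈ S, w i * w i = 1 := by
    intro i hi
    have h0 := (Finset.mem_filter.mp hi).2
    have := hle i
    have : 0 < w i ^ 2 := by positivity
    rw [← sq]; omega
  have hcard : (S.card : ℤ) = 3 := by
    rw [isum_on w S (fun i hi => by simpa [S] using hi) w, Finset.sum_congr rfl hsq] at h
    simpa using h
  obtain ⟨A, B, C, hAB, hAC, hBC, hS⟩ := Finset.card_eq_three.mp (by exact_mod_cast hcard : S.card = 3)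
  refine ⟨A, B, C, hAB, hAC, hBC, ?_, ?_, ?_, fun i h1 h2 h3 => ?_⟩
  · rw [sq]; exact hsq A (by simp [hS])
  · rw [sq]; exact hsq B (by simp [hS])
  · rw [sq]; exact hsq C (by simp [hS])
  · by_contra h0
    have : i ∈ S := Finset.mem_filter.mpr ⟨Finset.mem_univ _, h0⟩
    simp [hS, h1, h2, h3] at this

end

theorem mul_mem_tri {e s : ℤ} (he : e ^ 2 = 1) (hs : s ^ 2 ≤ 1) : e * s ∈ tri :=
  mem_tri (by rw [mul_pow, he, one_mul]; exact hs)

/-- A term of a quadratic sum, in signed quantities. -/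
theorem qterm {w : ℤ} (hw : w ^ 2 = 1) (p q dd : ℂ) :
    (w : ℂ) * (p * q / dd) = ((w : ℂ) * p) * ((w : ℂ) * q) / ((w : ℂ) * dd) := by
  rcases sq_eq_one_iff.mp hw with rfl | rfl <;> push_cast <;>
    simp [div_neg, neg_div, mul_comm, mul_left_comm]

theorem recover {w : ℤ} (hw : w ^ 2 = 1) {p q : ℂ} (h : (w : ℂ) * p = (w : ℂ) * q) : p = q :=
  mul_left_cancel₀ (Int.cast_ne_zero.mpr (fun e => by rw [e] at hw; norm_num at hw)) h

variable {ι : Type*} [Fintype ι] {c : Fin 6 → ι → ℤ} {d : ι → ℤ} {one : ι} {u v : ι → ℂ}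
  {K M L : ℂ}

/-- Names of the atoms of the first, third and fifth vectors. -/
structure Atoms [DecidableEq ι] (c : Fin 6 → ι → ℤ) (one A B F C Y D : ι) : Prop where
  hAB : A ≠ B
  hAF : A ≠ F
  hBF : B ≠ F
  hnAC : A ≠ C
  hnAY : A ≠ Y
  hnBC : B ≠ C
  hnBY : B ≠ Y
  hCY : C ≠ Y
  hCF : C ≠ F
  hYF : Y ≠ F
  n1 : one ≠ A ∧ one ≠ B ∧ one ≠ F ∧ one ≠ C ∧ one ≠ Y
  hD1 : ¬ D = one
  hDA : ¬ D = A
  hDB : ¬ D = B
  hDF : ¬ D = F
  hDC : ¬ D = C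
  hDY : ¬ D = Y
  hA : c 0 A ^ 2 = 1
  hB : c 0 B ^ 2 = 1
  hF' : c 2 F ^ 2 = 1
  hC : c 2 C ^ 2 = 1
  hY : c 2 Y ^ 2 = 1
  hD : c 4 D ^ 2 = 1
  h0 : ∀ i ∉ ({A, B, F} : Finset ι), c 0 i = 0
  h2 : ∀ i ∉ ({C, F, Y} : Finset ι), c 2 i = 0
  h4 : ∀ i ∉ insert D ({one, A, B, F, C, Y} : Finset ι), c 4 i = 0
  h4A : c 4 A = c 0 A
  h4B : c 4 B = 0
  h4C : c 4 C = c 2 C
  h4Y : c 4 Y = 0
  h4F : c 4 F = 0
  hF02 : c 0 F = -c 2 F

/-- Signed degrees of the atoms and the equations between them. -/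
structure Vals (c : Fin 6 → ι → ℤ) (d : ι → ℤ) (u v : ι → ℂ) (K M L : ℂ) (A B F C Y D : ι)
    (a b cc f x dd : ℤ) : Prop where
  ha0 : a ≠ 0
  hb0 : b ≠ 0
  hc0 : cc ≠ 0
  hf0 : f ≠ 0
  hx0 : x ≠ 0
  hdd0 : dd ≠ 0
  hfe : f = a + b
  hxe : x = cc + f
  hde : 1 + cc + a + dd = 0
  caA : (a : ℂ) = (c 0 A : ℂ) * d A
  caB : (b : ℂ) = (c 0 B : ℂ) * d B
  caC : (cc : ℂ) = (c 2 C : ℂ) * d C
  caF : (f : ℂ) = (c 2 F : ℂ) * d F
  caY : (x : ℂ) = -((c 2 Y : ℂ) * d Y)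
  caD : (dd : ℂ) = (c 4 D : ℂ) * d D
  aa1 : ((c 0 A : ℂ) * u A) ^ 2 / a + ((c 0 B : ℂ) * u B) ^ 2 / b - ((c 2 F : ℂ) * u F) ^ 2 / f = 0
  bb1 : ((c 0 A : ℂ) * v A) ^ 2 / a + ((c 0 B : ℂ) * v B) ^ 2 / b - ((c 2 F : ℂ) * v F) ^ 2 / f = 2 / 3 * L
  aa2 : ((c 2 C : ℂ) * u C) ^ 2 / cc + ((c 2 F : ℂ) * u F) ^ 2 / f - (-((c 2 Y : ℂ) * u Y)) ^ 2 / x = 8 / 3 * K
  bb2 : ((c 2 C : ℂ) * v C) ^ 2 / cc + ((c 2 F : ℂ) * v F) ^ 2 / f - (-((c 2 Y : ℂ) * v Y)) ^ 2 / x = 0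
  aa4 : 1 + ((c 2 C : ℂ) * u C) ^ 2 / cc + ((c 0 A : ℂ) * u A) ^ 2 / a + ((c 4 D : ℂ) * u D) ^ 2 / dd = 8 / 3 * K
  ab4 : 1 + ((c 2 C : ℂ) * u C) * ((c 2 C : ℂ) * v C) / cc + ((c 0 A : ℂ) * u A) * ((c 0 A : ℂ) * v A) / a + ((c 4 D : ℂ) * u D) * ((c 4 D : ℂ) * v D) / dd = 4 / 3 * M
  bb4 : 1 + ((c 2 C : ℂ) * v C) ^ 2 / cc + ((c 0 A : ℂ) * v A) ^ 2 / a + ((c 4 D : ℂ) * v D) ^ 2 / dd = 4 / 3 * L
  luF : (c 0 A : ℂ) * u A + (c 0 B : ℂ) * u B = (c 2 F : ℂ) * u F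
  lvF : (c 0 A : ℂ) * v A + (c 0 B : ℂ) * v B = (c 2 F : ℂ) * v F
  luX : (c 2 C : ℂ) * u C + (c 2 F : ℂ) * u F = -((c 2 Y : ℂ) * u Y)
  lvX : (c 2 C : ℂ) * v C + (c 2 F : ℂ) * v F = -((c 2 Y : ℂ) * v Y)
  luD : 1 + (c 2 C : ℂ) * u C + (c 0 A : ℂ) * u A + (c 4 D : ℂ) * u D = 0
  lvD : 1 + (c 2 C : ℂ) * v C + (c 0 A : ℂ) * v A + (c 4 D : ℂ) * v D = 0
  hfC : (f : ℂ) = a + b
  hxC : (x : ℂ) = cc + f
  rA : ((c 0 A : ℂ) * u A) * b = ((c 0 B : ℂ) * u B) * a ∧ ((c 0 A : ℂ) * u A) * -(f : ℂ) = -((c 2 F : ℂ) * u F) * a ∧ ((c 0 B : ℂ) * u B) * -(f : ℂ) = -((c 2 F : ℂ) * u F) * b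
  sC : ((c 2 C : ℂ) * v C) * f = ((c 2 F : ℂ) * v F) * cc ∧ ((c 2 C : ℂ) * v C) * -(x : ℂ) = ((c 2 Y : ℂ) * v Y) * cc ∧ ((c 2 F : ℂ) * v F) * -(x : ℂ) = ((c 2 Y : ℂ) * v Y) * f

theorem Sys.exists_atoms [DecidableEq ι] (S : Sys ι c d one u v K M L) :
    ∃ A B F C Y D, Atoms c one A B F C Y D := by
  classical
  have g00 : ∑ i, c 0 i * c 0 i = 3 := S.gram 0 0
  have g22 : ∑ i, c 2 i * c 2 i = 3 := S.gram 2 2
  have g44 : ∑ i, c 4 i * c 4 i = 4 := S.gram 4 4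
  have o0 : c 0 one = 0 := S.cone 0
  have o1 : c 1 one = 0 := S.cone 1
  have o2 : c 2 one = 0 := S.cone 2
  have o3 : c 3 one = 0 := S.cone 3
  have o4 : c 4 one = 1 := S.cone 4
  have o5 : c 5 one = 1 := S.cone 5
  have dC : ∀ i, (d i : ℂ) ≠ 0 := fun i => Int.cast_ne_zero.mpr (S.d0 i)
  have wC : ∀ {w : ℤ}, w ^ 2 = 1 → (w : ℂ) ≠ 0 := fun hw =>
    Int.cast_ne_zero.mpr (fun e => by rw [e] at hw; norm_num at hw)
  obtain ⟨P₁, P₂, P₃, p12, p13, p23, hp1, hp2, hp3, hP⟩ := three_support (c 0) g00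
  obtain ⟨R₁, R₂, R₃, r12, r13, r23, hr1, hr2, hr3, hR⟩ := three_support (c 2) g22
  have e0 : ∀ F : ι → ℂ, ∑ i, (c 0 i : ℂ) * F i =
      (c 0 P₁ : ℂ) * F P₁ + (c 0 P₂ : ℂ) * F P₂ + (c 0 P₃ : ℂ) * F P₃ := by
    intro F
    rw [csum_on _ {P₁, P₂, P₃} (fun i hi => by simp at hi; exact hP i hi.1 hi.2.1 hi.2.2),
      Finset.sum_insert (by simp [p12, p13]), Finset.sum_pair p23, add_assoc]
  have e2 : ∀ F : ι → ℂ, ∑ i, (c 2 i : ℂ) * F i =
      (c 2 R₁ : ℂ) * F R₁ + (c 2 R₂ : ℂ) * F R₂ + (c 2 R₃ : ℂ) * F R₃ := by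
    intro F
    rw [csum_on _ {R₁, R₂, R₃} (fun i hi => by simp at hi; exact hR i hi.1 hi.2.1 hi.2.2),
      Finset.sum_insert (by simp [r12, r13]), Finset.sum_pair r23, add_assoc]
  have supp2 : ∀ i, c 2 i ≠ 0 → i = R₁ ∨ i = R₂ ∨ i = R₃ := by
    intro i hi; by_contra h; push Not at h; exact hi (hR i h.1 h.2.1 h.2.2)
  have ratio0 : ∀ i j, c 0 i ≠ 0 → c 0 j ≠ 0 → u i * d j = u j * d i := by
    have hd : ((c 0 P₁ : ℂ) * d P₁) + (c 0 P₂ : ℂ) * d P₂ + (c 0 P₃ : ℂ) * d P₃ = 0 := by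
      rw [← e0 fun i => (d i : ℂ)]; exact_mod_cast S.deg 0
    have hu : ((c 0 P₁ : ℂ) * u P₁) + (c 0 P₂ : ℂ) * u P₂ + (c 0 P₃ : ℂ) * u P₃ = 0 := by
      rw [← e0 u]; exact S.lu 0
    have hq : ((c 0 P₁ : ℂ) * u P₁) ^ 2 / ((c 0 P₁ : ℂ) * d P₁) +
        ((c 0 P₂ : ℂ) * u P₂) ^ 2 / ((c 0 P₂ : ℂ) * d P₂) +
        ((c 0 P₃ : ℂ) * u P₃) ^ 2 / ((c 0 P₃ : ℂ) * d P₃) = 0 := by
      simp only [sq, ← qterm hp1, ← qterm hp2, ← qterm hp3]
      rw [← e0 fun i => u i * u i / d i, S.qaa 0]; simp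
    obtain ⟨t1, t2, t3⟩ := three_zero (mul_ne_zero (wC hp1) (dC _)) (mul_ne_zero (wC hp2) (dC _))
      (mul_ne_zero (wC hp3) (dC _)) hd hu hq
    have u12 : u P₁ * d P₂ = u P₂ * d P₁ := mul_left_cancel₀ (mul_ne_zero (wC hp1) (wC hp2))
      (by linear_combination t1)
    have u13 : u P₁ * d P₃ = u P₃ * d P₁ := mul_left_cancel₀ (mul_ne_zero (wC hp1) (wC hp3))
      (by linear_combination t2)
    have u23 : u P₂ * d P₃ = u P₃ * d P₂ := mul_left_cancel₀ (mul_ne_zero (wC hp2) (wC hp3))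
      (by linear_combination t3)
    intro i j hi hj
    have hi' : i = P₁ ∨ i = P₂ ∨ i = P₃ := by
      by_contra h; push Not at h; exact hi (hP i h.1 h.2.1 h.2.2)
    have hj' : j = P₁ ∨ j = P₂ ∨ j = P₃ := by
      by_contra h; push Not at h; exact hj (hP j h.1 h.2.1 h.2.2)
    rcases hi' with rfl | rfl | rfl <;> rcases hj' with rfl | rfl | rfl <;>
      first
        | rfl
        | assumption
        | exact u12.symm
        | exact u13.symm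
        | exact u23.symm
  -- at most one common atom
  have share : ∀ i j, i ≠ j → c 0 i ≠ 0 → c 2 i ≠ 0 → c 0 j ≠ 0 → c 2 j ≠ 0 → False := by
    intro i j hij hi0 hi2 hj0 hj2
    have hr := ratio0 i j hi0 hj0
    have key : ∀ A B C : ι, c 2 A ^ 2 = 1 → c 2 B ^ 2 = 1 → c 2 C ^ 2 = 1 →
        (∀ F : ι → ℂ, ∑ i, (c 2 i : ℂ) * F i =
          (c 2 A : ℂ) * F A + (c 2 B : ℂ) * F B + (c 2 C : ℂ) * F C) →
        u A * d B = u B * d A → False := by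
      intro A B C hA hB hC e hAB
      have hd : ((c 2 A : ℂ) * d A) + (c 2 B : ℂ) * d B + (c 2 C : ℂ) * d C = 0 := by
        rw [← e fun i => (d i : ℂ)]; exact_mod_cast S.deg 2
      have hu : ((c 2 A : ℂ) * u A) + (c 2 B : ℂ) * u B + (c 2 C : ℂ) * u C = 0 := by
        rw [← e u]; exact S.lu 2
      have hz := two_equal (mul_ne_zero (wC hA) (dC _)) (mul_ne_zero (wC hB) (dC _))
        (mul_ne_zero (wC hC) (dC _)) hd hu (by linear_combination (c 2 A : ℂ) * (c 2 B : ℂ) * hAB)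
      simp only [sq, ← qterm hA, ← qterm hB, ← qterm hC] at hz
      rw [← e fun i => u i * u i / d i, S.qaa 2] at hz
      exact S.hK (by simpa using hz)
    rcases supp2 i hi2 with rfl | rfl | rfl <;> rcases supp2 j hj2 with rfl | rfl | rfl
    · exact hij rfl
    · exact key _ _ _ hr1 hr2 hr3 e2 hr
    · exact key _ _ R₂ hr1 hr3 hr2 (fun F => by rw [e2 F]; ring) hr
    · exact key _ _ _ hr1 hr2 hr3 e2 hr.symm
    · exact hij rfl
    · exact key _ _ R₁ hr2 hr3 hr1 (fun F => by rw [e2 F]; ring) hr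
    · exact key _ _ R₂ hr1 hr3 hr2 (fun F => by rw [e2 F]; ring) hr.symm
    · exact key _ _ R₁ hr2 hr3 hr1 (fun F => by rw [e2 F]; ring) hr.symm
    · exact hij rfl
  -- the common atom
  have g02 : ∑ i, c 0 i * c 2 i = -1 := S.gram 0 2
  obtain ⟨F, hF0, hF2⟩ : ∃ F, c 0 F ≠ 0 ∧ c 2 F ≠ 0 := by
    by_contra h
    push Not at h
    rw [Finset.sum_eq_zero fun i _ => ?_] at g02
    · norm_num at g02
    · by_cases hi : c 0 i = 0
      · rw [hi, zero_mul]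
      · rw [h i hi, mul_zero]
  have hFprod : c 0 F * c 2 F = -1 := by
    rwa [Finset.sum_eq_single F ?_ (by simp)] at g02
    intro i _ hi
    by_contra h0
    exact share i F hi (left_ne_zero_of_mul h0) (right_ne_zero_of_mul h0) hF0 hF2
  -- names
  obtain ⟨A, B, hAB, hAF, hBF, hA, hB, hF, h0⟩ : ∃ A B, A ≠ B ∧ A ≠ F ∧ B ≠ F ∧
      c 0 A ^ 2 = 1 ∧ c 0 B ^ 2 = 1 ∧ c 0 F ^ 2 = 1 ∧ ∀ i ∉ ({A, B, F} : Finset ι), c 0 i = 0 := by
    have : F = P₁ ∨ F = P₂ ∨ F = P₃ := by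
      by_contra h; push Not at h; exact hF0 (hP F h.1 h.2.1 h.2.2)
    rcases this with rfl | rfl | rfl
    · exact ⟨P₂, P₃, p23, p12.symm, p13.symm, hp2, hp3, hp1,
        fun i hi => by simp at hi; exact hP i hi.2.2 hi.1 hi.2.1⟩
    · exact ⟨P₁, P₃, p13, p12, p23.symm, hp1, hp3, hp2,
        fun i hi => by simp at hi; exact hP i hi.1 hi.2.2 hi.2.1⟩
    · exact ⟨P₁, P₂, p12, p13, p23, hp1, hp2, hp3,
        fun i hi => by simp at hi; exact hP i hi.1 hi.2.1 hi.2.2⟩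
  obtain ⟨C, Y, hCY, hCF, hYF, hC, hY, hF', h2⟩ : ∃ C Y, C ≠ Y ∧ C ≠ F ∧ Y ≠ F ∧
      c 2 C ^ 2 = 1 ∧ c 2 Y ^ 2 = 1 ∧ c 2 F ^ 2 = 1 ∧ ∀ i ∉ ({C, F, Y} : Finset ι), c 2 i = 0 := by
    rcases supp2 F hF2 with rfl | rfl | rfl
    · exact ⟨R₂, R₃, r23, r12.symm, r13.symm, hr2, hr3, hr1,
        fun i hi => by simp at hi; exact hR i hi.2.1 hi.1 hi.2.2⟩
    · exact ⟨R₁, R₃, r13, r12, r23.symm, hr1, hr3, hr2,
        fun i hi => by simp at hi; exact hR i hi.1 hi.2.1 hi.2.2⟩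
    · exact ⟨R₁, R₂, r12, r13, r23, hr1, hr2, hr3,
        fun i hi => by simp at hi; exact hR i hi.1 hi.2.2 hi.2.1⟩
  have hF02 : c 0 F = -c 2 F := by
    rcases sq_eq_one_iff.mp hF' with e | e <;> rw [e] at hFprod ⊢ <;> linarith
  have g24 : ∑ i, c 2 i * c 4 i = 1 := S.gram 2 4
  have g04 : ∑ i, c 0 i * c 4 i = 1 := S.gram 0 4
  have s0 : ∀ (q : ι → ℤ), ∑ i, c 0 i * q i = c 0 A * q A + c 0 B * q B + c 0 F * q F := by
    intro q
    rw [isum_on _ _ h0, Finset.sum_insert (by simp [hAB, hAF]), Finset.sum_pair hBF, add_assoc]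
  have s2 : ∀ (q : ι → ℤ), ∑ i, c 2 i * q i = c 2 C * q C + c 2 F * q F + c 2 Y * q Y := by
    intro q
    rw [isum_on _ _ h2, Finset.sum_insert (by simp [hCF, hCY]), Finset.sum_pair hYF.symm, add_assoc]
  have hnAC : A ≠ C := fun e => share A F hAF (nz hA) (e ▸ nz hC) hF0 hF2
  have hnAY : A ≠ Y := fun e => share A F hAF (nz hA) (e ▸ nz hY) hF0 hF2
  have hnBC : B ≠ C := fun e => share B F hBF (nz hB) (e ▸ nz hC) hF0 hF2
  have hnBY : B ≠ Y := fun e => share B F hBF (nz hB) (e ▸ nz hY) hF0 hF2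
  have n1 : one ≠ A ∧ one ≠ B ∧ one ≠ F ∧ one ≠ C ∧ one ≠ Y :=
    ⟨fun e => nz hA (e ▸ o0), fun e => nz hB (e ▸ o0), fun e => nz hF (e ▸ o0),
      fun e => nz hC (e ▸ o2), fun e => nz hY (e ▸ o2)⟩
  -- the fifth vector
  have five : ∀ p : Fin 6, ∀ N : ℤ, ∑ i, c p i * c p i = N →
      c p one ^ 2 + c p A ^ 2 + c p B ^ 2 + c p F ^ 2 + c p C ^ 2 + c p Y ^ 2 ≤ N := by
    intro p N hN
    have h := sq_sub (c p) {one, A, B, F, C, Y} hN
    rw [Finset.sum_insert (by simp [n1]), Finset.sum_insert (by simp [hAB, hAF, hnAC, hnAY]),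
      Finset.sum_insert (by simp [hBF, hnBC, hnBY]), Finset.sum_insert (by simp [hCF.symm, hYF.symm]),
      Finset.sum_pair hCY] at h
    omega
  obtain ⟨hb1, hb2, hb3, hb4, hb5⟩ : c 4 A ^ 2 ≤ 1 ∧ c 4 B ^ 2 ≤ 1 ∧ c 4 F ^ 2 ≤ 1 ∧ c 4 C ^ 2 ≤ 1 ∧
      c 4 Y ^ 2 ≤ 1 := by
    have := five 4 4 g44
    rw [o4] at this
    have key : ∀ s : ℤ, s ^ 2 ≤ 3 → s ^ 2 ≤ 1 := fun s hs => by
      have : -1 ≤ s ∧ s ≤ 1 := ⟨by nlinarith, by nlinarith⟩
      nlinarith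
    refine ⟨key _ ?_, key _ ?_, key _ ?_, key _ ?_, key _ ?_⟩ <;>
      nlinarith [sq_nonneg (c 4 A), sq_nonneg (c 4 B), sq_nonneg (c 4 F), sq_nonneg (c 4 C),
        sq_nonneg (c 4 Y)]
  have h4pat := pat_four _ (mul_mem_tri hA hb1) _ (mul_mem_tri hB hb2) _ (mul_mem_tri hF' hb3)
    _ (mul_mem_tri hC hb4) _ (mul_mem_tri hY hb5)
    (by rw [s0, hF02] at g04; linarith)
    (by rw [s2] at g24; linarith)
    (by
      have := five 4 4 g44
      rw [o4] at this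
      rw [sgn_sq hA, sgn_sq hB, sgn_sq hF', sgn_sq hC, sgn_sq hY]; omega)
  have deg0 : c 0 A * d A + c 0 B * d B + c 0 F * d F = 0 := by rw [← s0]; exact S.deg 0
  have deg2 : c 2 C * d C + c 2 F * d F + c 2 Y * d Y = 0 := by rw [← s2]; exact S.deg 2
  obtain ⟨A, B, C, Y, hAB, hAF, hBF, hA, hB, h0, hCY, hCF, hYF, hC, hY, h2, h4A, h4B, h4C, h4Y, h4F⟩ :
      ∃ A B C Y, A ≠ B ∧ A ≠ F ∧ B ≠ F ∧ c 0 A ^ 2 = 1 ∧ c 0 B ^ 2 = 1 ∧
      (∀ i ∉ ({A, B, F} : Finset ι), c 0 i = 0) ∧ C ≠ Y ∧ C ≠ F ∧ Y ≠ F ∧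
      c 2 C ^ 2 = 1 ∧ c 2 Y ^ 2 = 1 ∧ (∀ i ∉ ({C, F, Y} : Finset ι), c 2 i = 0) ∧
      c 4 A = c 0 A ∧ c 4 B = 0 ∧ c 4 C = c 2 C ∧ c 4 Y = 0 ∧ c 4 F = 0 := by
    rcases h4pat with ⟨hf, hab, hcy⟩ | ⟨ha, hb, hf, hc, hy⟩ | ⟨ha, hb, hf, hc, hy⟩
    · have hf' : c 4 F = 0 := by simpa using inv_sgn hF' hf
      have s0' : ∀ i ∉ ({B, A, F} : Finset ι), c 0 i = 0 := fun i hi => h0 i (by
        simp only [Finset.mem_insert, Finset.mem_singleton] at hi ⊢; tauto)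
      have s2' : ∀ i ∉ ({Y, F, C} : Finset ι), c 2 i = 0 := fun i hi => h2 i (by
        simp only [Finset.mem_insert, Finset.mem_singleton] at hi ⊢; tauto)
      rcases hab with ⟨ha, hb⟩ | ⟨ha, hb⟩ <;> rcases hcy with ⟨hc, hy⟩ | ⟨hc, hy⟩
      · exact ⟨A, B, C, Y, hAB, hAF, hBF, hA, hB, h0, hCY, hCF, hYF, hC, hY, h2,
          by simpa using inv_sgn hA ha, by simpa using inv_sgn hB hb, by simpa using inv_sgn hC hc,
          by simpa using inv_sgn hY hy, hf'⟩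
      · exact ⟨A, B, Y, C, hAB, hAF, hBF, hA, hB, h0, hCY.symm, hYF, hCF, hY, hC, s2',
          by simpa using inv_sgn hA ha, by simpa using inv_sgn hB hb, by simpa using inv_sgn hY hy,
          by simpa using inv_sgn hC hc, hf'⟩
      · exact ⟨B, A, C, Y, hAB.symm, hBF, hAF, hB, hA, s0', hCY, hCF, hYF, hC, hY, h2,
          by simpa using inv_sgn hB hb, by simpa using inv_sgn hA ha, by simpa using inv_sgn hC hc,
          by simpa using inv_sgn hY hy, hf'⟩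
      · exact ⟨B, A, Y, C, hAB.symm, hBF, hAF, hB, hA, s0', hCY.symm, hYF, hCF, hY, hC, s2',
          by simpa using inv_sgn hB hb, by simpa using inv_sgn hA ha, by simpa using inv_sgn hY hy,
          by simpa using inv_sgn hC hc, hf'⟩
    all_goals
      exfalso
      have hS : ∑ i ∈ ({one, A, B, F, C, Y} : Finset ι), c 4 i ^ 2 = 4 := by
        rw [Finset.sum_insert (by simp [n1]), Finset.sum_insert (by simp [hAB, hAF, hnAC, hnAY]),
          Finset.sum_insert (by simp [hBF, hnBC, hnBY]),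
          Finset.sum_insert (by simp [hCF.symm, hYF.symm]), Finset.sum_pair hCY, o4,
          ← sgn_sq (s := c 4 A) hA, ← sgn_sq (s := c 4 B) hB, ← sgn_sq (s := c 4 F) hF',
          ← sgn_sq (s := c 4 C) hC, ← sgn_sq (s := c 4 Y) hY, ha, hb, hc, hy, hf]
        norm_num
      have hd4 := S.deg 4
      rw [isum_on _ _ (none_left _ _ g44 hS), Finset.sum_insert (by simp [n1]),
        Finset.sum_insert (by simp [hAB, hAF, hnAC, hnAY]),
        Finset.sum_insert (by simp [hBF, hnBC, hnBY]),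
        Finset.sum_insert (by simp [hCF.symm, hYF.symm]), Finset.sum_pair hCY, o4, S.d1,
        inv_sgn hA ha, inv_sgn hB hb, inv_sgn hC hc, inv_sgn hY hy, inv_sgn hF' hf] at hd4
      rw [hF02] at deg0
      simp only [one_mul, neg_one_mul, zero_mul, neg_mul, add_zero, zero_add] at hd4 deg0 deg2
      omega
  clear h4pat hb1 hb2 hb3 hb4 hb5 five n1 hnAC hnAY hnBC hnBY s0 s2 deg0 deg2 hP hR supp2 e0 e2
  clear p12 p13 p23 r12 r13 r23 hp1 hp2 hp3 hr1 hr2 hr3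
  have hnAC : A ≠ C := fun e => share A F hAF (nz hA) (e ▸ nz hC) hF0 hF2
  have hnAY : A ≠ Y := fun e => share A F hAF (nz hA) (e ▸ nz hY) hF0 hF2
  have hnBC : B ≠ C := fun e => share B F hBF (nz hB) (e ▸ nz hC) hF0 hF2
  have hnBY : B ≠ Y := fun e => share B F hBF (nz hB) (e ▸ nz hY) hF0 hF2
  have n1 : one ≠ A ∧ one ≠ B ∧ one ≠ F ∧ one ≠ C ∧ one ≠ Y :=
    ⟨fun e => nz hA (e ▸ o0), fun e => nz hB (e ▸ o0), fun e => nz hF (e ▸ o0),
      fun e => nz hC (e ▸ o2), fun e => nz hY (e ▸ o2)⟩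
  have s0 : ∀ (q : ι → ℤ), ∑ i, c 0 i * q i = c 0 A * q A + c 0 B * q B + c 0 F * q F := by
    intro q
    rw [isum_on _ _ h0, Finset.sum_insert (by simp [hAB, hAF]), Finset.sum_pair hBF, add_assoc]
  have s2 : ∀ (q : ι → ℤ), ∑ i, c 2 i * q i = c 2 C * q C + c 2 F * q F + c 2 Y * q Y := by
    intro q
    rw [isum_on _ _ h2, Finset.sum_insert (by simp [hCF, hCY]), Finset.sum_pair hYF.symm, add_assoc]
  -- `D`
  obtain ⟨D, hDS, hD, h4⟩ := one_left (c 4) {one, A, B, F, C, Y} g44 (by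
    rw [Finset.sum_insert (by simp [n1]), Finset.sum_insert (by simp [hAB, hAF, hnAC, hnAY]),
      Finset.sum_insert (by simp [hBF, hnBC, hnBY]),
      Finset.sum_insert (by simp [hCF.symm, hYF.symm]), Finset.sum_pair hCY, o4, h4A, h4B, h4C, h4Y,
      h4F, hA, hC]
    norm_num)
  simp only [Finset.mem_insert, Finset.mem_singleton, not_or] at hDS
  obtain ⟨hD1, hDA, hDB, hDF, hDC, hDY⟩ := hDS
  exact ⟨A, B, F, C, Y, D, ⟨hAB, hAF, hBF, hnAC, hnAY, hnBC, hnBY, hCY, hCF, hYF, n1, hD1, hDA, hDB, hDF, hDC, hDY, hA, hB, hF', hC, hY, hD, h0, h2, h4, h4A, h4B, h4C, h4Y, h4F, hF02⟩⟩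

theorem Sys.exists_vals [DecidableEq ι] (S : Sys ι c d one u v K M L) {A B F C Y D : ι}
    (At : Atoms c one A B F C Y D) :
    ∃ a b cc f x dd, Vals c d u v K M L A B F C Y D a b cc f x dd := by
  classical
  obtain ⟨hAB, hAF, hBF, hnAC, hnAY, hnBC, hnBY, hCY, hCF, hYF, n1, hD1, hDA, hDB, hDF, hDC, hDY, hA, hB, hF', hC, hY, hD, h0, h2, h4, h4A, h4B, h4C, h4Y, h4F, hF02⟩ := At
  have o4 : c 4 one = 1 := S.cone 4
  have s0 : ∀ (q : ι → ℤ), ∑ i, c 0 i * q i = c 0 A * q A + c 0 B * q B + c 0 F * q F := by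
    intro q
    rw [isum_on _ _ h0, Finset.sum_insert (by simp [hAB, hAF]), Finset.sum_pair hBF, add_assoc]
  have s2 : ∀ (q : ι → ℤ), ∑ i, c 2 i * q i = c 2 C * q C + c 2 F * q F + c 2 Y * q Y := by
    intro q
    rw [isum_on _ _ h2, Finset.sum_insert (by simp [hCF, hCY]), Finset.sum_pair hYF.symm, add_assoc]
  have e4 : ∀ F' : ι → ℂ, ∑ i, (c 4 i : ℂ) * F' i =
      F' one + (c 0 A : ℂ) * F' A + (c 2 C : ℂ) * F' C + (c 4 D : ℂ) * F' D := by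
    intro F'
    rw [csum_on _ _ h4, Finset.sum_insert (by simp [hD1, hDA, hDB, hDF, hDC, hDY]),
      Finset.sum_insert (by simp [n1]), Finset.sum_insert (by simp [hAB, hAF, hnAC, hnAY]),
      Finset.sum_insert (by simp [hBF, hnBC, hnBY]),
      Finset.sum_insert (by simp [hCF.symm, hYF.symm]), Finset.sum_pair hCY, o4, h4A, h4B, h4C, h4Y,
      h4F]
    push_cast; ring
  have e0 : ∀ F' : ι → ℂ, ∑ i, (c 0 i : ℂ) * F' i =
      (c 0 A : ℂ) * F' A + (c 0 B : ℂ) * F' B - (c 2 F : ℂ) * F' F := by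
    intro F'
    rw [csum_on _ _ h0, Finset.sum_insert (by simp [hAB, hAF]), Finset.sum_pair hBF, hF02]
    push_cast; ring
  have e2 : ∀ F' : ι → ℂ, ∑ i, (c 2 i : ℂ) * F' i =
      (c 2 C : ℂ) * F' C + (c 2 F : ℂ) * F' F + (c 2 Y : ℂ) * F' Y := by
    intro F'
    rw [csum_on _ _ h2, Finset.sum_insert (by simp [hCF, hCY]), Finset.sum_pair hYF.symm, add_assoc]
  -- signed quantities
  obtain ⟨a, ha⟩ : ∃ z, z = c 0 A * d A := ⟨_, rfl⟩
  obtain ⟨b, hb⟩ : ∃ z, z = c 0 B * d B := ⟨_, rfl⟩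
  obtain ⟨cc, hcc⟩ : ∃ z, z = c 2 C * d C := ⟨_, rfl⟩
  obtain ⟨f, hf⟩ : ∃ z, z = c 2 F * d F := ⟨_, rfl⟩
  obtain ⟨x, hx⟩ : ∃ z, z = -(c 2 Y * d Y) := ⟨_, rfl⟩
  obtain ⟨dd, hdd⟩ : ∃ z, z = c 4 D * d D := ⟨_, rfl⟩
  have ha0 : a ≠ 0 := ha ▸ mul_ne_zero (nz hA) (S.d0 _)
  have hb0 : b ≠ 0 := hb ▸ mul_ne_zero (nz hB) (S.d0 _)
  have hc0 : cc ≠ 0 := hcc ▸ mul_ne_zero (nz hC) (S.d0 _)
  have hf0 : f ≠ 0 := hf ▸ mul_ne_zero (nz hF') (S.d0 _)
  have hx0 : x ≠ 0 := hx ▸ neg_ne_zero.mpr (mul_ne_zero (nz hY) (S.d0 _))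
  have hdd0 : dd ≠ 0 := hdd ▸ mul_ne_zero (nz hD) (S.d0 _)
  have hfe : f = a + b := by
    have := S.deg 0
    rw [s0, hF02] at this
    rw [ha, hb, hf]; linarith
  have hxe : x = cc + f := by
    have := S.deg 2
    rw [s2] at this
    rw [hcc, hf, hx]; linarith
  have hde : 1 + cc + a + dd = 0 := by
    have h : ((1 + cc + a + dd : ℤ) : ℂ) = 0 := by
      have := e4 fun i => (d i : ℂ)
      rw [show ∑ i, (c 4 i : ℂ) * (d i : ℂ) = 0 by exact_mod_cast S.deg 4, S.d1] at this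
      rw [hcc, ha, hdd]; push_cast; push_cast at this
      linear_combination -this
    exact_mod_cast h
  have caA : (a : ℂ) = (c 0 A : ℂ) * d A := by rw [ha]; push_cast; rfl
  have caB : (b : ℂ) = (c 0 B : ℂ) * d B := by rw [hb]; push_cast; rfl
  have caC : (cc : ℂ) = (c 2 C : ℂ) * d C := by rw [hcc]; push_cast; rfl
  have caF : (f : ℂ) = (c 2 F : ℂ) * d F := by rw [hf]; push_cast; rfl
  have caY : (x : ℂ) = -((c 2 Y : ℂ) * d Y) := by rw [hx]; push_cast; rfl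
  have caD : (dd : ℂ) = (c 4 D : ℂ) * d D := by rw [hdd]; push_cast; rfl
  have T0 : ∀ p q : ι → ℂ, ∑ i, (c 0 i : ℂ) * (p i * q i / d i) =
      ((c 0 A : ℂ) * p A) * ((c 0 A : ℂ) * q A) / a + ((c 0 B : ℂ) * p B) * ((c 0 B : ℂ) * q B) / b -
        ((c 2 F : ℂ) * p F) * ((c 2 F : ℂ) * q F) / f := by
    intro p q
    rw [e0, qterm hA, qterm hB, qterm hF', ← caA, ← caB, ← caF]
  have T2 : ∀ p q : ι → ℂ, ∑ i, (c 2 i : ℂ) * (p i * q i / d i) =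
      ((c 2 C : ℂ) * p C) * ((c 2 C : ℂ) * q C) / cc + ((c 2 F : ℂ) * p F) * ((c 2 F : ℂ) * q F) / f -
        (-((c 2 Y : ℂ) * p Y)) * (-((c 2 Y : ℂ) * q Y)) / x := by
    intro p q
    rw [e2, qterm hC, qterm hF', qterm hY, ← caC, ← caF, caY, div_neg]
    ring
  have T4 : ∀ p q : ι → ℂ, p one = 1 → q one = 1 → ∑ i, (c 4 i : ℂ) * (p i * q i / d i) =
      1 + ((c 2 C : ℂ) * p C) * ((c 2 C : ℂ) * q C) / cc +
        ((c 0 A : ℂ) * p A) * ((c 0 A : ℂ) * q A) / a +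
        ((c 4 D : ℂ) * p D) * ((c 4 D : ℂ) * q D) / dd := by
    intro p q h1 h2'
    rw [e4, qterm hA, qterm hC, qterm hD, ← caA, ← caC, ← caD, h1, h2', S.d1]
    push_cast; ring
  have aa1 : ((c 0 A : ℂ) * u A) ^ 2 / a + ((c 0 B : ℂ) * u B) ^ 2 / b -
      ((c 2 F : ℂ) * u F) ^ 2 / f = 0 := by
    simp only [sq]; rw [← T0, S.qaa 0]; simp
  have bb1 : ((c 0 A : ℂ) * v A) ^ 2 / a + ((c 0 B : ℂ) * v B) ^ 2 / b -
      ((c 2 F : ℂ) * v F) ^ 2 / f = 2 / 3 * L := by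
    simp only [sq]; rw [← T0, S.qbb 0]; simp
  have aa2 : ((c 2 C : ℂ) * u C) ^ 2 / cc + ((c 2 F : ℂ) * u F) ^ 2 / f -
      (-((c 2 Y : ℂ) * u Y)) ^ 2 / x = 8 / 3 * K := by
    simp only [sq]; rw [← T2, S.qaa 2]; simp
  have bb2 : ((c 2 C : ℂ) * v C) ^ 2 / cc + ((c 2 F : ℂ) * v F) ^ 2 / f -
      (-((c 2 Y : ℂ) * v Y)) ^ 2 / x = 0 := by
    simp only [sq]; rw [← T2, S.qbb 2]; simp
  have aa4 : 1 + ((c 2 C : ℂ) * u C) ^ 2 / cc + ((c 0 A : ℂ) * u A) ^ 2 / a +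
      ((c 4 D : ℂ) * u D) ^ 2 / dd = 8 / 3 * K := by
    simp only [sq]; rw [← T4 u u S.u1 S.u1, S.qaa 4]; simp
  have ab4 : 1 + ((c 2 C : ℂ) * u C) * ((c 2 C : ℂ) * v C) / cc +
      ((c 0 A : ℂ) * u A) * ((c 0 A : ℂ) * v A) / a +
      ((c 4 D : ℂ) * u D) * ((c 4 D : ℂ) * v D) / dd = 4 / 3 * M := by
    rw [← T4 u v S.u1 S.v1, S.qab 4]; simp
  have bb4 : 1 + ((c 2 C : ℂ) * v C) ^ 2 / cc + ((c 0 A : ℂ) * v A) ^ 2 / a +
      ((c 4 D : ℂ) * v D) ^ 2 / dd = 4 / 3 * L := by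
    simp only [sq]; rw [← T4 v v S.v1 S.v1, S.qbb 4]; simp
  have luF : (c 0 A : ℂ) * u A + (c 0 B : ℂ) * u B = (c 2 F : ℂ) * u F := by
    have := S.lu 0; rw [e0] at this; linear_combination this
  have lvF : (c 0 A : ℂ) * v A + (c 0 B : ℂ) * v B = (c 2 F : ℂ) * v F := by
    have := S.lv 0; rw [e0] at this; linear_combination this
  have luX : (c 2 C : ℂ) * u C + (c 2 F : ℂ) * u F = -((c 2 Y : ℂ) * u Y) := by
    have := S.lu 2; rw [e2] at this; linear_combination this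
  have lvX : (c 2 C : ℂ) * v C + (c 2 F : ℂ) * v F = -((c 2 Y : ℂ) * v Y) := by
    have := S.lv 2; rw [e2] at this; linear_combination this
  have luD : 1 + (c 2 C : ℂ) * u C + (c 0 A : ℂ) * u A + (c 4 D : ℂ) * u D = 0 := by
    have := S.lu 4; rw [e4, S.u1] at this; linear_combination this
  have lvD : 1 + (c 2 C : ℂ) * v C + (c 0 A : ℂ) * v A + (c 4 D : ℂ) * v D = 0 := by
    have := S.lv 4; rw [e4, S.v1] at this; linear_combination this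
  have hfC : (f : ℂ) = a + b := by exact_mod_cast hfe
  have hxC : (x : ℂ) = cc + f := by exact_mod_cast hxe
  have rA := three_zero (d₁ := (a : ℂ)) (d₂ := (b : ℂ)) (d₃ := -(f : ℂ))
    (U₁ := (c 0 A : ℂ) * u A) (U₂ := (c 0 B : ℂ) * u B) (U₃ := -((c 2 F : ℂ) * u F))
    (Int.cast_ne_zero.mpr ha0) (Int.cast_ne_zero.mpr hb0)
    (neg_ne_zero.mpr (Int.cast_ne_zero.mpr hf0)) (by linear_combination -hfC)
    (by linear_combination luF) (by rw [← aa1, div_neg, neg_sq]; ring)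
  have sC := three_zero (d₁ := (cc : ℂ)) (d₂ := (f : ℂ)) (d₃ := -(x : ℂ))
    (U₁ := (c 2 C : ℂ) * v C) (U₂ := (c 2 F : ℂ) * v F) (U₃ := (c 2 Y : ℂ) * v Y)
    (Int.cast_ne_zero.mpr hc0) (Int.cast_ne_zero.mpr hf0)
    (neg_ne_zero.mpr (Int.cast_ne_zero.mpr hx0)) (by linear_combination -hxC)
    (by linear_combination lvX) (by rw [← bb2, div_neg, neg_sq]; ring)
  exact ⟨a, b, cc, f, x, dd, ⟨ha0, hb0, hc0, hf0, hx0, hdd0, hfe, hxe, hde, caA, caB, caC, caF, caY, caD, aa1, bb1, aa2, bb2, aa4, ab4, bb4, luF, lvF, luX, lvX, luD, lvD, hfC, hxC, rA, sC⟩⟩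

theorem Atoms.five_le [DecidableEq ι] {one A B F C Y D : ι} (At : Atoms c one A B F C Y D) (p : Fin 6) (N : ℤ)
    (hN : ∑ i, c p i * c p i = N) :
    c p A ^ 2 + c p B ^ 2 + c p F ^ 2 + c p C ^ 2 + c p Y ^ 2 ≤ N := by
  obtain ⟨hAB, hAF, hBF, hnAC, hnAY, hnBC, hnBY, hCY, hCF, hYF, n1, hD1, hDA, hDB, hDF, hDC, hDY, hA, hB, hF', hC, hY, hD, h0, h2, h4, h4A, h4B, h4C, h4Y, h4F, hF02⟩ := At
  have h := sq_sub (c p) {A, B, F, C, Y} hN
  rw [Finset.sum_insert (by simp [hAB, hAF, hnAC, hnAY]),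
    Finset.sum_insert (by simp [hBF, hnBC, hnBY]),
    Finset.sum_insert (by simp [hCF.symm, hYF.symm]), Finset.sum_pair hCY] at h
  omega

theorem Atoms.five_eq [DecidableEq ι] {one A B F C Y D : ι} (At : Atoms c one A B F C Y D) (p : Fin 6) :
    ∑ i ∈ ({A, B, F, C, Y} : Finset ι), c p i ^ 2 =
      (c 0 A * c p A) ^ 2 + (c 0 B * c p B) ^ 2 + (c 2 F * c p F) ^ 2 + (c 2 C * c p C) ^ 2 +
        (c 2 Y * c p Y) ^ 2 := by
  obtain ⟨hAB, hAF, hBF, hnAC, hnAY, hnBC, hnBY, hCY, hCF, hYF, n1, hD1, hDA, hDB, hDF, hDC, hDY, hA, hB, hF', hC, hY, hD, h0, h2, h4, h4A, h4B, h4C, h4Y, h4F, hF02⟩ := At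
  rw [Finset.sum_insert (by simp [hAB, hAF, hnAC, hnAY]),
    Finset.sum_insert (by simp [hBF, hnBC, hnBY]),
    Finset.sum_insert (by simp [hCF.symm, hYF.symm]), Finset.sum_pair hCY,
    sgn_sq hA, sgn_sq hB, sgn_sq hF', sgn_sq hC, sgn_sq hY]
  ring

theorem Atoms.expand [DecidableEq ι] {one A B F C Y D : ι} (At : Atoms c one A B F C Y D) (p : Fin 6)
    (F' : ι → ℂ) (T : Finset ι) (hT : ∀ i ∈ T, i ∉ ({A, B, F, C, Y} : Finset ι))
    (hz : ∀ i ∉ T ∪ {A, B, F, C, Y}, c p i = 0) :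
    ∑ i, (c p i : ℂ) * F' i =
      ∑ i ∈ T, (c p i : ℂ) * F' i + (((c 0 A * c p A : ℤ) : ℂ) * ((c 0 A : ℂ) * F' A) +
        ((c 0 B * c p B : ℤ) : ℂ) * ((c 0 B : ℂ) * F' B) +
        ((c 2 F * c p F : ℤ) : ℂ) * ((c 2 F : ℂ) * F' F) +
        ((c 2 C * c p C : ℤ) : ℂ) * ((c 2 C : ℂ) * F' C) +
        ((c 2 Y * c p Y : ℤ) : ℂ) * ((c 2 Y : ℂ) * F' Y)) := by
  obtain ⟨hAB, hAF, hBF, hnAC, hnAY, hnBC, hnBY, hCY, hCF, hYF, n1, hD1, hDA, hDB, hDF, hDC, hDY, hA, hB, hF', hC, hY, hD, h0, h2, h4, h4A, h4B, h4C, h4Y, h4F, hF02⟩ := At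
  rw [csum_on _ _ hz, Finset.sum_union (Finset.disjoint_left.mpr hT),
    Finset.sum_insert (by simp [hAB, hAF, hnAC, hnAY]),
    Finset.sum_insert (by simp [hBF, hnBC, hnBY]),
    Finset.sum_insert (by simp [hCF.symm, hYF.symm]), Finset.sum_pair hCY]
  have k : ∀ {e s : ℤ} (X : ℂ), e ^ 2 = 1 → ((e * s : ℤ) : ℂ) * ((e : ℂ) * X) = (s : ℂ) * X := by
    intro e s X he
    have : (e : ℂ) ^ 2 = 1 := by exact_mod_cast he
    push_cast; linear_combination (s : ℂ) * X * this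
  rw [k _ hA, k _ hB, k _ hF', k _ hC, k _ hY]
  ring

theorem Sys.exists_Z [DecidableEq ι] (S : Sys ι c d one u v K M L) {A B F C Y D : ι} (At : Atoms c one A B F C Y D) {a b cc f x dd : ℤ}
    (V : Vals c d u v K M L A B F C Y D a b cc f x dd) :
    ∃ Z,
      Z ∉ ({A, B, F, C, Y} : Finset ι) ∧ c 3 Z ^ 2 = 1 ∧ c 4 Z = 0 ∧
      (∀ i ∉ insert Z ({A, B, F, C, Y} : Finset ι), c 3 i = 0) ∧
      c 3 A = 0 ∧ c 3 B = 0 ∧ c 3 F = c 2 F ∧ c 3 C = c 2 C ∧ c 3 Y = 0 := by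
  classical
  have five3 := At.five_le
  have five_eq := At.five_eq
  have e5 := At.expand
  obtain ⟨hAB, hAF, hBF, hnAC, hnAY, hnBC, hnBY, hCY, hCF, hYF, n1, hD1, hDA, hDB, hDF, hDC, hDY, hA, hB, hF', hC, hY, hD, h0, h2, h4, h4A, h4B, h4C, h4Y, h4F, hF02⟩ := At
  obtain ⟨ha0, hb0, hc0, hf0, hx0, hdd0, hfe, hxe, hde, caA, caB, caC, caF, caY, caD, aa1, bb1, aa2, bb2, aa4, ab4, bb4, luF, lvF, luX, lvX, luD, lvD, hfC, hxC, rA, sC⟩ := V
  have o0 : c 0 one = 0 := S.cone 0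
  have o1 : c 1 one = 0 := S.cone 1
  have o3 : c 3 one = 0 := S.cone 3
  have o4 : c 4 one = 1 := S.cone 4
  have s0 : ∀ (q : ι → ℤ), ∑ i, c 0 i * q i = c 0 A * q A + c 0 B * q B + c 0 F * q F := by
    intro q
    rw [isum_on _ _ h0, Finset.sum_insert (by simp [hAB, hAF]), Finset.sum_pair hBF, add_assoc]
  have s2 : ∀ (q : ι → ℤ), ∑ i, c 2 i * q i = c 2 C * q C + c 2 F * q F + c 2 Y * q Y := by
    intro q
    rw [isum_on _ _ h2, Finset.sum_insert (by simp [hCF, hCY]), Finset.sum_pair hYF.symm, add_assoc]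
  have g33 : ∑ i, c 3 i * c 3 i = 3 := S.gram 3 3
  -- `Z`
  have g34 : ∑ i, c 4 i * c 3 i = 1 := S.gram 4 3
  have g23 : ∑ i, c 2 i * c 3 i = 2 := S.gram 2 3
  have g03 : ∑ i, c 0 i * c 3 i = -1 := S.gram 0 3
  rw [s0, hF02] at g03
  rw [s2] at g23
  have b3 := five3 3 3 g33
  obtain ⟨i1, i2, i3, i4, i5⟩ : c 3 A ^ 2 ≤ 1 ∧ c 3 B ^ 2 ≤ 1 ∧ c 3 F ^ 2 ≤ 1 ∧ c 3 C ^ 2 ≤ 1 ∧
      c 3 Y ^ 2 ≤ 1 := by
    have := sq_nonneg (c 3 A); have := sq_nonneg (c 3 B); have := sq_nonneg (c 3 F)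
    have := sq_nonneg (c 3 C); have := sq_nonneg (c 3 Y)
    exact ⟨small le_rfl (by omega), small le_rfl (by omega), small le_rfl (by omega),
      small le_rfl (by omega), small le_rfl (by omega)⟩
  have h3pat := pat_three _ (mul_mem_tri hA i1) _ (mul_mem_tri hB i2) _ (mul_mem_tri hF' i3)
    _ (mul_mem_tri hC i4) _ (mul_mem_tri hY i5) (by linarith) (by linarith)
    (by rw [sgn_sq hA, sgn_sq hB, sgn_sq hF', sgn_sq hC, sgn_sq hY]; omega)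
  have hfne : (f : ℂ) ≠ 0 := Int.cast_ne_zero.mpr hf0
  obtain ⟨Z, hZS, hZ, hZ4, h3, h3A, h3B, h3F, h3C, h3Y⟩ : ∃ Z,
      Z ∉ ({A, B, F, C, Y} : Finset ι) ∧ c 3 Z ^ 2 = 1 ∧ c 4 Z = 0 ∧
      (∀ i ∉ insert Z ({A, B, F, C, Y} : Finset ι), c 3 i = 0) ∧
      c 3 A = 0 ∧ c 3 B = 0 ∧ c 3 F = c 2 F ∧ c 3 C = c 2 C ∧ c 3 Y = 0 := by
    rcases h3pat with ⟨pC, pY, pF, hor⟩ | ⟨pC, pF, pY, pA, pB⟩ | ⟨pF, pY, pC, pA, pB⟩
    · exfalso
      have hS : ∑ i ∈ ({A, B, F, C, Y} : Finset ι), c 3 i ^ 2 = 3 := by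
        rw [five_eq, pC, pY, pF]
        rcases hor with ⟨e, e'⟩ | ⟨e, e'⟩ <;> rw [e, e'] <;> norm_num
      have hz : ∀ i ∉ (∅ : Finset ι) ∪ {A, B, F, C, Y}, c 3 i = 0 := by
        rw [Finset.empty_union]; exact none_left _ _ g33 hS
      have Ld := e5 3 (fun i => (d i : ℂ)) ∅ (by simp) hz
      have Lv := e5 3 v ∅ (by simp) hz
      rw [show ∑ i, (c 3 i : ℂ) * (d i : ℂ) = 0 by exact_mod_cast S.deg 3, ← caA, ← caB, ← caC,
        ← caF, show (c 2 Y : ℂ) * d Y = -(x : ℂ) by rw [caY, neg_neg]] at Ld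
      rw [S.lv 3] at Lv
      simp only [Finset.sum_empty, pC, pY, pF] at Ld Lv
      obtain ⟨n, hn⟩ : ∃ n, (c 2 F : ℂ) * v F = n * f := ⟨(c 2 F : ℂ) * v F / f, by field_simp⟩
      have hF3 : ∀ (a' b' : ℂ) (UA UB : ℂ), a' ≠ 0 → b' ≠ 0 → a' + b' = f →
          UA + UB = n * f → UA = n * a' → UA ^ 2 / a' + UB ^ 2 / b' - (n * f) ^ 2 / f = 0 := by
        intro a' b' UA UB h1 h2' h3' h4' h5'
        have e : UB = n * b' := by linear_combination h4' - h5' - n * h3'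
        subst e h5'
        rw [← h3']
        field_simp
        ring
      rw [hn] at bb1 lvF
      rcases hor with ⟨e, e'⟩ | ⟨e, e'⟩ <;> rw [e, e'] at Ld Lv <;> push_cast at Ld Lv
      · have h' := hF3 a b _ _ (Int.cast_ne_zero.mpr ha0) (Int.cast_ne_zero.mpr hb0) hfC.symm lvF
          (by linear_combination Lv + lvX - hn - n * (Ld - hxC))
        rw [bb1] at h'
        exact S.hL (by linear_combination 3 / 2 * h')
      · have h' := hF3 b a ((c 0 B : ℂ) * v B) ((c 0 A : ℂ) * v A) (Int.cast_ne_zero.mpr hb0) (Int.cast_ne_zero.mpr ha0)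
          (by linear_combination -hfC) (by linear_combination lvF)
          (by linear_combination Lv + lvX - hn - n * (Ld - hxC))
        refine S.hL ?_
        linear_combination 3 / 2 * h' - 3 / 2 * bb1
    · obtain ⟨Z, hZS, hZ, h3⟩ := one_left (c 3) {A, B, F, C, Y} g33
        (by rw [five_eq, pC, pF, pY, pA, pB]; norm_num)
      have h3A : c 3 A = 0 := by simpa using inv_sgn hA pA
      have h3B : c 3 B = 0 := by simpa using inv_sgn hB pB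
      have h3F : c 3 F = c 2 F := by simpa using inv_sgn hF' pF
      have h3C : c 3 C = c 2 C := by simpa using inv_sgn hC pC
      have h3Y : c 3 Y = 0 := by simpa using inv_sgn hY pY
      refine ⟨Z, hZS, hZ, ?_, h3, h3A, h3B, h3F, h3C, h3Y⟩
      have g := g34
      simp only [Finset.mem_insert, Finset.mem_singleton, not_or] at hZS
      rw [Fintype.sum_eq_add C Z (Ne.symm hZS.2.2.2.1) ?_] at g
      · rw [h4C, h3C, ← sq, hC] at g
        exact (mul_eq_zero.mp (by omega : c 4 Z * c 3 Z = 0)).resolve_right (nz hZ)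
      rintro i ⟨hiC, hiZ⟩
      by_contra hh0
      have hi3 := right_ne_zero_of_mul hh0
      have hmem : i ∈ insert Z ({A, B, F, C, Y} : Finset ι) := by
        by_contra hh; exact hi3 (h3 i hh)
      simp only [Finset.mem_insert, Finset.mem_singleton] at hmem
      rcases hmem with rfl | rfl | rfl | rfl | rfl | rfl
      · exact hiZ rfl
      · exact hi3 h3A
      · exact hi3 h3B
      · exact left_ne_zero_of_mul hh0 h4F
      · exact hiC rfl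
      · exact hi3 h3Y
    · exfalso
      obtain ⟨Z, hZS, hZ, h3⟩ := one_left (c 3) {A, B, F, C, Y} g33
        (by rw [five_eq, pC, pF, pY, pA, pB]; norm_num)
      have hz : ∀ i ∉ ({Z} : Finset ι) ∪ {A, B, F, C, Y}, c 3 i = 0 := fun i hi => h3 i (by
        simp only [Finset.mem_union, Finset.mem_insert, Finset.mem_singleton, not_or] at hi ⊢
        exact hi)
      have hT : ∀ i ∈ ({Z} : Finset ι), i ∉ ({A, B, F, C, Y} : Finset ι) := fun i hi => by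
        rw [Finset.mem_singleton] at hi; exact hi ▸ hZS
      have Ld := e5 3 (fun i => (d i : ℂ)) {Z} hT hz
      have Lu := e5 3 u {Z} hT hz
      have Lv := e5 3 v {Z} hT hz
      rw [show ∑ i, (c 3 i : ℂ) * (d i : ℂ) = 0 by exact_mod_cast S.deg 3, ← caA, ← caB, ← caC,
        ← caF, show (c 2 Y : ℂ) * d Y = -(x : ℂ) by rw [caY, neg_neg]] at Ld
      rw [S.lu 3] at Lu
      rw [S.lv 3] at Lv
      simp only [Finset.sum_singleton, pC, pY, pF, pA, pB] at Ld Lu Lv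
      push_cast at Ld Lu Lv
      have hzd : (c 3 Z : ℂ) * d Z = cc := by linear_combination -Ld + hxC
      have hzu : (c 3 Z : ℂ) * u Z = (c 2 C : ℂ) * u C := by linear_combination -Lu - luX
      have hzv : (c 3 Z : ℂ) * v Z = (c 2 C : ℂ) * v C := by linear_combination -Lv - lvX
      have h4Z : c 4 Z = c 3 Z ∧ Z = D := by
        simp only [Finset.mem_insert, Finset.mem_singleton, not_or] at hZS
        have g := g34
        rw [Finset.sum_eq_single Z] at g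
        · have hZD : Z = D := by
            by_contra hne
            by_cases hz1 : Z = one
            · exact nz hZ (hz1 ▸ o3)
            · rw [h4 Z (by simp [hne, hz1, hZS])] at g; simp at g
          refine ⟨?_, hZD⟩
          rw [inv_sgn (e := c 3 Z) (s := c 4 Z) (t := 1) hZ (by rw [mul_comm]; exact g), one_mul]
        · intro i _ hiZ
          by_cases h1 : i ∈ ({A, B, F, C, Y} : Finset ι)
          · simp only [Finset.mem_insert, Finset.mem_singleton] at h1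
            rcases h1 with rfl | rfl | rfl | rfl | rfl
            · rw [show c 3 i = 0 by simpa using inv_sgn hA pA, mul_zero]
            · rw [h4B, zero_mul]
            · rw [h4F, zero_mul]
            · rw [show c 3 i = 0 by simpa using inv_sgn hC pC, mul_zero]
            · rw [h4Y, zero_mul]
          · rw [h3 i (by simp only [Finset.mem_insert, not_or] at h1 ⊢; exact ⟨hiZ, h1⟩), mul_zero]
        · simp
      obtain ⟨h4Z, rfl⟩ := h4Z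
      rw [h4Z] at caD luD lvD aa4 ab4 bb4
      have hddC : (dd : ℂ) = cc := by rw [caD, hzd]
      rw [hzu] at aa4 ab4 luD
      rw [hzv] at ab4 bb4 lvD
      rw [hddC] at aa4 ab4 bb4
      have hde' : (1 : ℂ) + 2 * cc + a = 0 := by
        have : ((1 + cc + a + dd : ℤ) : ℂ) = 0 := by exact_mod_cast hde
        push_cast at this; linear_combination this - hddC
      exact kill_double (uA := (c 0 A : ℂ) * u A) (uC := (c 2 C : ℂ) * u C)
        (uF := (c 2 F : ℂ) * u F) (vA := (c 0 A : ℂ) * v A) (vC := (c 2 C : ℂ) * v C)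
        (vF := (c 2 F : ℂ) * v F) ha0 hb0 hc0 hf0 hx0 hfe hxe (by exact_mod_cast hde')
        (by linear_combination luD) (by linear_combination lvD)
        (by linear_combination -rA.2.1) (by linear_combination sC.1)
        lvF luX S.hM S.hK S.hL bb1 aa2 (by linear_combination aa4) (by linear_combination ab4)
        (by linear_combination bb4)
  exact ⟨Z, hZS, hZ, hZ4, h3, h3A, h3B, h3F, h3C, h3Y⟩

theorem Sys.exists_W [DecidableEq ι] (S : Sys ι c d one u v K M L) {A B F C Y D : ι} (At : Atoms c one A B F C Y D) {a b cc f x dd : ℤ}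
    (V : Vals c d u v K M L A B F C Y D a b cc f x dd) :
    ∃ W,
      W ∉ ({A, B, F, C, Y} : Finset ι) ∧ c 1 W ^ 2 = 1 ∧
      (∀ i ∉ insert W ({A, B, F, C, Y} : Finset ι), c 1 i = 0) ∧
      c 1 A = c 0 A ∧ c 1 B = c 0 B ∧ c 1 F = 0 ∧ c 1 C = 0 ∧ c 1 Y = 0 := by
  classical
  have five3 := At.five_le
  have five_eq := At.five_eq
  have e5 := At.expand
  obtain ⟨hAB, hAF, hBF, hnAC, hnAY, hnBC, hnBY, hCY, hCF, hYF, n1, hD1, hDA, hDB, hDF, hDC, hDY, hA, hB, hF', hC, hY, hD, h0, h2, h4, h4A, h4B, h4C, h4Y, h4F, hF02⟩ := At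
  obtain ⟨ha0, hb0, hc0, hf0, hx0, hdd0, hfe, hxe, hde, caA, caB, caC, caF, caY, caD, aa1, bb1, aa2, bb2, aa4, ab4, bb4, luF, lvF, luX, lvX, luD, lvD, hfC, hxC, rA, sC⟩ := V
  have o0 : c 0 one = 0 := S.cone 0
  have o1 : c 1 one = 0 := S.cone 1
  have o3 : c 3 one = 0 := S.cone 3
  have o4 : c 4 one = 1 := S.cone 4
  have s0 : ∀ (q : ι → ℤ), ∑ i, c 0 i * q i = c 0 A * q A + c 0 B * q B + c 0 F * q F := by
    intro q
    rw [isum_on _ _ h0, Finset.sum_insert (by simp [hAB, hAF]), Finset.sum_pair hBF, add_assoc]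
  have s2 : ∀ (q : ι → ℤ), ∑ i, c 2 i * q i = c 2 C * q C + c 2 F * q F + c 2 Y * q Y := by
    intro q
    rw [isum_on _ _ h2, Finset.sum_insert (by simp [hCF, hCY]), Finset.sum_pair hYF.symm, add_assoc]
  have g11 : ∑ i, c 1 i * c 1 i = 3 := S.gram 1 1
  have hfne : (f : ℂ) ≠ 0 := Int.cast_ne_zero.mpr hf0
  -- `W`
  have g12 : ∑ i, c 2 i * c 1 i = 0 := S.gram 2 1
  have g01 : ∑ i, c 0 i * c 1 i = 2 := S.gram 0 1
  rw [s0, hF02] at g01
  rw [s2] at g12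
  have b1' := five3 1 3 g11
  obtain ⟨j1, j2, j3, j4, j5⟩ : c 1 A ^ 2 ≤ 1 ∧ c 1 B ^ 2 ≤ 1 ∧ c 1 F ^ 2 ≤ 1 ∧ c 1 C ^ 2 ≤ 1 ∧
      c 1 Y ^ 2 ≤ 1 := by
    have := sq_nonneg (c 1 A); have := sq_nonneg (c 1 B); have := sq_nonneg (c 1 F)
    have := sq_nonneg (c 1 C); have := sq_nonneg (c 1 Y)
    exact ⟨small le_rfl (by omega), small le_rfl (by omega), small le_rfl (by omega),
      small le_rfl (by omega), small le_rfl (by omega)⟩
  have h1pat := pat_two _ (mul_mem_tri hA j1) _ (mul_mem_tri hB j2) _ (mul_mem_tri hF' j3)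
    _ (mul_mem_tri hC j4) _ (mul_mem_tri hY j5) (by linarith) (by linarith)
    (by rw [sgn_sq hA, sgn_sq hB, sgn_sq hF', sgn_sq hC, sgn_sq hY]; omega)
  obtain ⟨W, hWS, hW, h1, h1A, h1B, h1F, h1C, h1Y⟩ : ∃ W,
      W ∉ ({A, B, F, C, Y} : Finset ι) ∧ c 1 W ^ 2 = 1 ∧
      (∀ i ∉ insert W ({A, B, F, C, Y} : Finset ι), c 1 i = 0) ∧
      c 1 A = c 0 A ∧ c 1 B = c 0 B ∧ c 1 F = 0 ∧ c 1 C = 0 ∧ c 1 Y = 0 := by
    rcases h1pat with ⟨pA, pB, pF, pC, pY⟩ | hrest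
    · obtain ⟨W, hWS, hW, h1⟩ := one_left (c 1) {A, B, F, C, Y} g11
        (by rw [five_eq, pC, pF, pY, pA, pB]; norm_num)
      exact ⟨W, hWS, hW, h1, by simpa using inv_sgn hA pA, by simpa using inv_sgn hB pB,
        by simpa using inv_sgn hF' pF, by simpa using inv_sgn hC pC, by simpa using inv_sgn hY pY⟩
    exfalso
    have hS : ∑ i ∈ ({A, B, F, C, Y} : Finset ι), c 1 i ^ 2 = 3 := by
      rw [five_eq]
      rcases hrest with ⟨p1, p2, p3, ⟨p4, p5⟩ | ⟨p4, p5⟩⟩ | ⟨p1, p2, p3, ⟨p4, p5⟩ | ⟨p4, p5⟩⟩ <;>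
        rw [p1, p2, p3, p4, p5] <;> norm_num
    have hz : ∀ i ∉ (∅ : Finset ι) ∪ {A, B, F, C, Y}, c 1 i = 0 := by
      rw [Finset.empty_union]; exact none_left _ _ g11 hS
    have Ld := e5 1 (fun i => (d i : ℂ)) ∅ (by simp) hz
    have Lu := e5 1 u ∅ (by simp) hz
    rw [show ∑ i, (c 1 i : ℂ) * (d i : ℂ) = 0 by exact_mod_cast S.deg 1, ← caA, ← caB, ← caC,
      ← caF, show (c 2 Y : ℂ) * d Y = -(x : ℂ) by rw [caY, neg_neg]] at Ld
    rw [S.lu 1] at Lu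
    simp only [Finset.sum_empty] at Ld Lu
    -- the ratios of `a₁` spread to `C` or `Y`, hence to all of `a₂`
    obtain ⟨r, hr⟩ : ∃ r, (c 2 F : ℂ) * u F = r * f := ⟨(c 2 F : ℂ) * u F / f, by field_simp⟩
    have hra : (c 0 A : ℂ) * u A = r * a := mul_right_cancel₀ hfne (by
      have := rA.2.1; rw [hr] at this; linear_combination -this)
    have hrb : (c 0 B : ℂ) * u B = r * b := mul_right_cancel₀ hfne (by
      have := rA.2.2; rw [hr] at this; linear_combination -this)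
    rw [hr, hra, hrb] at Lu
    have hK0 : (c 2 C : ℂ) * u C = r * cc → False := fun h => by
      have e : -((c 2 Y : ℂ) * u Y) = r * x := by linear_combination -luX + h + hr - r * hxC
      rw [h, e, hr, hxC] at aa2
      refine S.hK ?_
      have hcc0 : (cc : ℂ) ≠ 0 := Int.cast_ne_zero.mpr hc0
      have hcf : (cc : ℂ) + f ≠ 0 := hxC ▸ Int.cast_ne_zero.mpr hx0
      field_simp at aa2
      refine mul_left_cancel₀ (mul_ne_zero hfne hcc0) ?_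
      grind
    have hxY : (c 2 Y : ℂ) * u Y = -(r * x) → False := fun h => hK0 (by
      linear_combination luX - h - hr + r * hxC)
    rcases hrest with ⟨p1, p2, p3, ⟨p4, p5⟩ | ⟨p4, p5⟩⟩ | ⟨p1, p2, p3, ⟨p4, p5⟩ | ⟨p4, p5⟩⟩ <;>
      rw [p1, p2, p3, p4, p5] at Ld Lu <;> push_cast at Ld Lu
    · exact hK0 (by linear_combination -Lu + r * Ld)
    · exact hxY (by linear_combination -Lu + r * Ld)
    · exact hK0 (by linear_combination -Lu + r * Ld)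
    · exact hxY (by linear_combination -Lu + r * Ld)
  exact ⟨W, hWS, hW, h1, h1A, h1B, h1F, h1C, h1Y⟩

/-- Some nontrivial constituent takes its degree at the first involution. -/
theorem Sys.exists_eq_degree (S : Sys ι c d one u v K M L) :
    ∃ i, i ≠ one ∧ u i = (d i : ℂ) := by
  classical
  obtain ⟨A, B, F, C, Y, D, At⟩ := S.exists_atoms
  obtain ⟨a, b, cc, f, x, dd, V⟩ := S.exists_vals At
  obtain ⟨Z, hZS, hZ, hZ4, h3, h3A, h3B, h3F, h3C, h3Y⟩ := S.exists_Z At V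
  obtain ⟨W, hWS, hW, h1, h1A, h1B, h1F, h1C, h1Y⟩ := S.exists_W At V
  obtain ⟨hAB, hAF, hBF, hnAC, hnAY, hnBC, hnBY, hCY, hCF, hYF, n1, hD1, hDA, hDB, hDF, hDC, hDY, hA, hB, hF', hC, hY, hD, h0, h2, h4, h4A, h4B, h4C, h4Y, h4F, hF02⟩ := At
  obtain ⟨ha0, hb0, hc0, hf0, hx0, hdd0, hfe, hxe, hde, caA, caB, caC, caF, caY, caD, aa1, bb1, aa2, bb2, aa4, ab4, bb4, luF, lvF, luX, lvX, luD, lvD, hfC, hxC, rA, sC⟩ := V
  have o0 : c 0 one = 0 := S.cone 0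
  have o1 : c 1 one = 0 := S.cone 1
  have o3 : c 3 one = 0 := S.cone 3
  have o4 : c 4 one = 1 := S.cone 4
  have o2 : c 2 one = 0 := S.cone 2
  have o5 : c 5 one = 1 := S.cone 5
  have s0 : ∀ (q : ι → ℤ), ∑ i, c 0 i * q i = c 0 A * q A + c 0 B * q B + c 0 F * q F := by
    intro q
    rw [isum_on _ _ h0, Finset.sum_insert (by simp [hAB, hAF]), Finset.sum_pair hBF, add_assoc]
  have s2 : ∀ (q : ι → ℤ), ∑ i, c 2 i * q i = c 2 C * q C + c 2 F * q F + c 2 Y * q Y := by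
    intro q
    rw [isum_on _ _ h2, Finset.sum_insert (by simp [hCF, hCY]), Finset.sum_pair hYF.symm, add_assoc]
  have g55 : ∑ i, c 5 i * c 5 i = 4 := S.gram 5 5
  have hfne : (f : ℂ) ≠ 0 := Int.cast_ne_zero.mpr hf0
  have e4 : ∀ F' : ι → ℂ, ∑ i, (c 4 i : ℂ) * F' i =
      F' one + (c 0 A : ℂ) * F' A + (c 2 C : ℂ) * F' C + (c 4 D : ℂ) * F' D := by
    intro F'
    rw [csum_on _ _ h4, Finset.sum_insert (by simp [hD1, hDA, hDB, hDF, hDC, hDY]),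
      Finset.sum_insert (by simp [n1]), Finset.sum_insert (by simp [hAB, hAF, hnAC, hnAY]),
      Finset.sum_insert (by simp [hBF, hnBC, hnBY]),
      Finset.sum_insert (by simp [hCF.symm, hYF.symm]), Finset.sum_pair hCY, o4, h4A, h4B, h4C, h4Y,
      h4F]
    push_cast; ring
  simp only [Finset.mem_insert, Finset.mem_singleton, not_or] at hZS hWS
  obtain ⟨hZA, hZB, hZF, hZC, hZY⟩ := hZS
  obtain ⟨hWA, hWB, hWF, hWC, hWY⟩ := hWS
  have hZ1 : Z ≠ one := fun e => nz hZ (e ▸ o3)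
  have hW1 : W ≠ one := fun e => nz hW (e ▸ o1)
  have hZD : Z ≠ D := fun e => nz hD (e ▸ hZ4)
  have s1 : ∀ (q : ι → ℤ), ∑ i, c 1 i * q i = c 1 W * q W + c 0 A * q A + c 0 B * q B := by
    intro q
    rw [isum_on _ _ h1, Finset.sum_insert (by simp [hWA, hWB, hWF, hWC, hWY]),
      Finset.sum_insert (by simp [hAB, hAF, hnAC, hnAY]),
      Finset.sum_insert (by simp [hBF, hnBC, hnBY]),
      Finset.sum_insert (by simp [hCF.symm, hYF.symm]), Finset.sum_pair hCY, h1A, h1B, h1F, h1C, h1Y]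
    ring
  have s3 : ∀ (q : ι → ℤ), ∑ i, c 3 i * q i = c 3 Z * q Z + c 2 F * q F + c 2 C * q C := by
    intro q
    rw [isum_on _ _ h3, Finset.sum_insert (by simp [hZA, hZB, hZF, hZC, hZY]),
      Finset.sum_insert (by simp [hAB, hAF, hnAC, hnAY]),
      Finset.sum_insert (by simp [hBF, hnBC, hnBY]),
      Finset.sum_insert (by simp [hCF.symm, hYF.symm]), Finset.sum_pair hCY, h3A, h3B, h3F, h3C, h3Y]
    ring
  have hW4 : c 4 W = 0 := by
    have g : ∑ i, c 1 i * c 4 i = 1 := S.gram 1 4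
    rw [s1, h4A, h4B, ← sq (c 0 A), hA, mul_zero, add_zero] at g
    exact (mul_eq_zero.mp (by omega : c 1 W * c 4 W = 0)).resolve_left (nz hW)
  have hWD : W ≠ D := fun e => nz hD (e ▸ hW4)
  have hWZ : W ≠ Z := by
    intro e
    have g : ∑ i, c 1 i * c 3 i = 0 := S.gram 1 3
    rw [s1, h3A, h3B, mul_zero, add_zero, mul_zero, add_zero, e] at g
    rcases mul_eq_zero.mp g with h | h
    · exact nz hW (e ▸ h)
    · exact nz hZ h
  -- the sixth vector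
  have nine : ∀ T : ι → ℤ, ∑ i ∈ ({one, A, B, F, W, C, Y, Z, D} : Finset ι), T i =
      T one + T A + T B + T F + T W + T C + T Y + T Z + T D := by
    intro T
    rw [Finset.sum_insert (by simp [n1, (Ne.symm hZ1), (Ne.symm hW1), Ne.symm hD1]),
      Finset.sum_insert (by simp [hAB, hAF, hnAC, hnAY, (Ne.symm hWA), (Ne.symm hZA), Ne.symm hDA]),
      Finset.sum_insert (by simp [hBF, hnBC, hnBY, (Ne.symm hWB), (Ne.symm hZB), Ne.symm hDB]),
      Finset.sum_insert (by simp [hCF.symm, hYF.symm, (Ne.symm hWF), (Ne.symm hZF), Ne.symm hDF]),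
      Finset.sum_insert (by simp [hWC, hWY, hWZ, hWD]),
      Finset.sum_insert (by simp [hCY, (Ne.symm hZC), Ne.symm hDC]),
      Finset.sum_insert (by simp [(Ne.symm hZY), Ne.symm hDY]), Finset.sum_pair hZD]
    ring
  have g05 : ∑ i, c 0 i * c 5 i = 1 := S.gram 0 5
  have g15 : ∑ i, c 1 i * c 5 i = 1 := S.gram 1 5
  have g25 : ∑ i, c 2 i * c 5 i = -1 := S.gram 2 5
  have g35 : ∑ i, c 3 i * c 5 i = 0 := S.gram 3 5
  have g45 : ∑ i, c 4 i * c 5 i = 1 := S.gram 4 5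
  rw [s0, hF02] at g05
  rw [s1] at g15
  rw [s2] at g25
  rw [s3] at g35
  have s4 : ∑ i, c 4 i * c 5 i = 1 + c 0 A * c 5 A + c 2 C * c 5 C + c 4 D * c 5 D := by
    rw [isum_on _ _ h4, Finset.sum_insert (by simp [hD1, hDA, hDB, hDF, hDC, hDY]),
      Finset.sum_insert (by simp [n1]), Finset.sum_insert (by simp [hAB, hAF, hnAC, hnAY]),
      Finset.sum_insert (by simp [hBF, hnBC, hnBY]),
      Finset.sum_insert (by simp [hCF.symm, hYF.symm]), Finset.sum_pair hCY, o4, o5, h4A, h4B, h4C,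
      h4Y, h4F]
    ring
  rw [s4] at g45
  have b5 := sq_sub (c 5) {one, A, B, F, W, C, Y, Z, D} g55
  rw [nine, o5] at b5
  obtain ⟨k1, k2, k3, k4, k5, k6, k7, k8⟩ : c 5 A ^ 2 ≤ 1 ∧ c 5 B ^ 2 ≤ 1 ∧ c 5 F ^ 2 ≤ 1 ∧
      c 5 W ^ 2 ≤ 1 ∧ c 5 C ^ 2 ≤ 1 ∧ c 5 Y ^ 2 ≤ 1 ∧ c 5 Z ^ 2 ≤ 1 ∧ c 5 D ^ 2 ≤ 1 := by
    have := sq_nonneg (c 5 A); have := sq_nonneg (c 5 B); have := sq_nonneg (c 5 F)
    have := sq_nonneg (c 5 W); have := sq_nonneg (c 5 C); have := sq_nonneg (c 5 Y)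
    have := sq_nonneg (c 5 Z); have := sq_nonneg (c 5 D)
    exact ⟨small le_rfl (by omega), small le_rfl (by omega), small le_rfl (by omega),
      small le_rfl (by omega), small le_rfl (by omega), small le_rfl (by omega),
      small le_rfl (by omega), small le_rfl (by omega)⟩
  have h5pat := pat_six _ (mul_mem_tri hA k1) _ (mul_mem_tri hB k2) _ (mul_mem_tri hF' k3)
    _ (mul_mem_tri hW k4) _ (mul_mem_tri hC k5) _ (mul_mem_tri hY k6) _ (mul_mem_tri hZ k7)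
    _ (mul_mem_tri hD k8) (by linarith) (by linarith) (by linarith) (by linarith) (by linarith)
    (by rw [sgn_sq hA, sgn_sq hB, sgn_sq hF', sgn_sq hW, sgn_sq hC, sgn_sq hY, sgn_sq hZ,
      sgn_sq hD]; omega)
  -- values at `W` and `Z`
  have e1' : ∀ F' : ι → ℂ, ∑ i, (c 1 i : ℂ) * F' i =
      (c 1 W : ℂ) * F' W + (c 0 A : ℂ) * F' A + (c 0 B : ℂ) * F' B := by
    intro F'
    rw [csum_on _ _ h1, Finset.sum_insert (by simp [hWA, hWB, hWF, hWC, hWY]),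
      Finset.sum_insert (by simp [hAB, hAF, hnAC, hnAY]),
      Finset.sum_insert (by simp [hBF, hnBC, hnBY]),
      Finset.sum_insert (by simp [hCF.symm, hYF.symm]), Finset.sum_pair hCY, h1A, h1B, h1F, h1C, h1Y]
    push_cast; ring
  have e3' : ∀ F' : ι → ℂ, ∑ i, (c 3 i : ℂ) * F' i =
      (c 3 Z : ℂ) * F' Z + (c 2 F : ℂ) * F' F + (c 2 C : ℂ) * F' C := by
    intro F'
    rw [csum_on _ _ h3, Finset.sum_insert (by simp [hZA, hZB, hZF, hZC, hZY]),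
      Finset.sum_insert (by simp [hAB, hAF, hnAC, hnAY]),
      Finset.sum_insert (by simp [hBF, hnBC, hnBY]),
      Finset.sum_insert (by simp [hCF.symm, hYF.symm]), Finset.sum_pair hCY, h3A, h3B, h3F, h3C, h3Y]
    push_cast; ring
  have wd : (c 1 W : ℂ) * d W = -(f : ℂ) := by
    have h := e1' fun i => (d i : ℂ)
    rw [show ∑ i, (c 1 i : ℂ) * (d i : ℂ) = 0 by exact_mod_cast S.deg 1, ← caA, ← caB] at h
    linear_combination -h + hfC
  have wv : (c 1 W : ℂ) * v W = -((c 2 F : ℂ) * v F) := by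
    have h := S.lv 1; rw [e1'] at h; linear_combination h - lvF
  have zd : (c 3 Z : ℂ) * d Z = -(x : ℂ) := by
    have h := e3' fun i => (d i : ℂ)
    rw [show ∑ i, (c 3 i : ℂ) * (d i : ℂ) = 0 by exact_mod_cast S.deg 3, ← caC, ← caF] at h
    linear_combination -h + hxC
  have zv : (c 3 Z : ℂ) * v Z = (c 2 Y : ℂ) * v Y := by
    have h := S.lv 3; rw [e3'] at h; linear_combination h - lvX
  obtain ⟨n, hn⟩ : ∃ n, (c 2 F : ℂ) * v F = n * f := ⟨(c 2 F : ℂ) * v F / f, by field_simp⟩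
  have hnC : (c 2 C : ℂ) * v C = n * cc := mul_right_cancel₀ hfne (by
    have := sC.1; rw [hn] at this; linear_combination this)
  have hnY : (c 2 Y : ℂ) * v Y = -(n * x) := by linear_combination lvX - hn - hnC + n * hxC
  rw [hn] at wv
  rw [hnY] at zv
  rcases h5pat with ⟨qA, qB, qF, qW, qC, qY, qZ, qD⟩ | ⟨qA, qB, qF, qW, qC, qY, qZ, qD⟩ |
    ⟨qA, qB, qF, qW, qC, qY, qZ, qD⟩ | ⟨qA, qB, qF, qW, qC, qY, qZ, qD⟩
  all_goals
    have a5 := inv_sgn hA qA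
    have b5' := inv_sgn hB qB
    have f5 := inv_sgn hF' qF
    have w5 := inv_sgn hW qW
    have c5 := inv_sgn hC qC
    have y5 := inv_sgn hY qY
    have z5 := inv_sgn hZ qZ
    have d5 := inv_sgn hD qD
    simp only [zero_mul, one_mul, neg_one_mul] at a5 b5' f5 w5 c5 y5 z5 d5
  · -- the good configuration
    obtain ⟨E, hES, hE, h5⟩ := one_left (c 5) {one, A, B, F, W, C, Y, Z, D} g55 (by
      rw [nine, o5, a5, b5', f5, w5, c5, y5, z5, d5, neg_sq, hB, hY]; norm_num)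
    simp only [Finset.mem_insert, Finset.mem_singleton, not_or] at hES
    have e6 : ∀ F' : ι → ℂ, ∑ i, (c 5 i : ℂ) * F' i =
        F' one + (c 0 B : ℂ) * F' B - (c 2 Y : ℂ) * F' Y + (c 5 E : ℂ) * F' E := by
      intro F'
      rw [csum_on _ _ h5, Finset.sum_insert (by simp [hES]),
        Finset.sum_insert (by simp [n1, (Ne.symm hZ1), (Ne.symm hW1), Ne.symm hD1]),
        Finset.sum_insert (by simp [hAB, hAF, hnAC, hnAY, (Ne.symm hWA), (Ne.symm hZA), Ne.symm hDA]),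
        Finset.sum_insert (by simp [hBF, hnBC, hnBY, (Ne.symm hWB), (Ne.symm hZB), Ne.symm hDB]),
        Finset.sum_insert (by simp [hCF.symm, hYF.symm, (Ne.symm hWF), (Ne.symm hZF), Ne.symm hDF]),
        Finset.sum_insert (by simp [hWC, hWY, hWZ, hWD]),
        Finset.sum_insert (by simp [hCY, (Ne.symm hZC), Ne.symm hDC]),
        Finset.sum_insert (by simp [(Ne.symm hZY), Ne.symm hDY]), Finset.sum_pair hZD,
        o5, a5, b5', f5, w5, c5, y5, z5, d5]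
      push_cast; ring
    obtain ⟨ee, hee⟩ : ∃ z, z = c 5 E * d E := ⟨_, rfl⟩
    have hee0 : ee ≠ 0 := hee ▸ mul_ne_zero (nz hE) (S.d0 _)
    have caE : (ee : ℂ) = (c 5 E : ℂ) * d E := by rw [hee]; push_cast; rfl
    have hee' : 1 + x + b + ee = 0 := by
      have h := e6 fun i => (d i : ℂ)
      rw [show ∑ i, (c 5 i : ℂ) * (d i : ℂ) = 0 by exact_mod_cast S.deg 5, S.d1, ← caB, ← caE] at h
      have : ((1 + x + b + ee : ℤ) : ℂ) = 0 := by push_cast at h ⊢; linear_combination -h + caY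
      exact_mod_cast this
    have T5 : ∀ p q : ι → ℂ, p one = 1 → q one = 1 → ∑ i, (c 5 i : ℂ) * (p i * q i / d i) =
        1 + (-((c 2 Y : ℂ) * p Y)) * (-((c 2 Y : ℂ) * q Y)) / x +
          ((c 0 B : ℂ) * p B) * ((c 0 B : ℂ) * q B) / b +
          ((c 5 E : ℂ) * p E) * ((c 5 E : ℂ) * q E) / ee := by
      intro p q h1' h2'
      rw [e6, qterm hB, qterm hY, qterm hE, ← caB, ← caE, h1', h2', S.d1, caY, div_neg]
      push_cast; ring
    have key := good_case ha0 hb0 hc0 hf0 hx0 hdd0 hee0 hfe hxe hde hee' S.hM S.hK S.hL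
      luF lvF luX lvX luD lvD
      (uE := (c 5 E : ℂ) * u E) (vE := (c 5 E : ℂ) * v E)
      (by have := S.lu 5; rw [e6, S.u1] at this; linear_combination this)
      (by have := S.lv 5; rw [e6, S.v1] at this; linear_combination this)
      aa1 bb1 aa2 bb2 aa4 ab4 bb4
      (by simp only [sq]; rw [← T5 u u S.u1 S.u1, S.qaa 5]; simp)
      (by rw [← T5 u v S.u1 S.v1, S.qab 5]; simp)
      (by simp only [sq]; rw [← T5 v v S.v1 S.v1, S.qbb 5]; simp)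
    rw [caC] at key
    exact ⟨C, n1.2.2.2.1.symm, recover hC key⟩
  all_goals exfalso
  all_goals
    have h5 := none_left (c 5) {one, A, B, F, W, C, Y, Z, D} g55 (by
      rw [nine, o5, a5, b5', f5, w5, c5, y5, z5, d5]
      simp [hA, hF', hC, hY, hZ, hW, hD])
    have e6 : ∀ F' : ι → ℂ, ∑ i, (c 5 i : ℂ) * F' i = F' one + (c 5 A : ℂ) * F' A +
        (c 5 F : ℂ) * F' F + (c 5 W : ℂ) * F' W + (c 5 C : ℂ) * F' C + (c 5 Y : ℂ) * F' Y +
        (c 5 Z : ℂ) * F' Z + (c 5 D : ℂ) * F' D := by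
      intro F'
      rw [csum_on _ _ h5,
        Finset.sum_insert (by simp [n1, (Ne.symm hZ1), (Ne.symm hW1), Ne.symm hD1]),
        Finset.sum_insert (by simp [hAB, hAF, hnAC, hnAY, (Ne.symm hWA), (Ne.symm hZA), Ne.symm hDA]),
        Finset.sum_insert (by simp [hBF, hnBC, hnBY, (Ne.symm hWB), (Ne.symm hZB), Ne.symm hDB]),
        Finset.sum_insert (by simp [hCF.symm, hYF.symm, (Ne.symm hWF), (Ne.symm hZF), Ne.symm hDF]),
        Finset.sum_insert (by simp [hWC, hWY, hWZ, hWD]),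
        Finset.sum_insert (by simp [hCY, (Ne.symm hZC), Ne.symm hDC]),
        Finset.sum_insert (by simp [(Ne.symm hZY), Ne.symm hDY]), Finset.sum_pair hZD, o5, b5']
      push_cast; ring
    have Ld := e6 fun i => (d i : ℂ)
    have Lv := e6 v
    have Qv := e6 fun i => v i * v i / d i
    rw [show ∑ i, (c 5 i : ℂ) * (d i : ℂ) = 0 by exact_mod_cast S.deg 5, S.d1, a5, f5, w5, c5, y5,
      z5, d5] at Ld
    rw [S.lv 5, S.v1, a5, f5, w5, c5, y5, z5, d5] at Lv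
    rw [S.qbb 5, S.v1, S.d1, a5, f5, w5, c5, y5, z5, d5] at Qv
    simp only [Int.cast_neg, Int.cast_zero, zero_mul, neg_mul, qterm hA, qterm hF', qterm hW,
      qterm hC, qterm hY, qterm hZ, qterm hD, ← caA, ← caC, ← caF, ← caD, wd, zd, wv, zv, hn, hnC,
      hnY, show (c 2 Y : ℂ) * d Y = -(x : ℂ) by rw [caY, neg_neg]] at Ld Lv Qv
    push_cast at Ld Lv Qv
    simp at Qv
  · have h1n : n = 1 := by linear_combination Lv - n * Ld
    subst h1n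
    field_simp at Qv
    refine S.hL ?_
    grind
  all_goals
    have hDne : (dd : ℂ) ≠ 0 := Int.cast_ne_zero.mpr hdd0
    have hd4' : (1 : ℂ) + a + cc + dd = 0 := by
      have : ((1 + cc + a + dd : ℤ) : ℂ) = 0 := by exact_mod_cast hde
      push_cast at this; linear_combination this
    rw [hnC] at lvD bb4
  · refine kill_two_sums (a := (a : ℂ)) (g := (x : ℂ) - dd) (n := n)
      (Int.cast_ne_zero.mpr hc0) hDne hd4' (vA := (c 0 A : ℂ) * v A)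
      (vD := (c 4 D : ℂ) * v D) (by linear_combination lvD) (by linear_combination -Ld) ?_ S.hL
      (by linear_combination bb4) ?_
    · have e : (c 4 D : ℂ) * v D = n * dd := by
        linear_combination (lvD + Lv - n * (hd4' + Ld)) / 2
      linear_combination -Lv + e
    · have e : (c 4 D : ℂ) * v D = n * dd := by
        linear_combination (lvD + Lv - n * (hd4' + Ld)) / 2
      rw [e] at Qv
      field_simp at Qv ⊢
      grind
  · refine kill_two_sums (a := (a : ℂ)) (g := -(cc : ℂ) - x) (n := n)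
      (Int.cast_ne_zero.mpr hc0) hDne hd4' (vA := (c 0 A : ℂ) * v A)
      (vD := (c 4 D : ℂ) * v D) (by linear_combination lvD) (by linear_combination -Ld) ?_ S.hL
      (by linear_combination bb4) ?_
    · linear_combination -Lv
    · field_simp at Qv ⊢
      grind


end CfsgLib.NineNormalizer
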