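import Mathlib
import Cfsg.Agent.Lib.NineNormalizer.Fusion
import Cfsg.Agent.Lib.NineNormalizer.Lattice
import Cfsg.Agent.Lib.Char.TI
import Cfsg.Agent.Lib.Char.Counting
import Cfsg.Agent.Lib.Char.Kernel

/-!
The first involution class lies in a proper normal subgroup.
-/

set_option autoImplicit false
set_option linter.constructorNameAsVariable false

namespace CfsgLib.NineNormalizer

open Cfsg CfsgLib.Char
open scoped ComplexConjugate

universe u

variable {G : Type u} [Group G] [Finite G] {H J : Subgroup G} {e : H ≃* W}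

/-- The set supporting the virtual characters. -/
def supp (e : H ≃* W) : Set G := {g | ∃ n : H, (n : G) = g ∧ 5 ≤ clsW (e n)}

theorem Emb.mem_of_inverts (E : Emb H J e) {n : H} (hn : 5 ≤ clsW (e n)) {g : G}
    (hg : g * (n : G) * g⁻¹ ∈ H) : g ∈ H := by
  obtain ⟨k, hk, hk1⟩ := exists_pow hn
  have hkJ : (n : G) ^ k ∈ J := by
    have := (E.memJ (n ^ k)).mpr (by rw [map_pow]; exact hk)
    simpa using this
  have hk1' : (n : G) ^ k ≠ 1 := fun h => hk1 (by
    rw [← map_pow, show n ^ k = 1 from Subtype.ext (by simpa using h), map_one])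
  exact E.conj_eq hkJ hk1' (by rw [← conj_pow]; exact pow_mem hg k)

theorem Emb.ti (E : Emb H J e) :
    ∀ g : G, g ∉ H → ∀ t ∈ supp e, g * t * g⁻¹ ∈ supp e → t = 1 := by
  rintro g hg _ ⟨n, rfl, hn⟩ ⟨m, hm, -⟩
  exact (hg (E.mem_of_inverts hn (hm ▸ m.2))).elim

/-- An involution of `G` conjugate to `repW p` lying in `H` has class `p`. -/
theorem Emb.cls_of_conj (E : Emb H J e) {p : ℕ} (hp : p = 1 ∨ p = 2) {u : H} (huu : u * u = 1)
    (hu : IsConj ((e.symm (repW p) : H) : G) (u : G)) : clsW (e u) = p := by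
  have hp14 : p < 14 := by omega
  rcases invol (w := e u) (by rw [← map_mul, huu, map_one]) with h | h | h
  · exfalso
    have hu1 : u = 1 := e.injective ((clsW_eq_zero.mp h).trans (map_one e).symm)
    rw [hu1] at hu
    have := isConj_one_left.mp hu
    have h1 : e.symm (repW p) = 1 := Subtype.ext this
    have h2 := congrArg (fun x => clsW (e x)) h1
    simp only [e.apply_symm_apply, map_one, clsW_one, clsW_repW hp14] at h2
    omega
  all_goals
    rcases hp with rfl | rfl
    all_goals try exact h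
  · exfalso
    refine E.not_isConj (IsConj.trans ?_ hu.symm)
    exact isConj_of_cls (e := e) (h := e.symm (repW 1)) (h' := u)
      (by rw [e.apply_symm_apply, h, clsW_repW (by norm_num)])
  · exfalso
    refine E.not_isConj (hu.trans ?_)
    exact isConj_of_cls (e := e) (h := u) (h' := e.symm (repW 2))
      (by rw [e.apply_symm_apply, h, clsW_repW (by norm_num)])

theorem Emb.pair_count (E : Emb H J e) {p q : ℕ} (hp : p = 1 ∨ p = 2) (hq : q = 1 ∨ q = 2) (n : H)
    (hn : 5 ≤ clsW (e n)) :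
    Nat.card {z : G × G // IsConj ((e.symm (repW p) : H) : G) z.1 ∧
        IsConj ((e.symm (repW q) : H) : G) z.2 ∧ z.1 * z.2 = (n : G)} =
      Nat.card {z : W × W // clsW z.1 = p ∧ clsW z.2 = q ∧ z.1 * z.2 = e n} := by
  have sq1 : ∀ {r : ℕ}, r = 1 ∨ r = 2 → ∀ w : G, IsConj ((e.symm (repW r) : H) : G) w → w * w = 1 := by
    intro r hr w hw
    obtain ⟨g, rfl⟩ := isConj_iff.mp hw
    have h : ((e.symm (repW r) : H) : G) * (e.symm (repW r) : H) = 1 := by
      simpa using congrArg (fun x => ((e.symm x : H) : G)) (repW_sq hr)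
    rw [show g * ((e.symm (repW r) : H) : G) * g⁻¹ * (g * (e.symm (repW r) : H) * g⁻¹) =
      g * (((e.symm (repW r) : H) : G) * (e.symm (repW r) : H)) * g⁻¹ by group, h, mul_one,
      mul_inv_cancel]
  have memH : ∀ z : G × G, IsConj ((e.symm (repW p) : H) : G) z.1 →
      IsConj ((e.symm (repW q) : H) : G) z.2 → z.1 * z.2 = (n : G) → z.1 ∈ H ∧ z.2 ∈ H := by
    intro z h1 h2 h3
    have huu := sq1 hp _ h1
    have hu' : z.1⁻¹ = z.1 := inv_eq_of_mul_eq_one_left huu
    have hnu : z.1 * n * z.1⁻¹ = (n : G)⁻¹ := by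
      rw [hu', ← h3, mul_inv_rev, hu', inv_eq_of_mul_eq_one_left (sq1 hq _ h2)]
      calc z.1 * (z.1 * z.2) * z.1 = (z.1 * z.1) * (z.2 * z.1) := by group
        _ = z.2 * z.1 := by rw [huu, one_mul]
    have h : z.1 ∈ H := E.mem_of_inverts hn (hnu ▸ inv_mem n.2)
    refine ⟨h, ?_⟩
    rw [show z.2 = z.1⁻¹ * (z.1 * z.2) by group, h3]
    exact mul_mem (inv_mem h) n.2
  refine Nat.card_congr ⟨fun z => ⟨(e ⟨z.1.1, (memH z.1 z.2.1 z.2.2.1 z.2.2.2).1⟩,
      e ⟨z.1.2, (memH z.1 z.2.1 z.2.2.1 z.2.2.2).2⟩), ?_, ?_, ?_⟩,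
    fun z => ⟨(((e.symm z.1.1 : H) : G), ((e.symm z.1.2 : H) : G)), ?_, ?_, ?_⟩,
    fun z => Subtype.ext (by simp), fun z => Subtype.ext (by simp)⟩
  · exact E.cls_of_conj hp (Subtype.ext (sq1 hp _ z.2.1)) z.2.1
  · exact E.cls_of_conj hq (Subtype.ext (sq1 hq _ z.2.2.1)) z.2.2.1
  · rw [← map_mul]; exact congrArg e (Subtype.ext z.2.2.2)
  · exact isConj_of_cls (e := e) (by rw [e.apply_symm_apply, e.apply_symm_apply, z.2.1,
      clsW_repW (by omega)])
  · exact isConj_of_cls (e := e) (by rw [e.apply_symm_apply, e.apply_symm_apply, z.2.2.1,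
      clsW_repW (by omega)])
  · show ((e.symm z.1.1 : H) : G) * (e.symm z.1.2 : H) = n
    rw [← Subgroup.coe_mul, ← map_mul, z.2.2.2, e.symm_apply_apply]

/-- Summing a class function over products of two classes. -/
theorem sum_count (F : W → ℂ) (hF : ∀ w x : W, F (x * w * x⁻¹) = F w) (p q : ℕ) :
    ∑ w : W, F w * (Nat.card {z : W × W // clsW z.1 = p ∧ clsW z.2 = q ∧ z.1 * z.2 = w} : ℂ) =
      ((Finset.univ.filter fun w : W => clsW w = p).card : ℂ) *
        ∑ v ∈ Finset.univ.filter (fun v : W => clsW v = q), F (repW p * v) := by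
  classical
  have h1 : ∀ w : W, F w * (Nat.card {z : W × W // clsW z.1 = p ∧ clsW z.2 = q ∧ z.1 * z.2 = w} : ℂ) =
      ∑ z ∈ (Finset.univ.filter fun z : W × W => clsW z.1 = p ∧ clsW z.2 = q).filter
        (fun z => z.1 * z.2 = w), F (z.1 * z.2) := by
    intro w
    rw [Finset.sum_congr rfl (g := fun _ => F w) fun z hz => congrArg F (Finset.mem_filter.mp hz).2,
      Finset.sum_const,
      nsmul_eq_mul, Nat.card_eq_fintype_card, Fintype.card_subtype, mul_comm, Finset.filter_filter]
    refine congrArg (fun k : ℕ => (k : ℂ) * F w) (congrArg Finset.card (Finset.ext fun z => ?_))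
    rw [Finset.mem_filter, Finset.mem_filter, and_assoc]
  rw [Finset.sum_congr rfl fun w _ => h1 w,
    Finset.sum_fiberwise (Finset.univ.filter fun z : W × W => clsW z.1 = p ∧ clsW z.2 = q)
      (fun z => z.1 * z.2) (fun z => F (z.1 * z.2))]
  rw [show (Finset.univ.filter fun z : W × W => clsW z.1 = p ∧ clsW z.2 = q) =
      (Finset.univ.filter fun u : W => clsW u = p) ×ˢ (Finset.univ.filter fun v : W => clsW v = q) from
    by ext z; simp, Finset.sum_product]
  rw [Finset.sum_congr rfl fun u hu => ?_, Finset.sum_const, nsmul_eq_mul]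
  obtain ⟨x, hx⟩ := exists_conj_of_cls (Finset.mem_filter.mp hu).2
  refine Finset.sum_equiv (MulAut.conj x⁻¹).toEquiv (fun v => ?_) fun v _ => ?_
  · simp only [Finset.mem_filter, Finset.mem_univ, true_and]
    show clsW v = q ↔ clsW (x⁻¹ * v * x⁻¹⁻¹) = q
    rw [clsW_conj]
  · show F (u * v) = F (repW p * (x⁻¹ * v * x⁻¹⁻¹))
    rw [← hF (repW p * (x⁻¹ * v * x⁻¹⁻¹)) x, ← hx]
    congr 1
    group

theorem Emb.exists_normal (E : Emb H J e) :
    ∃ K : Subgroup G, K.Normal ∧ K ≠ ⊤ ∧ ((e.symm (repW 1) : H) : G) ∈ K := by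
  classical
  haveI : Fintype G := Fintype.ofFinite G
  haveI : Fintype H := Fintype.ofFinite H
  haveI : Finite (IrrCharacter G) := finite_irrCharacter
  let th : Fin 6 → H → ℂ := fun i h => theta i (e h)
  have hgenH : ∀ i, IsGeneralizedCharacter H (th i) := fun i =>
    isGeneralized_comp e.toMonoidHom (isGeneralized_theta i)
  have hcl : ∀ i, IsClassFunction H (th i) := fun i => isClassFunction_of_isGeneralized (hgenH i)
  have hthS : ∀ i, ∀ n : H, (n : G) ∉ supp e → th i n = 0 := fun i n hn =>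
    theta_vanish i (by by_contra h; exact hn ⟨n, rfl, by omega⟩)
  have h1 : ∀ i, th i 1 = 0 := fun i => theta_vanish i (by rw [map_one, clsW_one]; norm_num)
  choose c hc using fun i => isGeneralized_iff.mp (isGeneralized_indFun H (hgenH i))
  have hcoef : ∀ i (χ : IrrCharacter G),
      classInner (indFun H (th i)) (χ : G → ℂ) = (c i χ : ℂ) := fun i χ => by
    rw [hc i, classInner_sum_smul_irr]
  have hrec : ∀ i (χ : IrrCharacter G),
      (c i χ : ℂ) = classInner (th i) (fun n : H => (χ : G → ℂ) n) := fun i χ => by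
    rw [← hcoef, frobenius_reciprocity H (th i) (isClassFunction_irr χ)]
  choose d hd0 hd using fun χ : IrrCharacter G => exists_nat_degree_irr χ.2
  have hd0' : ∀ χ, d χ ≠ 0 := fun χ h => irr_degree_ne_zero χ.2 (by rw [hd, h, Nat.cast_zero])
  let one : IrrCharacter G := ⟨fun _ => 1, isIrrCharacter_one⟩
  let a : G := ((e.symm (repW 1) : H) : G)
  let b : G := ((e.symm (repW 2) : H) : G)
  have hvanish : ∀ i, ∀ r : ℕ, r = 1 ∨ r = 2 → indFun H (th i) ((e.symm (repW r) : H) : G) = 0 := by
    intro i r hr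
    simp only [indFun]
    rw [Finset.sum_eq_zero fun x _ => ?_, mul_zero]
    by_cases hx : x⁻¹ * ((e.symm (repW r) : H) : G) * x ∈ H
    · rw [extendByZero_mem H (th i) hx]
      refine theta_vanish i ?_
      have hsq : (⟨_, hx⟩ : H) * ⟨_, hx⟩ = 1 := Subtype.ext (by
        have h : ((e.symm (repW r) : H) : G) * (e.symm (repW r) : H) = 1 := by
          simpa using congrArg (fun w => ((e.symm w : H) : G)) (repW_sq hr)
        show x⁻¹ * _ * x * (x⁻¹ * _ * x) = 1
        rw [show x⁻¹ * ((e.symm (repW r) : H) : G) * x * (x⁻¹ * (e.symm (repW r) : H) * x) =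
          x⁻¹ * (((e.symm (repW r) : H) : G) * (e.symm (repW r) : H)) * x by group, h, mul_one,
          inv_mul_cancel])
      rcases invol (w := e ⟨_, hx⟩) (by rw [← map_mul, hsq, map_one]) with h | h | h <;> omega
    · exact extendByZero_notMem H (th i) hx
  have hlin : ∀ i (g : G), indFun H (th i) g = 0 →
      ∑ χ : IrrCharacter G, (c i χ : ℂ) * (χ : G → ℂ) g = 0 := by
    intro i g hg
    rw [hc i, Finset.sum_apply] at hg
    exact hg
  have hq : ∀ (i : Fin 6) (r : Fin 3) (p q : ℕ), p = 1 ∨ p = 2 → q = 1 ∨ q = 2 →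
      [1, 1, 2].getD r 0 = p → [1, 2, 2].getD r 0 = q →
      ∑ χ : IrrCharacter G, (c i χ : ℂ) * ((χ : G → ℂ) ((e.symm (repW p) : H) : G) *
          (χ : G → ℂ) ((e.symm (repW q) : H) : G) / (d χ : ℂ)) =
        (Nat.card G : ℂ) / ((Subgroup.centralizer ({((e.symm (repW p) : H) : G)} : Set G)).index *
          (Subgroup.centralizer ({((e.symm (repW q) : H) : G)} : Set G)).index * 648) *
          (((if p = 1 then 27 else 54 : ℕ) : ℂ) * (((pairT.getD r []).getD i 0 : ℤ) : ℂ)) := by
    intro i r p q hp hq hrp hrq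
    set A : G := ((e.symm (repW p) : H) : G)
    set B : G := ((e.symm (repW q) : H) : G)
    set z : ℂ := (Nat.card G : ℂ) / ((Subgroup.centralizer ({A} : Set G)).index *
      (Subgroup.centralizer ({B} : Set G)).index * 648)
    have hi : ((Subgroup.centralizer ({A} : Set G)).index : ℂ) ≠ 0 :=
      Nat.cast_ne_zero.mpr Subgroup.index_ne_zero_of_finite
    have hj : ((Subgroup.centralizer ({B} : Set G)).index : ℂ) ≠ 0 :=
      Nat.cast_ne_zero.mpr Subgroup.index_ne_zero_of_finite
    have hG : (Nat.card G : ℂ) ≠ 0 := Nat.cast_ne_zero.mpr Nat.card_pos.ne'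
    have hterm : ∀ n : H, th i n * ∑ χ : IrrCharacter G,
        (χ : G → ℂ) A * (χ : G → ℂ) B * conj ((χ : G → ℂ) n) / (χ : G → ℂ) 1 =
        (648 * z) * ((fun w => theta i w *
          (Nat.card {x : W × W // clsW x.1 = p ∧ clsW x.2 = q ∧ x.1 * x.2 = w} : ℂ)) (e n)) := by
      intro n
      by_cases hn : th i n = 0
      · have hn' : theta i (e n) = 0 := hn
        beta_reduce
        rw [hn, hn', zero_mul, zero_mul, mul_zero]
      have hn5 : 5 ≤ clsW (e n) := by
        by_contra h
        exact hn (theta_vanish i (by omega))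
      have hm := class_mult A B (n : G)
      rw [E.pair_count hp hq n hn5] at hm
      show theta i (e n) * _ = _
      beta_reduce
      rw [hm]
      simp only [z]
      field_simp
    calc ∑ χ : IrrCharacter G, (c i χ : ℂ) * ((χ : G → ℂ) A * (χ : G → ℂ) B / (d χ : ℂ))
        = (Nat.card H : ℂ)⁻¹ * ∑ n : H, th i n * ∑ χ : IrrCharacter G,
          (χ : G → ℂ) A * (χ : G → ℂ) B * conj ((χ : G → ℂ) n) / (χ : G → ℂ) 1 := by
          simp only [hrec, classInner, Finset.mul_sum, Finset.sum_mul]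
          rw [Finset.sum_comm]
          refine Finset.sum_congr rfl fun n _ => Finset.sum_congr rfl fun χ _ => ?_
          rw [hd]; ring
      _ = _ := by
        rw [Finset.sum_congr rfl fun n _ => hterm n, ← Finset.mul_sum]
        have hs : ∑ n : H, theta i (e n) *
            (Nat.card {x : W × W // clsW x.1 = p ∧ clsW x.2 = q ∧ x.1 * x.2 = e n} : ℂ) =
          ∑ w : W, theta i w *
            (Nat.card {x : W × W // clsW x.1 = p ∧ clsW x.2 = q ∧ x.1 * x.2 = w} : ℂ) :=
          e.toEquiv.sum_comp (fun w => theta i w *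
            (Nat.card {x : W × W // clsW x.1 = p ∧ clsW x.2 = q ∧ x.1 * x.2 = w} : ℂ))
        beta_reduce
        rw [hs, sum_count (theta i) (isClassFunction_of_isGeneralized (isGeneralized_theta i)) p q,
          card_class hp, ← hrp, ← hrq, sum_pair i r, hrp, Nat.card_congr e.toEquiv, card_W]
        push_cast
        field_simp
  let za : ℂ := ((Subgroup.centralizer ({a} : Set G)).index : ℂ)
  let zb : ℂ := ((Subgroup.centralizer ({b} : Set G)).index : ℂ)
  have hza : za ≠ 0 := Nat.cast_ne_zero.mpr Subgroup.index_ne_zero_of_finite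
  have hzb : zb ≠ 0 := Nat.cast_ne_zero.mpr Subgroup.index_ne_zero_of_finite
  have hG : (Nat.card G : ℂ) ≠ 0 := Nat.cast_ne_zero.mpr Nat.card_pos.ne'
  have S : Sys (IrrCharacter G) c (fun χ => (d χ : ℤ)) one (fun χ => (χ : G → ℂ) a)
      (fun χ => (χ : G → ℂ) b) (729 * (Nat.card G : ℂ) / (za * za * 648))
      (1458 * (Nat.card G : ℂ) / (za * zb * 648)) (2916 * (Nat.card G : ℂ) / (zb * zb * 648)) := by
    refine ⟨fun χ => Int.natCast_ne_zero.mpr (hd0' χ), ?_, rfl, rfl, ?_, ?_, ?_, ?_, ?_, ?_, ?_, ?_,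
      ?_, ?_, ?_⟩
    · have h : (1 : ℂ) = (d one : ℂ) := hd one
      have : d one = 1 := by exact_mod_cast h.symm
      show (d one : ℤ) = 1
      rw [this]; rfl
    · intro p q
      have h := classInner_indFun_of_ti H (supp e) E.ti (th p) (th q) (hcl q) (hthS p) (hthS q) (h1 p)
      have hW : classInner (th p) (th q) = classInner (theta p) (theta q) :=
        classInner_comp_equiv e (theta p) (theta q)
      rw [hW, theta_inner, hc p, hc q, classInner_sum_smul_sum_smul] at h
      simp only [map_intCast] at h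
      have h' : ((∑ χ : IrrCharacter G, c p χ * c q χ : ℤ) : ℂ) =
          (((gramT.getD p []).getD q 0 : ℤ) : ℂ) := by push_cast; exact h
      exact Int.cast_injective h'
    · intro p
      have h := hrec p one
      have e1 : classInner (th p) (fun n : H => (one : G → ℂ) n) =
          classInner (theta p) (fun _ => (1 : ℂ)) := classInner_comp_equiv e (theta p) (fun _ => 1)
      rw [e1, theta_inner_one] at h
      exact Int.cast_injective h
    · intro p
      have h : indFun H (th p) 1 = 0 := by rw [indFun_one, h1, mul_zero]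
      have h' := hlin p 1 h
      have : ((∑ χ : IrrCharacter G, c p χ * (d χ : ℤ) : ℤ) : ℂ) = 0 := by
        push_cast
        exact (Finset.sum_congr rfl fun χ _ => by rw [hd]).trans h'
      exact_mod_cast this
    · exact fun p => hlin p a (hvanish p 1 (Or.inl rfl))
    · exact fun p => hlin p b (hvanish p 2 (Or.inr rfl))
    · intro p
      have h := hq p 0 1 1 (Or.inl rfl) (Or.inl rfl) rfl rfl
      simp only [Int.cast_natCast]
      rw [show ∑ χ : IrrCharacter G, (c p χ : ℂ) * ((χ : G → ℂ) a * (χ : G → ℂ) a / (d χ : ℂ)) = _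
        from h]
      fin_cases p <;> simp [pairT, za, a] <;> field_simp <;> ring
    · intro p
      have h := hq p 1 1 2 (Or.inl rfl) (Or.inr rfl) rfl rfl
      simp only [Int.cast_natCast]
      rw [show ∑ χ : IrrCharacter G, (c p χ : ℂ) * ((χ : G → ℂ) a * (χ : G → ℂ) b / (d χ : ℂ)) = _
        from h]
      fin_cases p <;> simp [pairT, za, zb, a, b] <;> field_simp <;> ring
    · intro p
      have h := hq p 2 2 2 (Or.inr rfl) (Or.inr rfl) rfl rfl
      simp only [Int.cast_natCast]
      rw [show ∑ χ : IrrCharacter G, (c p χ : ℂ) * ((χ : G → ℂ) b * (χ : G → ℂ) b / (d χ : ℂ)) = _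
        from h]
      fin_cases p <;> simp [pairT, zb, b] <;> field_simp <;> ring
    · field_simp; ring
    · exact div_ne_zero (mul_ne_zero (by norm_num) hG) (mul_ne_zero (mul_ne_zero hza hza) (by norm_num))
    · exact div_ne_zero (mul_ne_zero (by norm_num) hG) (mul_ne_zero (mul_ne_zero hzb hzb) (by norm_num))
  obtain ⟨χ, hne, hχ⟩ := S.exists_eq_degree
  have hχ' : (χ : G → ℂ) a = (χ : G → ℂ) 1 := by rw [hd]; simpa using hχ
  obtain ⟨K, hK, hmem, -⟩ := exists_kernel (isCharacter_of_isIrr χ.2)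
  refine ⟨K, hK, fun htop => hne (Subtype.ext ?_), (hmem a).mpr hχ'⟩
  refine (irr_eq_of_smul_eq χ.2 isIrrCharacter_one (a := (χ : G → ℂ) 1) ?_).1
  funext g
  rw [Pi.smul_apply, smul_eq_mul, mul_one]
  exact (hmem g).mp (htop ▸ Subgroup.mem_top g)

end CfsgLib.NineNormalizer
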