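import Mathlib
import Cfsg.Agent.Lib.NineNormalizer.Induce
import Cfsg.Agent.Lib.ThreeCubedTI.Main
import Cfsg.Agent.Lib.Transfer.Focal

/-!
`H = ⊤`: pass to a normal subgroup meeting `H` in `3³:2²`.
-/

set_option autoImplicit false

namespace CfsgLib.NineNormalizer

open scoped commutatorElement

universe u

variable {G : Type u} [Group G] {H J : Subgroup G} {e : H ≃* W}

/-- The subgroup `3³:2²` of `W`. -/
def kerSub : Subgroup W where
  carrier := {w | ∀ i, blkW w i = i}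
  one_mem' := (isKer_iff 1).mp (by rw [clsW_one]; rfl)
  mul_mem' := fun {x y} hx hy i => by rw [blkW_mul, hy, hx]
  inv_mem' := fun {x} hx i => by
    have h : blkW (x * x⁻¹) i = i := by
      rw [mul_inv_cancel]
      exact (isKer_iff 1).mp (by rw [clsW_one]; rfl) i
    rwa [blkW_mul, hx] at h

theorem mem_kerSub {w : W} : w ∈ kerSub ↔ isKer (clsW w) = true := (isKer_iff w).symm

theorem exists_mem_W {f : ThreeCubedTI.P3} (hf : ThreeCubedTI.Ev f) :
    ∃ w : W, (w : Equiv.Perm (Fin 9)) = ThreeCubedTI.nine f ∧ isKer (clsW w) = true ∧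
      (isJ (clsW w) = true ↔ ThreeCubedTI.Rot f) := by
  obtain ⟨h1, h2, h3⟩ := nine_check f hf
  obtain ⟨hlt, helt⟩ := inW_iff.mp h1
  have hval : (ofNum (idx (code (ThreeCubedTI.nine f))) : Equiv.Perm (Fin 9)) = ThreeCubedTI.nine f :=
    code_inj (by rw [code_ofNum hlt, helt])
  have hcls : clsW (ofNum (idx (code (ThreeCubedTI.nine f)))) = cls (idx (code (ThreeCubedTI.nine f))) := by
    rw [clsW_def, num_ofNum hlt]
  exact ⟨_, hval, hcls ▸ h2, hcls ▸ h3⟩

theorem exists_triple_iso : ∃ ι : ThreeCubedTI.evGroup ≃* kerSub,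
    ∀ f, isJ (clsW (ι f : W)) = true ↔ ThreeCubedTI.Rot (f : ThreeCubedTI.P3) := by
  classical
  choose w hw1 hw2 hw3 using fun f : ThreeCubedTI.evGroup => exists_mem_W (f := f.1) f.2
  let φ : ThreeCubedTI.evGroup →* kerSub :=
    { toFun := fun f => ⟨w f, mem_kerSub.mpr (hw2 f)⟩
      map_one' := Subtype.ext (Subtype.ext (by
        show (w 1 : Equiv.Perm (Fin 9)) = 1
        rw [hw1]; exact map_one ThreeCubedTI.nine))
      map_mul' := fun f g => Subtype.ext (Subtype.ext (by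
        show (w (f * g) : Equiv.Perm (Fin 9)) = (w f : Equiv.Perm (Fin 9)) * w g
        rw [hw1, hw1, hw1]; exact map_mul ThreeCubedTI.nine _ _)) }
  have hinj : Function.Injective φ := fun f g h => Subtype.ext (ThreeCubedTI.nine_injective (by
    rw [← hw1, ← hw1]
    exact congrArg (fun x : kerSub => ((x : W) : Equiv.Perm (Fin 9))) h))
  have hcard : Nat.card ThreeCubedTI.evGroup = Nat.card kerSub := by
    have h1 : Nat.card ThreeCubedTI.evGroup =
        (Finset.univ.filter fun f : ThreeCubedTI.P3 => ThreeCubedTI.Ev f).card := by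
      rw [← Fintype.card_subtype, ← Nat.card_eq_fintype_card]
      exact Nat.card_congr (Equiv.subtypeEquivRight fun _ => Iff.rfl)
    have h2 : Nat.card kerSub = Nat.card {w : W // isKer (cls (num w)) = true} :=
      Nat.card_congr (Equiv.subtypeEquivRight fun w => by rw [mem_kerSub, clsW_def])
    rw [h1, h2, ThreeCubedTI.card_ev, card_filter (fun n => isKer (cls n)), ker_count]
  haveI : Fintype kerSub := Fintype.ofFinite _
  haveI : Fintype ThreeCubedTI.evGroup := Fintype.ofFinite _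
  have hbij : Function.Bijective φ := (Fintype.bijective_iff_injective_and_card φ).mpr
    ⟨hinj, by rw [← Nat.card_eq_fintype_card, ← Nat.card_eq_fintype_card, hcard]⟩
  exact ⟨MulEquiv.ofBijective φ hbij, hw3⟩

variable [Finite G]

/-- A normal subgroup meeting `H` in `3³:2²` forces `H = ⊤`. -/
theorem Emb.eq_top_of_ker (E : Emb H J e) (L : Subgroup G) [L.Normal]
    (hL : ∀ h : H, (h : G) ∈ L ↔ isKer (clsW (e h)) = true) : H = ⊤ := by
  classical
  obtain ⟨ι, hι⟩ := exists_triple_iso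
  let r : H.subgroupOf L →* H :=
    { toFun := fun x => ⟨((x : L) : G), Subgroup.mem_subgroupOf.mp x.2⟩
      map_one' := rfl
      map_mul' := fun _ _ => rfl }
  let ψ : H.subgroupOf L →* kerSub :=
    (e.toMonoidHom.comp r).codRestrict kerSub fun x => mem_kerSub.mpr ((hL (r x)).mp (x : L).2)
  let Φ : H.subgroupOf L →* ThreeCubedTI.P3 :=
    ThreeCubedTI.evGroup.subtype.comp (ι.symm.toMonoidHom.comp ψ)
  have hrot : ∀ x, ThreeCubedTI.Rot (Φ x) ↔ (((x : L) : G)) ∈ J := by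
    intro x
    have h := (hι (ι.symm (ψ x))).symm
    rw [ι.apply_symm_apply] at h
    exact h.trans (E.memJ (r x)).symm
  have hJL : J ≤ L := fun j hj => by
    have h := (E.memJ ⟨j, E.J_le hj⟩).mp hj
    refine (hL ⟨j, E.J_le hj⟩).mpr ?_
    rcases isJ_cases h with h' | h' | h' | h' <;> rw [h'] <;> rfl
  obtain ⟨z, hzJ, hz1⟩ : ∃ z ∈ J, z ≠ 1 := by
    refine ⟨((e.symm (repW 5) : H) : G), (E.mem_J_W _).mpr (by rw [clsW_repW (by norm_num)]; rfl),
      fun h => ?_⟩
    have h' : e.symm (repW 5) = 1 := Subtype.ext h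
    have := congrArg (fun x => clsW (e x)) h'
    simp only [e.apply_symm_apply, map_one, clsW_one, clsW_repW (show (5 : ℕ) < 14 by norm_num)] at this
    omega
  have D : ThreeCubedTI.Data (H.subgroupOf L) (J.subgroupOf L) Φ := by
    refine ⟨?_, fun x => (ι.symm (ψ x)).2, ?_, ?_, fun x => ?_, ?_, ?_⟩
    · intro x y h
      have h1 : ι.symm (ψ x) = ι.symm (ψ y) := Subtype.ext h
      have h2 : r x = r y := e.injective (congrArg Subtype.val (ι.symm.injective h1))
      exact Subtype.ext (Subtype.ext (congrArg (fun u : H => (u : G)) h2))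
    · intro f hf
      set h : H := e.symm (ι ⟨f, hf⟩ : W)
      have hh : (h : G) ∈ L := (hL h).mpr (by
        rw [e.apply_symm_apply]; exact mem_kerSub.mp (ι ⟨f, hf⟩).2)
      refine ⟨⟨⟨h, hh⟩, Subgroup.mem_subgroupOf.mpr h.2⟩, ?_⟩
      have hψ : ψ ⟨⟨h, hh⟩, Subgroup.mem_subgroupOf.mpr h.2⟩ = ι ⟨f, hf⟩ :=
        Subtype.ext (e.apply_symm_apply _)
      show ((ι.symm (ψ _) : ThreeCubedTI.evGroup) : ThreeCubedTI.P3) = f
      rw [hψ, ι.symm_apply_apply]
    · exact fun x hx => Subgroup.mem_subgroupOf.mpr (E.J_le (Subgroup.mem_subgroupOf.mp hx))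
    · exact (hrot x).symm
    · refine le_antisymm (fun g hg => ?_) (fun g hg => ?_)
      · have h := (Subgroup.mem_normalizer_iff.mp hg ⟨z, hJL hzJ⟩).mp (Subgroup.mem_subgroupOf.mpr hzJ)
        exact Subgroup.mem_subgroupOf.mpr (E.conj_eq hzJ hz1
          (E.J_le (Subgroup.mem_subgroupOf.mp h)))
      · rw [Subgroup.mem_subgroupOf] at hg
        rw [Subgroup.mem_normalizer_iff]
        intro x
        show (x : G) ∈ J ↔ (g : G) * x * (g : G)⁻¹ ∈ J
        refine ⟨fun hx => E.closed.2 _ hx g (mul_mem (mul_mem hg (E.J_le hx)) (inv_mem hg)),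
          fun hx => ?_⟩
        have := E.closed.2 _ hx (g : G)⁻¹ (mul_mem (mul_mem (inv_mem hg) (E.J_le hx))
          (inv_mem (inv_mem hg)))
        rwa [show (g : G)⁻¹ * ((g : G) * x * (g : G)⁻¹) * (g : G)⁻¹⁻¹ = x by group] at this
    · intro t ht ht1 g hg
      refine Subgroup.mem_subgroupOf.mpr (E.cent _ (Subgroup.mem_subgroupOf.mp ht)
        (fun h => ht1 (Subtype.ext h)) (Subgroup.mem_centralizer_singleton_iff.mpr ?_))
      exact congrArg Subtype.val (Subgroup.mem_centralizer_singleton_iff.mp hg)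
  have hLH : L ≤ H := Subgroup.subgroupOf_eq_top.mp D.eq_top
  rw [eq_top_iff]
  intro g _
  exact E.conj_eq hzJ hz1 (hLH (Subgroup.Normal.conj_mem inferInstance _ (hJL hzJ) g))

theorem Emb.eq_top (E : Emb H J e) : H = ⊤ := by
  classical
  haveI : Fact (Nat.Prime 3) := ⟨Nat.prime_three⟩
  obtain ⟨K, hK, hKtop, haK⟩ := E.exists_normal
  haveI := hK
  -- traces on `W`
  let tr : Subgroup G → Subgroup W := fun L => L.comap (H.subtype.comp e.symm.toMonoidHom)
  have mem_tr : ∀ (L : Subgroup G) (w : W), w ∈ tr L ↔ ((e.symm w : H) : G) ∈ L := fun L w => Iff.rfl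
  have htr : ∀ (L : Subgroup G) (h : H), e h ∈ tr L ↔ (h : G) ∈ L := fun L h => by
    rw [mem_tr, e.symm_apply_apply]
  have trn : ∀ L : Subgroup G, L.Normal → (tr L).Normal := fun L hL => hL.comap _
  haveI := trn K hK
  have hrep1 : repW 1 ∈ tr K := haK
  have hc1 : clsW (repW 1) = 1 := clsW_repW (by norm_num)
  -- the Sylow subgroup
  let P : Subgroup G := Psub.map (H.subtype.comp e.symm.toMonoidHom)
  have memP : ∀ h : H, (h : G) ∈ P ↔ e h ∈ Psub := by
    intro h
    constructor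
    · rintro ⟨w, hw, hw'⟩
      have : e.symm w = h := Subtype.ext hw'
      rw [← this, e.apply_symm_apply]
      exact hw
    · exact fun hh => ⟨e h, hh, congrArg Subtype.val (e.symm_apply_apply h)⟩
  have hPH : P ≤ H := by rintro _ ⟨w, -, rfl⟩; exact (e.symm w).2
  have hJP : J ≤ P := fun j hj => (memP ⟨j, E.J_le hj⟩).mpr ((P_spec _).1 ((E.memJ _).mp hj))
  obtain ⟨z, hzJ, hz1⟩ : ∃ z ∈ J, z ≠ 1 := by
    refine ⟨((e.symm (repW 5) : H) : G), (E.mem_J_W _).mpr (by rw [clsW_repW (by norm_num)]; rfl),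
      fun h => ?_⟩
    have h' : e.symm (repW 5) = 1 := Subtype.ext h
    have := congrArg (fun x => clsW (e x)) h'
    simp only [e.apply_symm_apply, map_one, clsW_one, clsW_repW (show (5 : ℕ) < 14 by norm_num)] at this
    omega
  have hPp : IsPGroup 3 P := by
    rintro ⟨g, hg⟩
    obtain ⟨w, hw, rfl⟩ := hg
    exact ⟨2, Subtype.ext (by
      have := congrArg (fun x => ((e.symm x : H) : G)) ((P_spec w).2.1 hw)
      simpa using this)⟩
  have hPnorm : Subgroup.normalizer (P : Set G) ≤ H := fun g hg =>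
    E.conj_eq hzJ hz1 (hPH ((Subgroup.mem_normalizer_iff.mp hg z).mp (hJP hzJ)))
  have hPmax : ∀ Q : Subgroup G, IsPGroup 3 Q → P ≤ Q → Q = P := by
    intro Q hQ hle
    by_contra hne
    haveI := hQ.isNilpotent
    obtain ⟨⟨r, hrQ⟩, hr, hrn⟩ := SetLike.exists_of_lt
      (Group.normalizerCondition_of_isNilpotent (P.subgroupOf Q) (lt_top_iff_ne_top.mpr fun h =>
        hne (le_antisymm (Subgroup.subgroupOf_eq_top.mp h) hle)))
    rw [Subgroup.mem_subgroupOf] at hrn
    have hnorm : ∀ x, x ∈ P → r * x * r⁻¹ ∈ P := fun x hx =>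
      Subgroup.mem_subgroupOf.mp ((Subgroup.mem_normalizer_iff.mp hr ⟨x, hle hx⟩).mp
        (Subgroup.mem_subgroupOf.mpr hx))
    have hrH : r ∈ H := E.conj_eq hzJ hz1 (hPH (hnorm z (hJP hzJ)))
    obtain ⟨n, hn⟩ := hQ ⟨r, hrQ⟩
    refine hrn ((memP ⟨r, hrH⟩).mpr ((P_spec _).2.2.2
      (nine_of_pow ⟨r, hrH⟩ (r := n) (by simpa using congrArg Subtype.val hn)) fun p hp => ?_))
    have h := (memP (⟨r, hrH⟩ * e.symm p * ⟨r, hrH⟩⁻¹)).mp
      (hnorm _ ((memP (e.symm p)).mpr (by rwa [e.apply_symm_apply])))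
    rwa [map_mul, map_mul, map_inv, e.apply_symm_apply] at h
  let SP : Sylow 3 G := ⟨P, hPp, fun hQ hle => hPmax _ hQ hle⟩
  by_cases hodd : ∃ u ∈ tr K, isEven (clsW u) = false
  · obtain ⟨u, hu, ho⟩ := hodd
    have htop := eq_top_of_odd (tr K) hrep1 hc1 hu ho
    have hHK : H ≤ K := fun g hg => (htr K ⟨g, hg⟩).mp (by rw [htop]; trivial)
    exfalso
    apply hKtop
    have hfr := (SP.subtype (hPH.trans hHK)).normalizer_sup_eq_top
    have hmap : ((SP.subtype (hPH.trans hHK) : Sylow 3 K) : Subgroup K).map K.subtype = P := by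
      show (P.subgroupOf K).map K.subtype = P
      rw [Subgroup.subgroupOf_map_subtype, inf_eq_left.mpr (hPH.trans hHK)]
    rw [hmap, sup_eq_right.mpr (hPnorm.trans hHK)] at hfr
    exact hfr
  push Not at hodd
  have heven : ∀ u ∈ tr K, isEven (clsW u) = true := fun u hu => by simpa using hodd u hu
  by_cases hthree : ∃ u ∈ tr K, clsW u = 4 ∨ clsW u = 12 ∨ clsW u = 13
  swap
  · refine E.eq_top_of_ker K fun h => ⟨fun hh => ?_, fun hh => ?_⟩
    · push Not at hthree
      have h1 := heven _ ((htr K h).mpr hh)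
      have h2 := hthree _ ((htr K h).mpr hh)
      simp [isEven] at h1
      simp [isKer]
      omega
    · exact (htr K h).mp (ker_of_one (tr K) hrep1 hc1 hh)
  obtain ⟨u, hu, hu3⟩ := hthree
  have hall : ∀ h : H, isEven (clsW (e h)) = true → (h : G) ∈ K := fun h hh =>
    (htr K h).mp (even_of_three (tr K) hrep1 hc1 hu hu3 hh)
  have hPK : P ≤ K := fun g hg => hall ⟨g, hPH hg⟩ (by
    have := (nine_iff _).mp ((P_spec _).2.1 ((memP ⟨g, hPH hg⟩).mp hg))
    simp at this
    simp [isEven]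
    omega)
  let PK : Sylow 3 K := SP.subtype hPK
  let NK : Subgroup K := H.subgroupOf K
  have hfus : ∀ x ∈ (PK : Subgroup K), ∀ g : K, g * x * g⁻¹ ∈ (PK : Subgroup K) →
      ∃ n ∈ NK, n * x * n⁻¹ = g * x * g⁻¹ := by
    intro x hx g hg
    have hxP : (x : G) ∈ P := hx
    have hyP : (g : G) * x * (g : G)⁻¹ ∈ P := hg
    by_cases hx1 : (x : G) = 1
    · exact ⟨1, one_mem _, by rw [show x = 1 from Subtype.ext hx1]; group⟩
    by_cases hxJ : (x : G) ∈ J
    · exact ⟨g, Subgroup.mem_subgroupOf.mpr (E.conj_eq hxJ hx1 (hPH hyP)), rfl⟩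
    set y : G := (g : G) * x * (g : G)⁻¹ with hy
    have hyJ : y ∉ J := fun h => hxJ (by
      have := E.closed.2 y h (g : G)⁻¹ (by rw [hy]; convert hPH hxP using 1; group)
      rwa [show (g : G)⁻¹ * y * (g : G)⁻¹⁻¹ = x by rw [hy]; group] at this)
    have three : ∀ q : G, ∀ hq : q ∈ P, q ∉ J → clsW (e ⟨q, hPH hq⟩) = 4 ∨
        clsW (e ⟨q, hPH hq⟩) = 12 ∨ clsW (e ⟨q, hPH hq⟩) = 13 := by
      intro q hq hqJ
      have h1 := (nine_iff _).mp ((P_spec _).2.1 ((memP ⟨q, hPH hq⟩).mp hq))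
      have h2 : isJ (clsW (e ⟨q, hPH hq⟩)) ≠ true := fun h => hqJ ((E.memJ _).mpr h)
      simp at h1
      simp [isJ] at h2
      omega
    obtain ⟨zx, hzxc, hzxJ, hzx1⟩ := (cent_of_three (three x hxP hxJ)).2
    obtain ⟨hTy, zy, hzyc, hzyJ, hzy1⟩ := cent_of_three (three y hyP hyJ)
    set yH : H := ⟨y, hPH hyP⟩
    -- Sylow subgroup of `C_K(y)`
    let C : Subgroup G := Subgroup.centralizer ({y} : Set G) ⊓ K
    let T : Subgroup G := Subgroup.centralizer ({y} : Set G) ⊓ H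
    have hT9 : ∀ t : G, ∀ ht : t ∈ T, e ⟨t, ht.2⟩ ^ 9 = 1 := fun t ht => hTy _ (by
      have : (⟨t, ht.2⟩ : H) * yH = yH * ⟨t, ht.2⟩ :=
        Subtype.ext (Subgroup.mem_centralizer_singleton_iff.mp ht.1)
      rw [← map_mul, this, map_mul])
    have hTC : T ≤ C := fun t ht => ⟨ht.1, hall ⟨t, ht.2⟩ (by
      have := (nine_iff _).mp (hT9 t ht)
      simp at this
      simp [isEven]
      omega)⟩
    have hTp : IsPGroup 3 T := fun t => ⟨2, Subtype.ext (by
      have := congrArg (fun w => ((e.symm w : H) : G)) (hT9 t.1 t.2)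
      simpa using this)⟩
    have hzyT : ((e.symm zy : H) : G) ∈ T := by
      refine ⟨Subgroup.mem_centralizer_singleton_iff.mpr ?_, (e.symm zy).2⟩
      have := congrArg (fun w => ((e.symm w : H) : G)) hzyc
      simpa [yH] using this
    have hzy1' : ((e.symm zy : H) : G) ≠ 1 := fun h => hzy1 (by
      rw [← e.apply_symm_apply zy, show e.symm zy = 1 from Subtype.ext h, map_one])
    obtain ⟨S, hS⟩ := (hTp.comap_of_injective C.subtype C.subtype_injective :
      IsPGroup 3 (T.subgroupOf C)).exists_le_sylow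
    have hSeq : (S : Subgroup C) = T.subgroupOf C := by
      refine le_antisymm (fun s hs => ?_) hS
      by_contra hns
      have hlt : T.subgroupOf C < (S : Subgroup C) := lt_of_le_of_ne hS fun h => hns (h ▸ hs)
      haveI := S.2.isNilpotent
      obtain ⟨⟨r, hrS⟩, hr, hrn⟩ := SetLike.exists_of_lt (Group.normalizerCondition_of_isNilpotent
        ((T.subgroupOf C).subgroupOf (S : Subgroup C))
        (lt_top_iff_ne_top.mpr fun h => hlt.not_ge (Subgroup.subgroupOf_eq_top.mp h)))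
      rw [Subgroup.mem_subgroupOf] at hrn
      have hzz : (⟨_, hTC hzyT⟩ : C) ∈ T.subgroupOf C := Subgroup.mem_subgroupOf.mpr hzyT
      have hzr := Subgroup.mem_subgroupOf.mp ((Subgroup.mem_normalizer_iff.mp hr
        ⟨⟨_, hTC hzyT⟩, hS hzz⟩).mp (Subgroup.mem_subgroupOf.mpr hzz))
      have hrH : (r : G) ∈ H :=
        E.conj_eq ((E.mem_J_W zy).mpr hzyJ) hzy1' (Subgroup.mem_subgroupOf.mp hzr).2
      exact hrn (Subgroup.mem_subgroupOf.mpr ⟨r.2.1, hrH⟩)
    set zG : G := ((e.symm zx : H) : G)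
    have hzGJ : zG ∈ J := (E.mem_J_W zx).mpr hzxJ
    have hzG1 : zG ≠ 1 := fun h => hzx1 (by
      rw [← e.apply_symm_apply zx, show e.symm zx = 1 from Subtype.ext h, map_one])
    have hzxx : zG * x = x * zG := by
      have := congrArg (fun w => ((e.symm w : H) : G)) hzxc
      simpa [zG] using this
    have hzC : (g : G) * zG * (g : G)⁻¹ ∈ C := by
      refine ⟨Subgroup.mem_centralizer_singleton_iff.mpr ?_,
        Subgroup.Normal.conj_mem inferInstance _ (hPK (hJP hzGJ)) _⟩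
      calc (g : G) * zG * (g : G)⁻¹ * ((g : G) * x * (g : G)⁻¹)
          = (g : G) * (zG * x) * (g : G)⁻¹ := by group
        _ = (g : G) * ((x : G) * zG) * (g : G)⁻¹ := by rw [hzxx]
        _ = _ := by rw [hy]; group
    have hzp : IsPGroup 3 (Subgroup.zpowers (⟨_, hzC⟩ : C)) := by
      obtain ⟨m, hm⟩ := hPp ⟨zG, hJP hzGJ⟩
      have hm' : zG ^ 3 ^ m = 1 := by simpa using congrArg Subtype.val hm
      rintro ⟨_, k, rfl⟩
      refine ⟨m, Subtype.ext ?_⟩
      show ((⟨_, hzC⟩ : C) ^ k) ^ (3 ^ m : ℕ) = 1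
      rw [← zpow_natCast, ← zpow_mul, mul_comm, zpow_mul, zpow_natCast,
        show (⟨_, hzC⟩ : C) ^ (3 ^ m : ℕ) = 1 from Subtype.ext (by
          show ((g : G) * zG * (g : G)⁻¹) ^ (3 ^ m : ℕ) = 1
          rw [conj_pow, hm', mul_one, mul_inv_cancel]), one_zpow]
    obtain ⟨S', hS'⟩ := hzp.exists_le_sylow
    obtain ⟨c, hc'⟩ := MulAction.exists_smul_eq C S' S
    have hmem : c * ⟨_, hzC⟩ * c⁻¹ ∈ (S : Subgroup C) := by
      rw [← hc']
      exact ⟨⟨_, hzC⟩, hS' (Subgroup.mem_zpowers _), rfl⟩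
    rw [hSeq, Subgroup.mem_subgroupOf] at hmem
    have hcg : (c : G) * g ∈ H := by
      refine E.conj_eq hzGJ hzG1 ?_
      have h' : (c : G) * ((g : G) * zG * (g : G)⁻¹) * (c : G)⁻¹ ∈ H := hmem.2
      rwa [show (c : G) * g * zG * ((c : G) * g)⁻¹ =
        (c : G) * ((g : G) * zG * (g : G)⁻¹) * (c : G)⁻¹ by group]
    refine ⟨⟨(c : G) * g, mul_mem c.2.2 g.2⟩, Subgroup.mem_subgroupOf.mpr hcg, Subtype.ext ?_⟩
    show (c : G) * g * x * ((c : G) * g)⁻¹ = y
    calc (c : G) * g * x * ((c : G) * g)⁻¹ = (c : G) * y * (c : G)⁻¹ := by rw [hy]; group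
      _ = y * c * (c : G)⁻¹ := by rw [Subgroup.mem_centralizer_singleton_iff.mp c.2.1]
      _ = y := by group
  have hfocal := CfsgLib.Transfer.commutator_inf_sylow_eq_of_controls PK (N := NK)
    (fun x hx => Subgroup.mem_subgroupOf.mpr (hPH hx)) hfus
  let rK : NK →* H :=
    { toFun := fun x => ⟨((x : K) : G), Subgroup.mem_subgroupOf.mp x.2⟩
      map_one' := rfl
      map_mul' := fun _ _ => rfl }
  have hker : ∀ x ∈ ⁅NK, NK⁆, ∀ hx : (x : G) ∈ H, isKer (clsW (e ⟨(x : G), hx⟩)) = true := by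
    intro x hx hxH
    have hle : ⁅NK, NK⁆ ≤ (kerSub.comap (e.toMonoidHom.comp rK)).map NK.subtype := by
      rw [Subgroup.commutator_le]
      intro p hp q hq
      refine ⟨⁅(⟨p, hp⟩ : NK), ⟨q, hq⟩⁆, ?_, map_commutatorElement NK.subtype _ _⟩
      show (e.toMonoidHom.comp rK) ⁅(⟨p, hp⟩ : NK), ⟨q, hq⟩⁆ ∈ kerSub
      rw [map_commutatorElement, mem_kerSub]
      exact isKer_comm (heven _ ((htr K (rK ⟨p, hp⟩)).mpr p.2))
        (heven _ ((htr K (rK ⟨q, hq⟩)).mpr q.2))
    obtain ⟨w, hw, hwx⟩ := hle hx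
    subst hwx
    exact mem_kerSub.mp hw
  haveI := trn ⁅K, K⁆ inferInstance
  have hLK : ⁅K, K⁆ ≤ K := Subgroup.commutator_le_self K
  obtain ⟨y1, hy1, hy1c⟩ := comm_four
  have haL : ⁅repW 4, y1⁆ ∈ tr ⁅K, K⁆ := by
    have e4 : repW 4 ∈ tr K := even_of_three (tr K) hrep1 hc1 hu hu3
      (by rw [clsW_repW (by norm_num)]; rfl)
    have e1 : y1 ∈ tr K := ker_of_one (tr K) hrep1 hc1 (by rw [hy1]; rfl)
    rw [mem_tr]
    have h := Subgroup.commutator_mem_commutator ((mem_tr K _).mp e4) ((mem_tr K _).mp e1)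
    rw [map_commutatorElement]
    show H.subtype ⁅e.symm (repW 4), e.symm y1⁆ ∈ ⁅K, K⁆
    rw [map_commutatorElement]
    exact h
  refine E.eq_top_of_ker ⁅K, K⁆ fun h => ⟨fun hh => ?_, fun hh => ?_⟩
  · by_contra hnk
    have hcls := heven _ ((htr K h).mpr (hLK hh))
    have hh3 : clsW (e h) = 4 ∨ clsW (e h) = 12 ∨ clsW (e h) = 13 := by
      simp [isEven] at hcls
      simp [isKer] at hnk
      omega
    obtain ⟨w, hwP, hw4⟩ := exists_P_four
    have hwL : ((e.symm w : H) : G) ∈ ⁅K, K⁆ := (mem_tr _ _).mp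
      (even_of_three (tr ⁅K, K⁆) haL hy1c ((htr _ h).mpr hh) hh3 (by rw [hw4]; rfl))
    set wK : K := ⟨((e.symm w : H) : G), hLK hwL⟩
    have hmem : wK ∈ commutator K ⊓ (PK : Subgroup K) := by
      refine ⟨?_, Subgroup.mem_subgroupOf.mpr ((memP (e.symm w)).mpr (by rwa [e.apply_symm_apply]))⟩
      rw [← Subgroup.map_subtype_commutator] at hwL
      obtain ⟨v, hv, hve⟩ := hwL
      exact (Subtype.ext hve : v = wK) ▸ hv
    rw [hfocal] at hmem
    have hk := hker wK hmem.1 (e.symm w).2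
    rw [show (⟨(wK : G), (e.symm w).2⟩ : H) = e.symm w from Subtype.ext rfl, e.apply_symm_apply,
      hw4] at hk
    simp [isKer] at hk
  · exact (htr _ h).mp (ker_of_one (tr ⁅K, K⁆) haL hy1c hh)

end CfsgLib.NineNormalizer
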